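import Cfsg.Agent.FT62.A5Facts
import Mathlib.GroupTheory.SpecificGroups.Alternating

/-!
# Facts on the two invariant four-groups of `A₅`
-/

set_option autoImplicit false

namespace Cfsg.Agent.LAE65.OneClass

open Cfsg.Agent.FT62

theorem card_A5 : Nat.card A5 = 60 := by
  rw [nat_card_alternatingGroup, Nat.card_fin]
  norm_num [Nat.factorial]

theorem exists_order_five : ∃ a : A5, orderOf a = 5 := by
  haveI := Fact.mk Nat.prime_five
  exact exists_prime_orderOf_dvd_card' 5 (by rw [card_A5]; norm_num)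

theorem four4_index : four4.index = 15 := by
  have h4 : Nat.card four4 = 4 := by
    show Nat.card {a : A5 // a * a = 1 ∧ (a : Equiv.Perm (Fin 5)) 4 = 4} = 4
    rw [Nat.card_eq_fintype_card]
    decide +kernel
  have := four4.card_mul_index
  rw [h4, card_A5] at this
  omega

theorem four3_index : four3.index = 15 := by
  rw [four3, Subgroup.index_map_of_bijective (MulAut.conj flp).bijective, four4_index]

theorem four_inf {a : A5} (h4 : a ∈ four4) (h3 : a ∈ four3) : a = 1 := by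
  rw [mem_four3] at h3
  have key : ∀ a : A5, a * a = 1 ∧ (a : Equiv.Perm (Fin 5)) 4 = 4 →
      a * a = 1 ∧ (a : Equiv.Perm (Fin 5)) 3 = 3 → a = 1 := by decide +kernel
  exact key a h4 h3

/-- `(0 1)(2 3)` -/
def w1 : A5 :=
  ⟨⟨![1, 0, 3, 2, 4], ![1, 0, 3, 2, 4], by decide, by decide⟩,
    Equiv.Perm.mem_alternatingGroup.mpr (by decide +kernel)⟩

/-- `(0 2)(1 4)` -/
def w2 : A5 :=
  ⟨⟨![2, 4, 0, 3, 1], ![2, 4, 0, 3, 1], by decide, by decide⟩,
    Equiv.Perm.mem_alternatingGroup.mpr (by decide +kernel)⟩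

/-- `(0 3)(1 2)` -/
def w3 : A5 :=
  ⟨⟨![3, 2, 1, 0, 4], ![3, 2, 1, 0, 4], by decide, by decide⟩,
    Equiv.Perm.mem_alternatingGroup.mpr (by decide +kernel)⟩

/-- `(0 1)(2 4)` -/
def w4 : A5 :=
  ⟨⟨![1, 0, 4, 3, 2], ![1, 0, 4, 3, 2], by decide, by decide⟩,
    Equiv.Perm.mem_alternatingGroup.mpr (by decide +kernel)⟩

/-- The two four-groups generate the element of order three. -/
theorem cyc_mem {S : Subgroup A5} (h4 : four4 ≤ S) (h3 : four3 ≤ S) : cyc ∈ S := by
  have e : cyc = w1 * w2 * w3 * w4 := by decide +kernel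
  have h1 : w1 ∈ four4 := by show _ ∧ _; decide +kernel
  have h1' : w3 ∈ four4 := by show _ ∧ _; decide +kernel
  have h2 : w2 ∈ four3 := by rw [mem_four3]; decide +kernel
  have h2' : w4 ∈ four3 := by rw [mem_four3]; decide +kernel
  rw [e]
  exact mul_mem (mul_mem (mul_mem (h4 h1) (h3 h2)) (h4 h1')) (h3 h2')

end Cfsg.Agent.LAE65.OneClass
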