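import Cfsg.Agent.FT62.Basic
import Cfsg.Agent.BC87.Sym6.Base

/-!
# The hypotheses: one class of self-centralising elements of order three

Factorisations of an element of order three into two of them correspond to the elements of
invariant subgroups of order prime to three.
-/

set_option autoImplicit false
set_option linter.unusedSectionVars false

namespace Cfsg.Agent.LAE65.OneClass

open Subgroup Cfsg.Agent.FT62

universe u

variable {G : Type u} [Group G]

/-- The hypotheses on `G`. -/
structure Hyp (G : Type u) [Group G] where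
  q : ℕ
  a : ℕ
  b : ℕ
  prime : q.Prime
  five_le : 5 ≤ q
  two_le : 2 ≤ b
  card : Nat.card G = 9 * (2 ^ a * q ^ b)
  simple : IsSimpleGroup G
  nc : ¬ IsMulCommutative G
  card_cent : ∀ y : G, orderOf y = 3 → Nat.card (centralizer ({y} : Set G)) = 9
  cube : ∀ y g : G, orderOf y = 3 → Commute g y → g ^ 3 = 1
  comm : ∀ y g g' : G, orderOf y = 3 → Commute g y → Commute g' y → Commute g g'
  conj : ∀ y y' : G, orderOf y = 3 → orderOf y' = 3 → IsConj y y'

theorem orderOf_eq_three {y : G} (h : y ^ 3 = 1) (h1 : y ≠ 1) : orderOf y = 3 := by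
  haveI := Fact.mk Nat.prime_three
  exact orderOf_eq_prime h h1

theorem not_three_mem {P : Subgroup G} (h3 : ¬ 3 ∣ Nat.card P) {y : G} (hy : y ∈ P)
    (hc : y ^ 3 = 1) : y = 1 := by
  by_contra hne
  exact h3 (orderOf_eq_three hc hne ▸ P.orderOf_dvd_natCard hy)

/-- `P` is invariant under `k` and has order prime to three. -/
structure Inv (k : G) (P : Subgroup G) : Prop where
  mem : ∀ n ∈ P, k * n * k⁻¹ ∈ P
  coprime : ¬ 3 ∣ Nat.card P

/-- The nontrivial elements of invariant subgroups of order prime to three. -/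
def U (k : G) : Set G := {x | x ≠ 1 ∧ ∃ P, Inv k P ∧ x ∈ P}

theorem Inv.bot [Finite G] (k : G) : Inv k (⊥ : Subgroup G) :=
  ⟨fun n hn => by simp [mem_bot.mp hn], by simp⟩

namespace Hyp

variable [Finite G] (H : Hyp G) {k : G}
include H

theorem three_dvd {g : G} (h : 3 ∣ orderOf g) : orderOf g = 3 := by
  obtain ⟨n, hn⟩ := h
  have hn0 : n ≠ 0 := by rintro rfl; exact (orderOf_pos g).ne' (by simpa using hn)
  have hy : orderOf (g ^ n) = 3 := by
    rw [orderOf_pow_of_dvd hn0 ⟨3, by rw [hn, mul_comm]⟩, hn, Nat.mul_div_cancel _ (by omega)]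
  have h3 := H.cube _ g hy ((Commute.refl g).pow_right n)
  refine orderOf_eq_three h3 fun e => ?_
  rw [e, one_pow, orderOf_one] at hy
  norm_num at hy

theorem fpf (hk : orderOf k = 3) {P : Subgroup G} (hP : Inv k P) : Fpf3 k P where
  cube := by rw [← pow_three', ← hk]; exact pow_orderOf_eq_one k
  mem := hP.mem
  fpf n hn he := not_three_mem hP.coprime hn
    (H.cube k n hk (mul_inv_eq_iff_eq_mul.mp he).symm)

theorem notMem (hk : orderOf k = 3) {P : Subgroup G} (hP : Inv k P) : k ∉ P := fun h =>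
  hP.coprime (hk ▸ P.orderOf_dvd_natCard h)

theorem pairs_val_aux (hk : orderOf k = 3) {P : Subgroup G} (hP : Inv k P) {x : G} (hx : x ∈ P) :
    (x * k⁻¹) ^ 3 = 1 ∧ (x * k) ^ 3 = 1 := by
  have hf := H.fpf hk hP
  have hk' : k⁻¹ = k * k := inv_eq_of_mul_eq_one_right (by rw [← mul_assoc]; exact hf.cube)
  have hn := hf.norm_eq_one hx
  have hn' : x * (k⁻¹ * x * k) * (k * x * k⁻¹) = 1 := by
    have hc : Commute (k * x * k⁻¹) (k⁻¹ * x * k) := by
      have h1 := hf.comm (hf.mem _ hx)
      rwa [show k * (k * x * k⁻¹) * k⁻¹ = k⁻¹ * x * k by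
        rw [hk']; simp only [mul_assoc]
        have := hf.cube
        simp [← mul_assoc, this]] at h1
    rw [mul_assoc] at hn ⊢
    rwa [← hc.eq]
  have hk3 : k * k * k = 1 := hf.cube
  constructor
  · have : (x * k⁻¹) ^ 3 = x * (k⁻¹ * x * k) * (k⁻¹ * k⁻¹ * x * (k * k)) * (k * k * k)⁻¹ := by
      rw [pow_three']; group
    rw [this, hk3, inv_one, mul_one,
      show k⁻¹ * k⁻¹ * x * (k * k) = k * x * k⁻¹ by
        rw [show k⁻¹ * k⁻¹ = k by rw [← mul_inv_rev, ← hk', inv_inv], ← hk']]
    exact hn'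
  · have : (x * k) ^ 3 = x * (k * x * k⁻¹) * (k * k * x * (k * k)⁻¹) * (k * k * k) := by
      rw [pow_three']; group
    rw [this, hk3, mul_one, show k * k * x * (k * k)⁻¹ = k⁻¹ * x * k by rw [← hk', inv_inv]]
    exact hn

/-- Two elements of order three with product `k`, not both commuting with `k`, come from an
invariant abelian subgroup. -/
theorem mem_U (hk : orderOf k = 3) {y : G} (hy : y ^ 3 = 1) (hy' : (y⁻¹ * k) ^ 3 = 1)
    (hc : ¬ Commute y k) : y * k ∈ U k := by
  refine ⟨fun e => hc ?_, ?_⟩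
  · rw [eq_inv_of_mul_eq_one_left e]; exact (Commute.refl k).inv_left
  have hk3 : k ^ 3 = 1 := hk ▸ pow_orderOf_eq_one k
  have h : (k⁻¹ * y) ^ 3 = 1 := by
    rw [show k⁻¹ * y = (y⁻¹ * k)⁻¹ by group, inv_pow, hy', inv_one]
  obtain ⟨hcm, hrel⟩ := BC87.Sym6.tri_rel (x := k⁻¹) (y := y) (by rw [inv_pow, hk3, inv_one]) hy h
  rw [inv_inv] at hcm hrel
  set u := k⁻¹ * y⁻¹ with hu
  set u' := k⁻¹ * u * k with hu'
  set P := closure ({u, u'} : Set G) with hP
  have huP : u ∈ P := subset_closure (by simp)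
  have hu'P : u' ∈ P := subset_closure (by simp)
  have hstep : ∀ n ∈ P, k⁻¹ * n * k ∈ P := by
    intro n hn
    induction hn using closure_induction with
    | mem z hz =>
      rcases hz with rfl | rfl
      · exact hu'P
      · rw [hrel]
        exact inv_mem (mul_mem huP hu'P)
    | one => simp
    | mul a b _ _ ha hb =>
      rw [show k⁻¹ * (a * b) * k = (k⁻¹ * a * k) * (k⁻¹ * b * k) by group]
      exact mul_mem ha hb
    | inv a _ ha =>
      rw [show k⁻¹ * a⁻¹ * k = (k⁻¹ * a * k)⁻¹ by group]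
      exact inv_mem ha
  have hmem : ∀ n ∈ P, k * n * k⁻¹ ∈ P := fun n hn => by
    have h2 := hstep _ (hstep n hn)
    have e : k⁻¹ * k⁻¹ = k := by
      rw [pow_three'] at hk3
      rw [← mul_inv_rev]
      exact inv_eq_of_mul_eq_one_right hk3
    rwa [show k⁻¹ * (k⁻¹ * n * k) * k = (k⁻¹ * k⁻¹) * n * (k⁻¹ * k⁻¹)⁻¹ by
      simp only [mul_inv_rev, inv_inv, mul_assoc], e] at h2
  haveI : IsMulCommutative P := isMulCommutative_closure (by
    intro a ha b hb
    rcases ha with rfl | rfl <;> rcases hb with rfl | rfl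
    exacts [rfl, hcm.eq, hcm.symm.eq, rfl])
  refine ⟨P, ⟨hmem, fun h3 => hc ?_⟩, ?_⟩
  · haveI := Fact.mk Nat.prime_three
    obtain ⟨t, ht⟩ := exists_prime_orderOf_dvd_card' 3 h3
    have ht' : orderOf (t : G) = 3 := by rw [Subgroup.orderOf_coe]; exact ht
    have hct : ∀ z ∈ P, Commute z (t : G) := fun z hz =>
      congrArg Subtype.val (mul_comm' (⟨z, hz⟩ : P) t)
    have hu3 : u ^ 3 = 1 := H.cube _ u ht' (hct u huP)
    have hu'3 : u' ^ 3 = 1 := H.cube _ u' ht' (hct u' hu'P)
    have hkey : Commute k u := by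
      set t₀ := u⁻¹ * u' with ht₀
      have hfix : k⁻¹ * t₀ * k = t₀ := by
        have key : ∀ r r' : G, Commute r r' → r' ^ 3 = 1 → r'⁻¹ * (r * r')⁻¹ = r⁻¹ * r' := by
          intro r r' hcr hr'
          rw [pow_three'] at hr'
          calc r'⁻¹ * (r * r')⁻¹ = (r' * r')⁻¹ * r⁻¹ := by group
            _ = r' * r⁻¹ := by rw [inv_eq_of_mul_eq_one_right hr']
            _ = r⁻¹ * r' := hcr.inv_left.eq.symm
        calc k⁻¹ * t₀ * k = (k⁻¹ * u * k)⁻¹ * (k⁻¹ * u' * k) := by rw [ht₀]; group
          _ = u'⁻¹ * (u * u')⁻¹ := by rw [hrel]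
          _ = t₀ := key u u' hcm hu'3
      by_cases h1 : t₀ = 1
      · have : k⁻¹ * u * k = u := (inv_mul_eq_one.mp h1).symm
        show k * u = u * k
        calc k * u = k * (k⁻¹ * u * k) := by rw [this]
          _ = u * k := by group
      · refine H.comm t₀ k u (orderOf_eq_three ?_ h1) ?_ ?_
        · rw [ht₀, hcm.inv_left.mul_pow, inv_pow, hu3, hu'3, inv_one, one_mul]
        · show k * t₀ = t₀ * k
          calc k * t₀ = k * (k⁻¹ * t₀ * k) := by rw [hfix]
            _ = t₀ * k := by group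
        · exact (Commute.refl u).inv_right.mul_right hcm
    have hy2 : y = (u⁻¹ * k⁻¹) := by rw [hu]; group
    rw [hy2]
    exact (hkey.symm.inv_left).mul_left (Commute.refl k).inv_left
  · rw [show y * k = u⁻¹ by rw [hu]; group]
    exact inv_mem huP

/-- The number of factorisations of `k` into two elements of order three. -/
theorem card_pairs (hk : orderOf k = 3) :
    Nat.card {p : G × G // IsConj k p.1 ∧ IsConj k p.2 ∧ p.1 * p.2 = k} = 7 + Nat.card (U k) := by
  classical
  set A : Set G := {y | IsConj k y ∧ IsConj k (y⁻¹ * k)} with hA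
  have e1 : Nat.card {p : G × G // IsConj k p.1 ∧ IsConj k p.2 ∧ p.1 * p.2 = k} = A.ncard := by
    rw [← Nat.card_coe_set_eq]
    refine Nat.card_congr
      { toFun := fun p => ⟨p.1.1, p.2.1, ?_⟩
        invFun := fun y => ⟨(y.1, y.1⁻¹ * k), y.2.1, y.2.2, by group⟩
        left_inv := fun p => ?_
        right_inv := fun y => rfl }
    · have := p.2.2.2
      rw [inv_mul_eq_of_eq_mul this.symm]
      exact p.2.2.1
    · refine Subtype.ext (Prod.ext rfl ?_)
      have := p.2.2.2
      exact inv_mul_eq_of_eq_mul this.symm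
  have hord : ∀ {y : G}, IsConj k y → orderOf y = 3 := fun {y} h => by
    obtain ⟨g, rfl⟩ := isConj_iff.mp h
    rw [← MulAut.conj_apply, MulEquiv.orderOf_eq, hk]
  have hconj : ∀ {y : G}, y ^ 3 = 1 → y ≠ 1 → IsConj k y := fun h h1 =>
    H.conj k _ hk (orderOf_eq_three h h1)
  set C : Set G := (centralizer ({k} : Set G) : Set G) with hC
  have hk1 : k ≠ 1 := fun e => by rw [e, orderOf_one] at hk; norm_num at hk
  have hmemC : ∀ y, y ∈ C ↔ Commute y k := fun y => mem_centralizer_singleton_iff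
  have h7 : A ∩ C = C \ {1, k} := by
    ext y
    simp only [hA, Set.mem_inter_iff, Set.mem_ofPred_eq, Set.mem_sdiff, Set.mem_insert_iff,
      Set.mem_singleton_iff, hmemC, not_or]
    constructor
    · rintro ⟨⟨h1, h2⟩, hc⟩
      refine ⟨hc, fun e => ?_, fun e => ?_⟩
      · have := hord h1; rw [e, orderOf_one] at this; norm_num at this
      · have := hord h2; rw [e, inv_mul_cancel, orderOf_one] at this; norm_num at this
    · rintro ⟨hc, h1, h2⟩
      refine ⟨⟨hconj (H.cube k y hk hc) h1, hconj (H.cube k _ hk ?_) ?_⟩, hc⟩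
      · exact hc.inv_left.mul_left (Commute.refl k)
      · exact fun e => h2 (inv_mul_eq_one.mp e)
  have hrest : A \ C = (fun x => x * k⁻¹) '' U k := by
    ext y
    constructor
    · rintro ⟨⟨h1, h2⟩, hc⟩
      refine ⟨y * k, H.mem_U hk ?_ ?_ (fun h => hc ((hmemC y).mpr h)), by group⟩
      · rw [← hord h1]; exact pow_orderOf_eq_one _
      · rw [← hord h2]; exact pow_orderOf_eq_one _
    · rintro ⟨x, ⟨hx1, P, hP, hx⟩, rfl⟩
      have hnc : ¬ Commute x k := fun h => hx1 (not_three_mem hP.coprime hx (H.cube k x hk h))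
      refine ⟨⟨hconj (H.pairs_val_aux hk hP hx).1 ?_, hconj ?_ ?_⟩, ?_⟩
      · exact fun e => H.notMem hk hP (mul_inv_eq_one.mp e ▸ hx)
      · have := (H.pairs_val_aux hk hP (inv_mem (hP.mem x hx))).2
        have e : (x * k⁻¹)⁻¹ * k = (k * x * k⁻¹)⁻¹ * (k * k) := by group
        show ((x * k⁻¹)⁻¹ * k) ^ 3 = 1
        rw [show (x * k⁻¹)⁻¹ * k = k * x⁻¹ * k from by group]
        have e2 : ((k * x * k⁻¹)⁻¹ * k) ^ 3 = 1 := this
        have e3 : ((k * x * k⁻¹)⁻¹ * k) = k * x⁻¹ := by group
        rw [e3] at e2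
        -- `k x⁻¹ k` is handled through its conjugate `x⁻¹ k²`
        have e4 := (H.pairs_val_aux hk hP (inv_mem hx)).1
        have hk2 : k⁻¹ = k * k := inv_eq_of_mul_eq_one_right (by
          rw [← mul_assoc]; exact (H.fpf hk hP).cube)
        rw [hk2, ← mul_assoc] at e4
        have e5 : k * x⁻¹ * k = k * (x⁻¹ * k * k) * k⁻¹ := by group
        rw [e5, conj_pow, e4]
        group
      · intro e
        apply H.notMem hk hP
        have e' : x = k * k := by
          have : x * k⁻¹ = k := inv_mul_eq_one.mp e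
          calc x = (x * k⁻¹) * k := by group
            _ = k * k := by rw [this]
        have : k⁻¹ ∈ P := by
          rw [inv_eq_of_mul_eq_one_right (show k * (k * k) = 1 by
            rw [← mul_assoc]; exact (H.fpf hk hP).cube), ← e']
          exact hx
        simpa using inv_mem this
      · rw [hmemC]
        intro h
        exact hnc (by simpa using h.mul_left (Commute.refl k))
  have hcard : (A ∩ C).ncard = 7 := by
    rw [h7, Set.ncard_sdiff]
    · rw [hC, Nat.card_coe_set_eq _ |>.symm, show Nat.card (centralizer ({k} : Set G) : Set G) = 9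
        from H.card_cent k hk, Set.ncard_pair (Ne.symm hk1)]
    · intro z hz
      rcases hz with rfl | rfl
      · exact one_mem _
      · exact mem_centralizer_singleton_iff.mpr rfl
  rw [e1, ← Set.ncard_inter_add_ncard_sdiff_eq_ncard A C, hcard, hrest,
    Set.ncard_image_of_injective _ (fun x x' h => mul_right_cancel h), Nat.card_coe_set_eq]

end Hyp

end Cfsg.Agent.LAE65.OneClass
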