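import Cfsg.Agent.LAE65.OneClass.Common

/-!
# An invariant `2`-subgroup of order above four
-/

set_option autoImplicit false
set_option linter.unusedSectionVars false
set_option linter.style.haveILetI false

namespace Cfsg.Agent.LAE65.OneClass

open Subgroup Cfsg.Agent.FT62

universe u

variable {G : Type u} [Group G] [Finite G]

/-- `X` with an involution normalising it. -/
def extendByInvolution (X : Subgroup G) (s : G) (hs : s * s = 1)
    (hn : ∀ x ∈ X, s * x * s ∈ X) : Subgroup G where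
  carrier := {t | t ∈ X ∨ t * s ∈ X}
  one_mem' := Or.inl X.one_mem
  mul_mem' := by
    rintro a b (ha | ha) (hb | hb)
    · exact Or.inl (mul_mem ha hb)
    · exact Or.inr (by rw [mul_assoc]; exact mul_mem ha hb)
    · refine Or.inr ?_
      have := mul_mem ha (hn b hb)
      rwa [show a * s * (s * b * s) = a * (s * s) * b * s by group, hs, mul_one] at this
    · refine Or.inl ?_
      have := mul_mem ha (hn _ hb)
      rwa [show a * s * (s * (b * s) * s) = a * (s * s) * b * (s * s) by group, hs, mul_one,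
        mul_one] at this
  inv_mem' := by
    rintro a (ha | ha)
    · exact Or.inl (inv_mem ha)
    · refine Or.inr ?_
      have := hn _ (inv_mem ha)
      have hinv : s⁻¹ = s := inv_eq_of_mul_eq_one_right hs
      rwa [mul_inv_rev, hinv, show s * (s * a⁻¹) * s = (s * s) * a⁻¹ * s by group, hs,
        one_mul] at this

theorem Struct.cg {k : G} {X T : Subgroup G} (S : Struct k X T) (g : G) :
    Struct (g * k * g⁻¹) (FT62.cg g X) (FT62.cg g T) where
  inv := S.inv.cg g
  two := S.two.map _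
  le := cg_mono S.le
  norm t ht x hx := by
    rw [mem_cg] at ht hx ⊢
    have := S.norm _ ht _ hx
    rwa [show g⁻¹ * (t * x * t⁻¹) * g = g⁻¹ * t * g * (g⁻¹ * x * g) * (g⁻¹ * t * g)⁻¹ by group]
  idx t ht t' ht' htX ht'X := by
    rw [mem_cg] at ht ht' htX ht'X ⊢
    have := S.idx _ ht _ ht' htX ht'X
    rwa [show g⁻¹ * (t * t') * g = g⁻¹ * t * g * (g⁻¹ * t' * g) by group]
  inverts t ht htX := by
    rw [mem_cg] at ht htX
    obtain ⟨n, hn, e⟩ := S.inverts _ ht htX
    refine ⟨g * n * g⁻¹, conj_mem_cg.mpr hn, ?_⟩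
    calc t * (g * k * g⁻¹) * t⁻¹ = g * ((g⁻¹ * t * g) * k * (g⁻¹ * t * g)⁻¹) * g⁻¹ := by group
      _ = g * (n * k⁻¹) * g⁻¹ := by rw [e]
      _ = g * n * g⁻¹ * (g * k * g⁻¹)⁻¹ := by group

namespace Hyp

variable (H : Hyp G) {k : G}
include H

theorem exists_inverting (hk : orderOf k = 3) {K : Subgroup G} (hK : IsMax k K)
    (hr : K.relIndex (normalizer (K : Set G)) = 6) :
    ∃ s ∈ normalizer (K : Set G), s * s = 1 ∧ s ∉ K ∧ s * k * s⁻¹ = k⁻¹ := by
  haveI : Fact (Nat.Prime 2) := ⟨Nat.prime_two⟩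
  set M := normalizer (K : Set G) with hM
  haveI : (K.subgroupOf M).Normal := normal_subgroupOf_of_le_normalizer le_rfl
  set π := QuotientGroup.mk' (K.subgroupOf M)
  have hmul := relIndex_mul_card (le_normalizer (H := K))
  rw [← hM] at hmul
  rw [hr] at hmul
  obtain ⟨t, ht⟩ : ∃ t : M, (∃ i, t ^ (2 ^ i) = 1) ∧ π t ≠ 1 := by
    by_contra hc
    push Not at hc
    let S : Sylow 2 M := default
    have hS : (S : Subgroup M) ≤ K.subgroupOf M := by
      intro t ht
      obtain ⟨i, hi⟩ := S.isPGroup' ⟨t, ht⟩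
      exact (QuotientGroup.eq_one_iff t).mp (hc t ⟨i, congrArg Subtype.val hi⟩)
    have hd := card_dvd_of_le hS
    rw [Nat.card_congr (subgroupOfEquivOfLe (le_normalizer (H := K))).toEquiv] at hd
    have hS2 := (S : Subgroup M).index_mul_card
    have hodd : ¬ 2 ∣ (S : Subgroup M).index := S.not_dvd_index
    obtain ⟨c, hc'⟩ := hd
    rw [← hmul, hc'] at hS2
    have : (S : Subgroup M).index = 6 * c :=
      Nat.eq_of_mul_eq_mul_right Nat.card_pos (hS2.trans (by ring))
    omega
  obtain ⟨⟨i, hi⟩, hπ⟩ := ht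
  have hy : orderOf ((t : G) * k * (t : G)⁻¹) = 3 := by
    rw [← MulAut.conj_apply, MulEquiv.orderOf_eq, hk]
  obtain ⟨m, hm, he⟩ := H.exists_conj_of_mem_normalizer hk hK hy
    (mul_mem (mul_mem t.2 hK.inv.mem_normalizer) (inv_mem t.2))
  set w : G := m⁻¹ * (t : G) with hw
  have hwM : w ∈ M := mul_mem (inv_mem (le_normalizer hm)) t.2
  have hπw : π ⟨w, hwM⟩ = π t := by
    refine QuotientGroup.eq.mpr ?_
    rw [mem_subgroupOf]
    show w⁻¹ * (t : G) ∈ K
    have h : (t : G)⁻¹ * m * (t : G) ∈ K := by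
      have := (mem_normalizer_iff.mp (inv_mem t.2 : (t : G)⁻¹ ∈ M) m).mp hm
      rwa [inv_inv] at this
    rwa [hw, show (m⁻¹ * (t : G))⁻¹ * (t : G) = (t : G)⁻¹ * m * (t : G) by group]
  rcases he with e | e
  · exfalso
    apply hπ
    have hc : Commute w k := by
      show w * k = k * w
      calc w * k = m⁻¹ * ((t : G) * k * (t : G)⁻¹) * (t : G) := by rw [hw]; group
        _ = k * w := by rw [e, hw]; group
    have h3 : π t ^ 3 = 1 := by
      rw [← hπw, ← map_pow, show (⟨w, hwM⟩ : M) ^ 3 = 1 from Subtype.ext (H.cube k w hk hc),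
        map_one]
    have h2 : π t ^ (2 ^ i) = 1 := by rw [← map_pow, hi, map_one]
    refine orderOf_eq_one_iff.mp (Nat.eq_one_of_dvd_one ?_)
    have hc' : Nat.Coprime 3 (2 ^ i) := Nat.Coprime.pow_right _ (by norm_num)
    exact hc' ▸ Nat.dvd_gcd (orderOf_dvd_of_pow_eq_one h3) (orderOf_dvd_of_pow_eq_one h2)
  · have hwk : w * k * w⁻¹ = k⁻¹ := by
      calc w * k * w⁻¹ = m⁻¹ * ((t : G) * k * (t : G)⁻¹) * m := by rw [hw]; group
        _ = k⁻¹ := by rw [e]; group
    have hw2 : Commute (w * w) k := by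
      have e2 : (w * w) * k * (w * w)⁻¹ = k := by
        calc (w * w) * k * (w * w)⁻¹ = w * (w * k * w⁻¹) * w⁻¹ := by group
          _ = w * k⁻¹ * w⁻¹ := by rw [hwk]
          _ = (w * k * w⁻¹)⁻¹ := by group
          _ = k := by rw [hwk, inv_inv]
      exact mul_inv_eq_iff_eq_mul.mp e2
    have h6 : (w * w) ^ 3 = 1 := H.cube k _ hk hw2
    have hsk : w * w * w * k * (w * w * w)⁻¹ = k⁻¹ := by
      calc w * w * w * k * (w * w * w)⁻¹ = (w * w) * (w * k * w⁻¹) * (w * w)⁻¹ := by group
        _ = (w * w) * k⁻¹ * (w * w)⁻¹ := by rw [hwk]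
        _ = ((w * w) * k * (w * w)⁻¹)⁻¹ := conj_inv.symm
        _ = k⁻¹ := by rw [hw2.eq, mul_inv_cancel_right]
    refine ⟨w * w * w, mul_mem (mul_mem hwM hwM) hwM, ?_, fun hs => ?_, hsk⟩
    · rw [← h6, pow_three']; group
    · set s := w * w * w
      have h1 : s * (k * s⁻¹ * k⁻¹) ∈ K := mul_mem hs (hK.inv.mem _ (inv_mem hs))
      rw [show s * (k * s⁻¹ * k⁻¹) = (s * k * s⁻¹) * k⁻¹ by group, hsk] at h1
      refine H.notMem hk hK.inv ?_
      have h3 : k * k * k = 1 := (H.fpf hk hK.inv).cube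
      rwa [← mul_inv_rev, inv_eq_of_mul_eq_one_right h3] at h1

theorem exists_struct (hk : orderOf k = 3) {K : Subgroup G} (hK : IsMax k K) :
    ∃ T, Struct k (part 2 K) T ∧ T ≤ normalizer (K : Set G) ∧
      Nat.card T * 3 = Nat.card (part 2 K) * K.relIndex (normalizer (K : Set G)) := by
  classical
  haveI : Fact (Nat.Prime 2) := ⟨Nat.prime_two⟩
  have hX := H.part_inv hk hK.inv (p := 2)
  rcases (H.normalizer_data hk hK).1 with hr | hr
  · refine ⟨part 2 K, ⟨hX, isPGroup_part 2 K, le_rfl,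
      fun t ht x hx => mul_mem (mul_mem ht hx) (inv_mem ht),
      fun t ht _ _ h _ => absurd ht h, fun t ht h => absurd ht h⟩,
      (part_le 2 K).trans le_normalizer, by rw [hr]⟩
  · obtain ⟨s, hsN, hss, hsK, hsk⟩ := H.exists_inverting hk hK hr
    have hinv : s⁻¹ = s := inv_eq_of_mul_eq_one_right hss
    have hn : ∀ x ∈ part 2 K, s * x * s ∈ part 2 K := fun x hx => by
      have := (mem_normalizer_iff.mp (H.normalizer_le_part hk hK.inv (p := 2) hsN) x).mp hx
      rwa [hinv] at this
    set T := extendByInvolution (part 2 K) s hss hn with hT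
    have hsX : s ∉ part 2 K := fun h => hsK (part_le 2 K h)
    let f : part 2 K × Bool → T := fun p =>
      ⟨if p.2 then (p.1 : G) else (p.1 : G) * s, by
        split
        · exact Or.inl p.1.2
        · exact Or.inr (by rw [mul_assoc, hss, mul_one]; exact p.1.2)⟩
    have hf : Function.Bijective f := by
      constructor
      · rintro ⟨x, b⟩ ⟨y, c⟩ h
        have h' : (if b then (x : G) else (x : G) * s) = if c then (y : G) else (y : G) * s :=
          congrArg Subtype.val h
        cases b <;> cases c <;> simp only [Bool.false_eq_true, if_false, if_true] at h'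
        · rw [Subtype.ext (mul_right_cancel h')]
        · exact absurd (show s ∈ part 2 K by
            rw [show s = (x : G)⁻¹ * (y : G) by rw [← h']; group]
            exact mul_mem (inv_mem x.2) y.2) hsX
        · exact absurd (show s ∈ part 2 K by
            rw [show s = (y : G)⁻¹ * (x : G) by rw [h']; group]
            exact mul_mem (inv_mem y.2) x.2) hsX
        · rw [Subtype.ext h']
      · rintro ⟨t, ht⟩
        by_cases h : t ∈ part 2 K
        · exact ⟨(⟨t, h⟩, true), rfl⟩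
        · exact ⟨(⟨t * s, ht.resolve_left h⟩, false), Subtype.ext (by
            show t * s * s = t
            rw [mul_assoc, hss, mul_one])⟩
    have hcard : Nat.card T = Nat.card (part 2 K) * 2 := by
      rw [← Nat.card_eq_of_bijective f hf, Nat.card_prod, Nat.card_eq_fintype_card (α := Bool),
        Fintype.card_bool]
    refine ⟨T, ⟨hX, ?_, fun x hx => Or.inl hx, ?_, ?_, ?_⟩, ?_, by rw [hr, hcard]; ring⟩
    · obtain ⟨i, hi, -⟩ := H.two_part_cases hk hK.inv
      exact IsPGroup.of_card (n := i + 1) (by rw [hcard, hi, pow_succ])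
    · rintro t ht x hx
      by_cases h : t ∈ part 2 K
      · exact mul_mem (mul_mem h hx) (inv_mem h)
      · have h' := ht.resolve_left h
        have := mul_mem (mul_mem h' (hn x hx)) (inv_mem h')
        rwa [show t * s * (s * x * s) * (t * s)⁻¹ = t * (s * s) * x * t⁻¹ by group, hss,
          mul_one] at this
    · rintro t ht t' ht' h h'
      have := mul_mem (ht.resolve_left h) (hn _ (ht'.resolve_left h'))
      rwa [show t * s * (s * (t' * s) * s) = t * (s * s) * t' * (s * s) by group, hss, mul_one,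
        mul_one] at this
    · rintro t ht h
      set x := t * s with hx
      have hxX : x ∈ part 2 K := ht.resolve_left h
      refine ⟨x * (k⁻¹ * x⁻¹ * k), mul_mem hxX (hX.mem' (inv_mem hxX)), ?_⟩
      have e : t = x * s := by rw [hx, mul_assoc, hss, mul_one]
      calc t * k * t⁻¹ = x * (s * k * s⁻¹) * x⁻¹ := by rw [e]; group
        _ = x * (k⁻¹ * x⁻¹ * k) * k⁻¹ := by rw [hsk]; group
    · rintro t (h | h)
      · exact le_normalizer (part_le 2 K h)
      · have := mul_mem (le_normalizer (part_le 2 K h)) hsN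
        rwa [mul_assoc, hss, mul_one] at this

/-- For a large `2`-part, the `2`-group of the structure is a Sylow subgroup. -/
theorem struct_sylow (hk : orderOf k = 3) {K : Subgroup G} (hK : IsMax k K)
    (hlt : 4 < Nat.card (part 2 K)) :
    ∃ T, Struct k (part 2 K) T ∧ (∃ P : Sylow 2 G, (P : Subgroup G) = T) ∧
      Nat.card T * 3 = Nat.card (part 2 K) * K.relIndex (normalizer (K : Set G)) ∧
      Nat.card T = 2 ^ H.a := by
  haveI : Fact (Nat.Prime 2) := ⟨Nat.prime_two⟩
  obtain ⟨T, hS, hTN, hcard⟩ := H.exists_struct hk hK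
  obtain ⟨P, hP⟩ := hS.two.exists_le_sylow
  have hne : part 2 K ≠ ⊥ := fun e => by rw [e, card_bot] at hlt; omega
  have hPT : T = (P : Subgroup G) := by
    rcases hP.eq_or_lt with h | h
    · exact h
    exfalso
    haveI : Group.IsNilpotent (P : Subgroup G) := P.isPGroup'.isNilpotent
    have hlt' := FT62.Setting.lt_inf_normalizer inferInstance h
    have hle : (P : Subgroup G) ⊓ normalizer (T : Set G) ≤ normalizer (K : Set G) := by
      rintro g ⟨-, hg⟩
      have hS' := hS.cg g
      rw [cg_eq_self_iff.mpr hg] at hS'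
      have hle' := Struct.le_of_lt hS (H.fpf hk hS.inv) hS'
        (H.fpf (by rw [← MulAut.conj_apply, MulEquiv.orderOf_eq, hk]) hS'.inv) hlt
      rw [← H.normalizer_part hk hK hne, ← cg_eq_self_iff]
      exact (Subgroup.eq_of_le_of_card_ge hle' (by rw [card_cg])).symm
    have hd := card_dvd_of_le hle
    rw [← relIndex_mul_card (le_normalizer (H := K)), H.card_eq_parts hK.inv.coprime] at hd
    obtain ⟨l, hl⟩ := (P.isPGroup'.to_le (inf_le_left :
      (P : Subgroup G) ⊓ normalizer (T : Set G) ≤ P)).exists_card_eq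
    have hc : Nat.Coprime (2 ^ l) (3 * Nat.card (part H.q K)) := by
      refine Nat.Coprime.pow_left _ ((Nat.prime_two.coprime_iff_not_dvd).mpr fun h => ?_)
      rcases Nat.prime_two.dvd_mul.mp h with h | h
      · norm_num at h
      · haveI : Fact H.q.Prime := ⟨H.prime⟩
        obtain ⟨j, hj⟩ := (isPGroup_part H.q K).exists_card_eq
        rw [hj] at h
        exact H.q_ne_two
          ((Nat.prime_dvd_prime_iff_eq Nat.prime_two H.prime).mp (Nat.prime_two.dvd_of_dvd_pow h)).symm
    rw [hl] at hd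
    have hd' : 2 ^ l ∣ Nat.card T := by
      refine hc.dvd_of_dvd_mul_right ?_
      rwa [show Nat.card T * (3 * Nat.card (part H.q K)) =
        K.relIndex (normalizer (K : Set G)) * (Nat.card (part 2 K) * Nat.card (part H.q K)) by
          rw [← mul_assoc, hcard]; ring]
    have hle2 := Nat.le_of_dvd Nat.card_pos hd'
    rw [← hl] at hle2
    exact hlt'.ne (Subgroup.eq_of_le_of_card_ge hlt'.le hle2)
  refine ⟨T, hS, ⟨P, hPT.symm⟩, hcard, ?_⟩
  rw [hPT, P.card_eq_multiplicity, H.card]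
  congr 1
  rw [Nat.factorization_mul (by norm_num)
    (Nat.mul_ne_zero (pow_ne_zero _ two_ne_zero) (pow_ne_zero _ H.prime.ne_zero)),
    Nat.factorization_mul (pow_ne_zero _ two_ne_zero) (pow_ne_zero _ H.prime.ne_zero),
    Nat.prime_two.factorization_pow, H.prime.factorization_pow, show (9 : ℕ) = 3 ^ 2 by norm_num,
    Nat.prime_three.factorization_pow]
  simp [H.q_ne_two]

/-- A large `2`-part leaves no room for a `q`-part. -/
theorem part_q_bot_of_lt (hk : orderOf k = 3) {K : Subgroup G} (hK : IsMax k K)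
    (hlt : 4 < Nat.card (part 2 K)) : part H.q K = ⊥ := by
  by_contra hq
  obtain ⟨T, -, -, hcard, hT⟩ := H.struct_sylow hk hK hlt
  obtain ⟨hQ, hn⟩ := H.sylow_part hk hK hq
  obtain ⟨-, hidx⟩ := H.count hk hK
  rw [H.card_eq_parts hK.inv.coprime, hQ] at hidx
  rw [hT] at hcard
  set n := (normalizer (K : Set G)).index
  have h3 : n * (3 * (2 ^ H.a * H.q ^ H.b)) = 3 * (3 * (2 ^ H.a * H.q ^ H.b)) := by
    calc n * (3 * (2 ^ H.a * H.q ^ H.b))
        = n * ((2 ^ H.a * 3) * H.q ^ H.b) := by ring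
      _ = n * (K.relIndex (normalizer (K : Set G)) * (Nat.card (part 2 K) * H.q ^ H.b)) := by
        rw [hcard]; ring
      _ = _ := by rw [hidx]; ring
  have hn3 : n = 3 := Nat.eq_of_mul_eq_mul_right (by have := H.prime.pos; positivity) h3
  rw [hn3, Nat.mod_eq_of_lt (by have := H.five_le; omega)] at hn
  omega

/-- A large maximal invariant `2`-subgroup. -/
structure IsBig (k : G) (X : Subgroup G) : Prop where
  max : IsMax k X
  two : IsPGroup 2 X
  lt : 4 < Nat.card X

theorem IsBig.part_eq (hk : orderOf k = 3) {X : Subgroup G} (hX : IsBig k X) : part 2 X = X := by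
  haveI : Fact (Nat.Prime 2) := ⟨Nat.prime_two⟩
  exact le_antisymm (part_le 2 X) (H.le_part hk hX.max.inv hX.two le_rfl)

/-- Large maximal subgroups are conjugate. -/
theorem conj_big (hk : orderOf k = 3) {X X' : Subgroup G} (hX : IsBig k X) (hX' : IsBig k X') :
    ∃ g, cg g X = X' := by
  haveI : Fact (Nat.Prime 2) := ⟨Nat.prime_two⟩
  have e := IsBig.part_eq H hk hX
  have e' := IsBig.part_eq H hk hX'
  obtain ⟨T, hS, ⟨P, hP⟩, -, -⟩ := H.struct_sylow hk hX.max (by rw [e]; exact hX.lt)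
  obtain ⟨T', hS', ⟨P', hP'⟩, -, -⟩ := H.struct_sylow hk hX'.max (by rw [e']; exact hX'.lt)
  rw [e] at hS
  rw [e'] at hS'
  obtain ⟨g, hg⟩ := MulAction.exists_smul_eq G P P'
  have hT : cg g T = T' := by
    rw [← hP, ← hP', ← hg]
    rfl
  have hSg := hS.cg g
  rw [hT] at hSg
  have hf := H.fpf (by rw [← MulAut.conj_apply, MulEquiv.orderOf_eq, hk]) hSg.inv
  exact ⟨g, le_antisymm (Struct.le_of_lt hSg hf hS' (H.fpf hk hS'.inv) (by rw [card_cg]; exact hX.lt))
    (Struct.le_of_lt hS' (H.fpf hk hS'.inv) hSg hf hX'.lt)⟩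

/-- Next to a large maximal subgroup every nontrivial `2`-part is large. -/
theorem part_two_lt (hk : orderOf k = 3) {X : Subgroup G} (hX : IsBig k X) {K : Subgroup G}
    (hK : IsMax k K) (hne : part 2 K ≠ ⊥) : 4 < Nat.card (part 2 K) := by
  haveI : Fact (Nat.Prime 2) := ⟨Nat.prime_two⟩
  by_contra hle
  have hV := H.part_inv hk hK.inv (p := 2)
  have h4 : Nat.card (part 2 K) = 4 := by
    have := H.card_mod_three hk hV
    have hne1 : Nat.card (part 2 K) ≠ 1 := fun e => hne (Subgroup.eq_bot_of_card_eq _ e)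
    omega
  obtain ⟨T, hS, ⟨P, hP⟩, -, -⟩ :=
    H.struct_sylow hk hX.max (by rw [IsBig.part_eq H hk hX]; exact hX.lt)
  obtain ⟨P', hP'⟩ := (isPGroup_part 2 K).exists_le_sylow
  obtain ⟨g, hg⟩ := MulAction.exists_smul_eq G P' P
  have hle' : cg g (part 2 K) ≤ T := by
    rw [← hP, ← hg]
    exact cg_mono hP'
  refine Struct.false_of_four hS (H.fpf hk hS.inv) (by rw [IsBig.part_eq H hk hX]; exact hX.lt)
    hle' (by rw [card_cg, h4]) (fun x hx => ?_) (fun t ht htc => ?_)
  · rw [mem_cg] at hx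
    have := H.four_sq hk hV h4 hx
    calc x * x = g * ((g⁻¹ * x * g) * (g⁻¹ * x * g)) * g⁻¹ := by group
      _ = 1 := by rw [this]; group
  · rw [mem_cg]
    have hy : g⁻¹ * t * g ∈ cg g⁻¹ T ⊓ centralizer (part 2 K : Set G) := by
      refine ⟨(mem_cg.mpr (by simpa [mul_assoc] using ht) : g⁻¹ * t * g ∈ cg g⁻¹ T),
        mem_centralizer_iff.mpr fun v hv => ?_⟩
      have hc := htc _ (conj_mem_cg.mpr hv : g * v * g⁻¹ ∈ cg g (part 2 K))
      calc v * (g⁻¹ * t * g) = g⁻¹ * ((g * v * g⁻¹) * t) * g := by group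
        _ = g⁻¹ * (t * (g * v * g⁻¹)) * g := by rw [hc.eq]
        _ = _ := by group
    refine H.le_part hk hK.inv ?_ ?_ hy
    · exact (hS.two.map _ : IsPGroup 2 (cg g⁻¹ T)).to_le inf_le_left
    · exact inf_le_right.trans (H.centralizer_part_le hk hK hne)

/-- The dichotomy next to a large maximal subgroup. -/
theorem big_or_q (hk : orderOf k = 3) {X : Subgroup G} (hX : IsBig k X) {K : Subgroup G}
    (hK : IsMax k K) :
    (IsBig k K ∧ part H.q K = ⊥) ∨ (part 2 K = ⊥ ∧ part H.q K ≠ ⊥) := by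
  haveI : Fact (Nat.Prime 2) := ⟨Nat.prime_two⟩
  by_cases h2 : part 2 K = ⊥
  · exact Or.inr ⟨h2, (H.exists_part_ne_bot hK).resolve_left fun h => h h2⟩
  · have hlt := H.part_two_lt hk hX hK h2
    have hq := H.part_q_bot_of_lt hk hK hlt
    obtain ⟨he, hp⟩ := H.twos_eq_part hk hK hq
    exact Or.inl ⟨⟨hK, hp, he ▸ hlt⟩, hq⟩

theorem mem_twos_big (hk : orderOf k = 3) {X : Subgroup G} (hX : IsBig k X) {K : Subgroup G} :
    K ∈ H.twos k ↔ IsBig k K := by
  rw [mem_twos]
  constructor
  · rintro ⟨hK, hq⟩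
    rcases H.big_or_q hk hX hK with h | h
    exacts [h.1, absurd hq h.2]
  · intro hK
    refine ⟨hK.max, H.part_q_bot_of_lt hk hK.max ?_⟩
    rw [IsBig.part_eq H hk hK]
    exact hK.lt

/-- A maximal subgroup with a `q`-part meets every other one trivially. -/
theorem q_inter (hk : orderOf k = 3) {X : Subgroup G} (hX : IsBig k X) {K K' : Subgroup G}
    (hK : IsMax k K) (hK' : IsMax k K') (hq : part H.q K ≠ ⊥) (hne : K ≠ K') : K ⊓ K' = ⊥ := by
  by_contra hD
  haveI : Fact (Nat.Prime 2) := ⟨Nat.prime_two⟩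
  obtain ⟨U, -, -, hle, -, D, L1, L2, hA⟩ := H.exists_a5_of_inter hk _ K K' le_rfl hK hK' hne hD
  rcases H.big_or_q hk hX hK with h | h
  · exact hq h.2
  · have hp : IsPGroup 2 ↥(K ⊓ K') := hA.two1.to_le (hle.trans (hA.le_D.trans hA.le1))
    exact hD (le_bot_iff.mp (h.1 ▸ H.le_part hk hK.inv hp inf_le_left))

/-- The number and order of large maximal subgroups. -/
theorem big_family (hk : orderOf k = 3) {X : Subgroup G} (hX : IsBig k X) :
    (∀ X' ∈ H.twos k, Nat.card X' = Nat.card X) ∧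
      ((H.twos k).card = 6 ∧ Nat.card X = 2 ^ H.a ∨
        (H.twos k).card = 3 ∧ 2 * Nat.card X = 2 ^ H.a) := by
  classical
  obtain ⟨hmr, -⟩ := H.count hk hX.max
  have hmem : ∀ L, (∃ g, cg g X = L ∧ k ∈ normalizer (L : Set G)) ↔ L ∈ H.twos k := by
    intro L
    rw [H.mem_twos_big hk hX]
    constructor
    · rintro ⟨g, rfl, hg⟩
      exact ⟨(H.isMax_conj hk hX.max hg).1, hX.two.map _, by rw [card_cg]; exact hX.lt⟩
    · intro hL
      obtain ⟨g, hg⟩ := H.conj_big hk hX hL
      exact ⟨g, hg, hL.max.inv.mem_normalizer⟩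
  have hm : Nat.card {L : Subgroup G // ∃ g, cg g X = L ∧ k ∈ normalizer (L : Set G)} =
      (H.twos k).card := by
    rw [← Nat.card_eq_finsetCard]
    exact Nat.card_congr (Equiv.subtypeEquivRight hmem)
  rw [hm] at hmr
  obtain ⟨T, -, -, hcard, hT⟩ :=
    H.struct_sylow hk hX.max (by rw [IsBig.part_eq H hk hX]; exact hX.lt)
  rw [IsBig.part_eq H hk hX, hT] at hcard
  refine ⟨fun X' hX' => ?_, ?_⟩
  · obtain ⟨g, rfl, -⟩ := (hmem X').mpr hX'
    exact card_cg g X
  · rcases (H.normalizer_data hk hX.max).1 with h | h <;> rw [h] at hmr hcard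
    · exact Or.inl ⟨by omega, by omega⟩
    · exact Or.inr ⟨by omega, by omega⟩

end Hyp

end Cfsg.Agent.LAE65.OneClass
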