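import Cfsg.Agent.LAE65.OneClass.Search

/-!
# The tables: no degree pattern fits the counts
-/

set_option autoImplicit false

namespace Cfsg.Agent.LAE65.OneClass

/-- The pairs (value, degree) of the characters other than the trivial one. -/
structure Pat (T N : ℕ) (v : ℤ) where
  L : List (ℤ × ℕ)
  dvd : ∀ x ∈ L, x.2 ∣ T
  val : ∀ x ∈ L, x.1 = 1 ∨ x.1 = -1 ∨ x.1 = 2 ∨ x.1 = -2
  cong : ∀ x ∈ L, (9 : ℤ) ∣ (x.2 : ℤ) - x.1
  fix_nonneg : ∀ x ∈ L, 0 ≤ (x.2 : ℤ) + 8 * x.1
  ne_val : ∀ x ∈ L, (x.2 : ℤ) ≠ x.1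
  weight : (L.map fun x => x.1.natAbs ^ 2).sum = 8
  degree : 1 + (L.map fun x => x.1 * (x.2 : ℤ)).sum = 0
  count : (T : ℤ) + (L.map fun x => x.1 ^ 3 * ((T / x.2 : ℕ) : ℤ)).sum = 9 * v
  squares : 1 + (L.map fun x => x.2 ^ 2).sum ≤ N

/-- Candidates. -/
def cands (q a b : ℕ) : List (ℤ × ℕ × ℕ) :=
  (List.range (b + 1)).reverse.flatMap fun j => (List.range (a + 1)).reverse.flatMap fun i =>
    ([1, -1, 2, -2] : List ℤ).filterMap fun (c : ℤ) =>
      if 2 ^ i * q ^ j * (2 ^ i * q ^ j) ≤ 9 * (2 ^ a * q ^ b) ∧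
          (((2 ^ i * q ^ j : ℕ) : ℤ) - c) % 9 = 0 ∧ 0 ≤ ((2 ^ i * q ^ j : ℕ) : ℤ) + 8 * c ∧
          ((2 ^ i * q ^ j : ℕ) : ℤ) ≠ c then
        some (c, 2 ^ i * q ^ j, 2 ^ (a - i) * q ^ (b - j))
      else none

/-- The test for one set of parameters. -/
def chk (q a b v : ℕ) : Bool :=
  if 72 * v < 2 ^ a * q ^ b then false
  else go (9 * (2 ^ a * q ^ b)) (build (cands q a b)) 8 1 (9 * (v : ℤ) - (2 ^ a * q ^ b : ℕ)) 1

theorem Pat.dvd_le {T N : ℕ} {v : ℤ} (P : Pat T N v) {x : ℤ × ℕ} (hx : x ∈ P.L) : x.2 ^ 2 ≤ N := by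
  have h : x.2 ^ 2 ≤ (P.L.map fun x => x.2 ^ 2).sum :=
    List.le_sum_of_mem (List.mem_map.mpr ⟨x, hx, rfl⟩)
  have := P.squares
  omega

/-- A lower bound for `Σ c³ / d`. -/
theorem Pat.le_count {T N : ℕ} (hT : 0 < T) {v : ℤ} (P : Pat T N v) : (T : ℤ) ≤ 72 * v := by
  have hterm : ∀ x ∈ P.L,
      0 ≤ 8 * (x.1 ^ 3 * ((T / x.2 : ℕ) : ℤ)) + (x.1.natAbs ^ 2 : ℕ) * (T : ℤ) := by
    intro x hx
    obtain ⟨k, hk⟩ := P.dvd x hx
    have hd : 0 < x.2 := by
      rcases Nat.eq_zero_or_pos x.2 with h | h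
      · rw [h, zero_mul] at hk; omega
      · exact h
    have hdiv : T / x.2 = k := by rw [hk, Nat.mul_div_cancel_left _ hd]
    rw [hdiv, hk]
    have hfix := P.fix_nonneg x hx
    push_cast
    have hk0 : (0 : ℤ) ≤ k := Int.natCast_nonneg k
    have hsq : (0 : ℤ) ≤ x.1 ^ 2 := sq_nonneg _
    have := mul_nonneg (mul_nonneg hsq hk0) hfix
    nlinarith [sq_abs x.1]
  obtain ⟨x₀, hx₀, hpos⟩ : ∃ x ∈ P.L, 0 < x.1 := by
    by_contra hno
    push Not at hno
    have hle : ∀ x ∈ P.L, x.1 * (x.2 : ℤ) ≤ -8 := by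
      intro x hx
      have h1 := hno x hx
      have h2 := P.fix_nonneg x hx
      have h3 : x.1 ≤ -1 := by
        rcases P.val x hx with h | h | h | h <;> omega
      nlinarith
    have hne : P.L ≠ [] := fun h => by simpa [h] using P.weight
    obtain ⟨y, r, hL⟩ := List.exists_cons_of_ne_nil hne
    have hd := P.degree
    rw [hL, List.map_cons, List.sum_cons] at hd
    have := hle y (hL ▸ List.mem_cons_self ..)
    have : (r.map fun x => x.1 * (x.2 : ℤ)).sum ≤ 0 :=
      (List.sum_le_sum (g := fun _ => (0 : ℤ)) fun x hx => by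
        have := hle x (hL ▸ List.mem_cons_of_mem _ hx)
        omega).trans (by simp)
    omega
  have h2 : (T : ℤ) ≤ (P.L.map fun x =>
      8 * (x.1 ^ 3 * ((T / x.2 : ℕ) : ℤ)) + (x.1.natAbs ^ 2 : ℕ) * (T : ℤ)).sum := by
    refine le_trans ?_ (List.single_le_sum (fun y hy => by
      obtain ⟨x, hx, rfl⟩ := List.mem_map.mp hy
      exact hterm x hx) _ (List.mem_map.mpr ⟨x₀, hx₀, rfl⟩))
    have h1 : (0 : ℤ) ≤ x₀.1 ^ 3 * ((T / x₀.2 : ℕ) : ℤ) :=
      mul_nonneg (pow_nonneg hpos.le 3) (Int.natCast_nonneg _)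
    have h4 : 1 ≤ ((x₀.1.natAbs ^ 2 : ℕ) : ℤ) := by
      exact_mod_cast Nat.one_le_pow _ _ (Int.natAbs_pos.mpr hpos.ne')
    nlinarith [Int.natCast_nonneg T]
  have h3 : (P.L.map fun x => ((x.1.natAbs ^ 2 : ℕ) : ℤ) * (T : ℤ)).sum = 8 * (T : ℤ) := by
    rw [List.sum_map_mul_right]
    have := congrArg (fun n : ℕ => (n : ℤ)) P.weight
    simp only [Nat.cast_list_sum, List.map_map, Function.comp_def] at this
    rw [this]
    norm_num
  rw [List.sum_map_add, List.sum_map_mul_left, h3] at h2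
  have := P.count
  linarith

theorem chk_of_pat {q a b v : ℕ} (hq : q.Prime)
    (P : Pat (2 ^ a * q ^ b) (9 * (2 ^ a * q ^ b)) v) : chk q a b v = true := by
  have hT : 0 < 2 ^ a * q ^ b := by have := hq.pos; positivity
  have hlow := P.le_count hT
  rw [chk, if_neg (by have : ((2 ^ a * q ^ b : ℕ) : ℤ) ≤ ((72 * v : ℕ) : ℤ) := by push_cast; exact_mod_cast hlow
                      have := Int.ofNat_le.mp this
                      omega)]
  have hc : ∀ x ∈ cands q a b, x.1 ≠ 0 := by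
    intro x hx
    simp only [cands, List.mem_flatMap, List.mem_filterMap] at hx
    obtain ⟨j, -, i, -, c, hc, hx⟩ := hx
    split at hx
    · cases Option.some_injective _ hx
      fin_cases hc <;> norm_num
    · exact absurd hx (by simp)
  refine go_of_fits _ _ hc _ _ _ _
    ⟨P.L.map fun x => (x.1, x.2, 2 ^ a * q ^ b / x.2), ?_, ?_, ?_, ?_, ?_⟩
  · intro y hy
    obtain ⟨x, hx, rfl⟩ := List.mem_map.mp hy
    obtain ⟨k, l, hk, hl, hkl⟩ : ∃ k l, k ∣ 2 ^ a ∧ l ∣ q ^ b ∧ x.2 = k * l := by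
      obtain ⟨k, l, hk, hl, h⟩ := exists_dvd_and_dvd_of_dvd_mul (P.dvd x hx)
      exact ⟨k, l, hk, hl, h⟩
    obtain ⟨i, hi, rfl⟩ := (Nat.dvd_prime_pow Nat.prime_two).mp hk
    obtain ⟨j, hj, rfl⟩ := (Nat.dvd_prime_pow hq).mp hl
    simp only [cands, List.mem_flatMap, List.mem_filterMap, List.mem_reverse, List.mem_range]
    refine ⟨j, by omega, i, by omega, x.1, ?_, ?_⟩
    · rcases P.val x hx with h | h | h | h <;> simp [h]
    · rw [if_pos]
      · rw [Option.some.injEq, Prod.mk.injEq, Prod.mk.injEq]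
        refine ⟨rfl, hkl.symm, ?_⟩
        rw [hkl, Nat.div_eq_of_eq_mul_left (by have := hq.pos; positivity)]
        calc 2 ^ a * q ^ b = 2 ^ (a - i + i) * q ^ (b - j + j) := by
              rw [Nat.sub_add_cancel hi, Nat.sub_add_cancel hj]
          _ = 2 ^ (a - i) * q ^ (b - j) * (2 ^ i * q ^ j) := by ring
      · rw [← hkl]
        refine ⟨?_, ?_, P.fix_nonneg x hx, P.ne_val x hx⟩
        · have := P.dvd_le hx; rwa [sq] at this
        · exact Int.emod_eq_zero_of_dvd (P.cong x hx)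
  · rw [List.map_map]; exact P.weight
  · rw [List.map_map]; exact P.degree
  · rw [List.map_map]
    have := P.count
    simp only [Function.comp_def]
    push_cast at this ⊢
    linarith
  · rw [List.map_map]; exact P.squares

/-- A decidable necessary condition for primality. -/
def primeLike (q : ℕ) : Bool :=
  (List.range 80).all fun d => decide (d < 2) || decide (q < d * d) || decide (q % d ≠ 0)

theorem primeLike_of_prime {q : ℕ} (hq : q.Prime) : primeLike q = true := by
  simp only [primeLike, List.all_eq_true, Bool.or_eq_true, decide_eq_true_eq, List.mem_range]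
  intro d _
  by_contra h
  push Not at h
  obtain ⟨⟨h2, hdd⟩, hmod⟩ := h
  rcases hq.eq_one_or_self_of_dvd d (Nat.dvd_of_mod_eq_zero hmod) with h1 | h1
  · omega
  · subst h1
    have := Nat.mul_le_mul_right d h2
    omega

/-- Candidates for a prime congruent to the index of its normaliser. -/
def qs (n : ℕ) : List ℕ :=
  (List.range n).filter fun q => decide (5 ≤ q) && decide (n % q = 1) && primeLike q

theorem mem_qs {q n : ℕ} (hq : q.Prime) (h5 : 5 ≤ q) (hn : n % q = 1) (h1 : n ≠ 1) : q ∈ qs n := by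
  simp only [qs, List.mem_filter, List.mem_range, Bool.and_eq_true, decide_eq_true_eq]
  refine ⟨?_, ⟨h5, hn⟩, primeLike_of_prime hq⟩
  by_contra h
  push Not at h
  rcases Nat.lt_or_ge n q with h' | h'
  · exact h1 ((Nat.mod_eq_of_lt h').symm.trans hn)
  · have : n = q := by omega
    subst this
    rw [Nat.mod_self] at hn
    omega

/-- No invariant `2`-subgroup of order above four, and no `q`-part. -/
def smallNone (a : ℕ) : Bool :=
  (List.range 37).all fun i => (List.range 92).all fun q =>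
    !(decide (5 ≤ q) && primeLike q) || (List.range 7).all fun b =>
      decide (b < 2) || decide (2 ^ a * q ^ b > 8280) || !chk q a b (7 + 3 * i)

/-- No invariant `2`-subgroup of order above four; the `q`-part is `r` times a Sylow subgroup. -/
def smallQ (a : ℕ) : Bool :=
  ([(3, 1), (6, 1), (3, 4), (6, 4)] : List (ℕ × ℕ)).all fun mr =>
    (qs (mr.1 * 2 ^ a / (2 * mr.2))).all fun q => (List.range 15).all fun b =>
      decide (b < 2) || decide (q ^ b % 3 ≠ 1) ||
        (List.range 37).all fun i =>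
          decide (q ^ b > 9 * 2 ^ a * (7 + 3 * i) * (7 + 3 * i)) ||
            !chk q a b (7 + 3 * i + mr.1 * (mr.2 * q ^ b - 1))

/-- The count of invariant `2`-elements. -/
def bigJs (a : ℕ) : List (ℕ × Bool) :=
  [(6 * (2 ^ a - 1), false), (3 * (2 ^ (a - 1) - 1), false)] ++
    (if 6 < a then [(21 * 2 ^ (a - 2) - 3, true)] else []) ++
    (if a = 6 then (List.range 334).map fun j => (j, true) else []) ++
    (if a = 7 then (List.range 167).map fun j => (j, true) else [])

/-- An invariant `2`-subgroup of order at least `16`, and no invariant `q`-subgroup. -/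
def bigNone (a : ℕ) : Bool :=
  (List.range 32).all fun q => !(decide (5 ≤ q) && primeLike q) || (List.range 7).all fun b =>
    decide (b < 2) || decide (q ^ b > 1000) || (bigJs a).all fun j =>
      (j.2 && decide (q ≠ 5)) || !chk q a b (7 + j.1)

/-- An invariant `2`-subgroup of order at least `16` and invariant `q`-subgroups. -/
def bigQ (a : ℕ) : Bool :=
  ([3, 6] : List ℕ).all fun m =>
    ((if a ≤ 9 then qs (m * 2 ^ a / 2) else
        (List.range 30).filter fun q =>
          decide (5 ≤ q) && decide (m * 2 ^ a / 2 % q = 1) && primeLike q)).all fun q =>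
      (List.range 17).all fun b =>
        decide (b < 2) || decide (q ^ b % 3 ≠ 1) || (decide (9 < a) && decide (q ^ b > 865)) ||
          (bigJs a).all fun j =>
            (j.2 && decide (q ≠ 5)) || decide (q ^ b > 9 * 2 ^ a * ((7 + j.1) * (7 + j.1))) ||
              !chk q a b (7 + j.1 + m * (q ^ b - 1))

end Cfsg.Agent.LAE65.OneClass
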