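import Cfsg.Agent.LAE65.OneClass.Base
import Cfsg.Agent.LAE65.OneClass.Table
import Cfsg.Agent.U33Uniq31.Chars
import Cfsg.Agent.Lib.SmallGroups.SelfCent.Two

/-!
# The degree pattern of the characters not vanishing on elements of order three
-/

set_option autoImplicit false
set_option linter.unusedSectionVars false
set_option linter.style.haveILetI false

namespace Cfsg.Agent.LAE65.OneClass

open Subgroup SmallGroups SmallGroups.SelfCent BlocksCore
open scoped ComplexConjugate

universe u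

variable {G : Type u} [Group G] [Fintype G]

namespace Hyp

variable (H : Hyp G) {k : G}
include H

theorem conj_value (hk : orderOf k = 3) (χ : Cfsg.IrrCharacter G) :
    conj ((χ : G → ℂ) k) = (χ : G → ℂ) k := by
  rw [← CharCore.irr_apply_inv]
  obtain ⟨g, hg⟩ := isConj_iff.mp (H.conj k k⁻¹ hk (by rw [orderOf_inv, hk]))
  rw [← hg]
  exact (CharCore.irr_isClassFunction χ) k g

theorem exists_value (hk : orderOf k = 3) (χ : Cfsg.IrrCharacter G) :
    ∃ c : ℤ, (χ : G → ℂ) k = c ∧ (9 : ℤ) ∣ (Setup.deg χ : ℤ) - c ∧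
      0 ≤ (Setup.deg χ : ℤ) + 8 * c := by
  classical
  obtain ⟨c, hc, -, -, -⟩ := U33Uniq31.exists_value_three χ
    (show k ^ 3 = 1 by rw [← hk]; exact pow_orderOf_eq_one k) (H.conj_value hk χ)
  obtain ⟨j, hj⟩ := U33Uniq31.exists_sum_subgroup χ (centralizer ({k} : Set G))
  have hval : ∀ g : centralizer ({k} : Set G), g ≠ 1 → (χ : G → ℂ) g = c := by
    intro g hg
    have hg3 : orderOf (g : G) = 3 := orderOf_eq_three
      (H.cube k g hk (mem_centralizer_singleton_iff.mp g.2)) (fun e => hg (Subtype.ext e))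
    obtain ⟨y, hy⟩ := isConj_iff.mp (H.conj k g hk hg3)
    rw [← hc, ← hy]
    exact (CharCore.irr_isClassFunction χ) k y
  have hcard : Fintype.card (centralizer ({k} : Set G)) = 9 := by
    rw [← Nat.card_eq_fintype_card]; exact H.card_cent k hk
  have hsum : ∑ g : centralizer ({k} : Set G), (χ : G → ℂ) g = (Setup.deg χ : ℂ) + 8 * c := by
    rw [← Finset.add_sum_erase _ _ (Finset.mem_univ 1),
      Finset.sum_congr rfl fun g hg => hval g (Finset.ne_of_mem_erase hg)]
    simp [(Setup.deg_spec χ).2.2, hcard]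
  rw [H.card_cent k hk, hsum] at hj
  have h9 : (Setup.deg χ : ℤ) + 8 * c = 9 * (j : ℤ) := by exact_mod_cast hj
  exact ⟨c, hc, ⟨j - c, by linarith⟩, by omega⟩

theorem exists_pat (hk : orderOf k = 3) :
    Nonempty (Pat (2 ^ H.a * H.q ^ H.b) (9 * (2 ^ H.a * H.q ^ H.b))
      ((7 + Nat.card (U k) : ℕ) : ℤ)) := by
  classical
  haveI := H.simple
  choose c hc hdvd hfix using fun χ : Cfsg.IrrCharacter G => H.exists_value hk χ
  set T := 2 ^ H.a * H.q ^ H.b with hT
  have hTpos : 0 < T := by have := H.prime.pos; positivity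
  have hN : Nat.card G = 9 * T := H.card
  have hk1 : k ≠ 1 := fun e => by rw [e, orderOf_one] at hk; norm_num at hk
  -- the weight
  have hnine : ∑ χ : Cfsg.IrrCharacter G, c χ ^ 2 = 9 := by
    have h := CharCore.sum_apply_mul_conj k k
    rw [if_pos (IsConj.refl k), H.card_cent k hk] at h
    simp only [H.conj_value hk, hc] at h
    apply Int.cast_injective (α := ℂ)
    push_cast
    refine Eq.trans (Finset.sum_congr rfl fun χ _ => ?_) (h.trans (by norm_num))
    rw [map_intCast]; ring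
  have htriv : c Setup.triv = 1 := by
    apply Int.cast_injective (α := ℂ)
    rw [← hc]
    simp [Setup.triv]
  have hdtriv : Setup.deg (Setup.triv : Cfsg.IrrCharacter G) = 1 :=
    (SelfCent.deg_eq_one_iff H.nc _).mpr rfl
  set S : Finset (Cfsg.IrrCharacter G) :=
    (Finset.univ.erase Setup.triv).filter fun χ => c χ ≠ 0 with hS
  have split : ∀ f : Cfsg.IrrCharacter G → ℤ, (∀ χ, c χ = 0 → f χ = 0) →
      ∑ χ, f χ = f Setup.triv + ∑ χ ∈ S, f χ := by
    intro f hf
    rw [← Finset.add_sum_erase _ _ (Finset.mem_univ (Setup.triv : Cfsg.IrrCharacter G)), hS,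
      Finset.sum_filter_of_ne]
    exact fun χ _ h e => h (hf χ e)
  -- column orthogonality
  have hzero : ∑ χ : Cfsg.IrrCharacter G, c χ * (Setup.deg χ : ℤ) = 0 := by
    have h := CharCore.sum_apply_mul_conj k 1
    rw [if_neg (fun h => hk1 (isConj_one_left.mp h))] at h
    simp only [(Setup.deg_spec _).2.2, Complex.conj_natCast, hc] at h
    exact_mod_cast h
  have hcube : ∀ χ ∈ S, ¬ 3 ∣ Setup.deg χ := by
    intro χ hχ h3
    obtain ⟨hne, hc0⟩ := Finset.mem_filter.mp hχ
    obtain ⟨hne, -⟩ := Finset.mem_erase.mp hne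
    have h9 := hdvd χ
    have h3c : (3 : ℤ) ∣ c χ := by
      obtain ⟨r, hr⟩ := h9
      obtain ⟨r', hr'⟩ := h3
      exact ⟨(r' : ℤ) - 3 * r, by omega⟩
    have hle : c χ ^ 2 + c Setup.triv ^ 2 ≤ 9 := by
      rw [← hnine, split _ (fun χ h => by simp [h]), add_comm]
      exact add_le_add le_rfl (Finset.single_le_sum (f := fun χ => c χ ^ 2)
        (fun i _ => sq_nonneg _) hχ)
    rw [htriv] at hle
    obtain ⟨r, hr⟩ := h3c
    rcases lt_trichotomy r 0 with h | h | h
    · nlinarith
    · exact hc0 (by rw [hr, h, mul_zero])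
    · nlinarith
  have hdT : ∀ χ ∈ S, Setup.deg χ ∣ T := fun χ hχ => by
    have h := hN ▸ (Setup.deg_spec χ).2.1
    exact (Nat.Coprime.pow_right 2 ((Nat.prime_three.coprime_iff_not_dvd.mpr (hcube χ hχ)).symm)
      : (Setup.deg χ).Coprime (3 ^ 2)).dvd_of_dvd_mul_left (by simpa using h)
  have hsmall : ∀ χ ∈ S, c χ = 1 ∨ c χ = -1 ∨ c χ = 2 ∨ c χ = -2 := by
    intro χ hχ
    have hle : c χ ^ 2 + c Setup.triv ^ 2 ≤ 9 := by
      rw [← hnine, split _ (fun χ h => by simp [h]), add_comm]
      exact add_le_add le_rfl (Finset.single_le_sum (f := fun χ => c χ ^ 2)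
        (fun i _ => sq_nonneg _) hχ)
    rw [htriv] at hle
    have h1 : c χ ≤ 2 := by nlinarith
    have h2 : -2 ≤ c χ := by nlinarith
    have := (Finset.mem_filter.mp hχ).2
    omega
  -- the structure constant
  have hcount : 9 * ((7 + Nat.card (U k) : ℕ) : ℤ) =
      ∑ χ ∈ S, c χ ^ 3 * ((T / Setup.deg χ : ℕ) : ℤ) + (T : ℤ) := by
    have h := SelfCent.card_pairs_mul_card k k
    rw [H.card_pairs hk] at h
    have hidx : (centralizer ({k} : Set G)).index = T := by
      have := (centralizer ({k} : Set G)).card_mul_index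
      rw [H.card_cent k hk, hN] at this
      omega
    rw [hidx] at h
    have hterm : ∀ χ : Cfsg.IrrCharacter G,
        (T : ℂ) * ((χ : G → ℂ) k ^ 2 / (χ : G → ℂ) 1 * conj ((χ : G → ℂ) k)) =
          ((c χ ^ 3 * ((T / Setup.deg χ : ℕ) : ℤ) : ℤ) : ℂ) := by
      intro χ
      rw [H.conj_value hk, hc, (Setup.deg_spec χ).2.2]
      have hd0 : (Setup.deg χ : ℂ) ≠ 0 := Nat.cast_ne_zero.mpr (Setup.deg_spec χ).1.ne'
      by_cases h0 : c χ = 0
      · simp [h0]
      have hdvdT : Setup.deg χ ∣ T := by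
        by_cases he : χ = Setup.triv
        · rw [he, hdtriv]; exact one_dvd _
        · exact hdT χ (Finset.mem_filter.mpr ⟨Finset.mem_erase.mpr ⟨he, Finset.mem_univ _⟩, h0⟩)
      obtain ⟨r, hr⟩ := hdvdT
      rw [hr, Nat.mul_div_cancel_left _ (Setup.deg_spec χ).1]
      push_cast
      field_simp
    have h2 : ((7 + Nat.card (U k) : ℕ) : ℂ) * 9 = ∑ χ : Cfsg.IrrCharacter G,
        ((c χ ^ 3 * ((T / Setup.deg χ : ℕ) : ℤ) : ℤ) : ℂ) := by
      rw [← Finset.sum_congr rfl fun χ _ => hterm χ, ← Finset.mul_sum]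
      apply mul_right_cancel₀ (Nat.cast_ne_zero.mpr hTpos.ne' : (T : ℂ) ≠ 0)
      rw [hN] at h
      push_cast at h ⊢
      linear_combination h
    rw [← Int.cast_sum] at h2
    have h3 : ((7 + Nat.card (U k) : ℕ) : ℤ) * 9 = ∑ χ : Cfsg.IrrCharacter G,
        c χ ^ 3 * ((T / Setup.deg χ : ℕ) : ℤ) := by exact_mod_cast h2
    rw [split _ (fun χ h => by simp [h]), htriv, hdtriv, Nat.div_one] at h3
    linarith
  have hsq : 1 + ∑ χ ∈ S, Setup.deg χ ^ 2 ≤ 9 * T := by
    have h := CharCore.sum_degree_sq (G := G)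
    simp only [(Setup.deg_spec _).2.2] at h
    have h' : ∑ χ : Cfsg.IrrCharacter G, Setup.deg χ ^ 2 = Nat.card G := by exact_mod_cast h
    rw [← hN, ← h', ← Finset.add_sum_erase _ _ (Finset.mem_univ (Setup.triv : Cfsg.IrrCharacter G)),
      hdtriv, one_pow]
    exact Nat.add_le_add_left (Finset.sum_le_sum_of_subset (Finset.filter_subset _ _)) _
  refine ⟨⟨S.toList.map fun χ => (c χ, Setup.deg χ), ?_, ?_, ?_, ?_, ?_, ?_, ?_, ?_, ?_⟩⟩
  iterate 5
    · intro x hx
      obtain ⟨χ, hχ, rfl⟩ := List.mem_map.mp hx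
      rw [Finset.mem_toList] at hχ
      first
        | exact hdT χ hχ
        | exact hsmall χ hχ
        | exact hdvd χ
        | exact hfix χ
        | exact fun e => by
            have hne := (Finset.mem_erase.mp (Finset.mem_filter.mp hχ).1).1
            refine SelfCent.value_ne_deg hne hk1 ?_
            rw [hc, ← Int.cast_natCast, show ((Setup.deg χ : ℕ) : ℤ) = c χ from e]
  · have h := hnine
    rw [split _ (fun χ h => by simp [h]), htriv] at h
    rw [List.map_map]
    simp only [Function.comp_def, Finset.sum_map_toList]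
    have : ((∑ χ ∈ S, (c χ).natAbs ^ 2 : ℕ) : ℤ) = 8 := by
      push_cast
      simp only [sq_abs]
      linarith
    exact_mod_cast this
  · have h := hzero
    rw [split _ (fun χ h => by simp [h]), htriv, hdtriv, Nat.cast_one, one_mul] at h
    rw [List.map_map]
    simpa only [Function.comp_def, Finset.sum_map_toList] using h
  · rw [List.map_map]
    simp only [Function.comp_def, Finset.sum_map_toList]
    rw [hcount, add_comm]
  · rw [List.map_map]
    simpa only [Function.comp_def, Finset.sum_map_toList] using hsq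

end Hyp

end Cfsg.Agent.LAE65.OneClass
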