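import Cfsg.Agent.LAE65.OneClass.Inter
import Cfsg.Agent.LAE65.OneClass.Chars

/-!
# Counting the invariant `2`-elements next to a large invariant `2`-subgroup
-/

set_option autoImplicit false
set_option linter.unusedSectionVars false
set_option linter.style.haveILetI false

namespace Cfsg.Agent.LAE65.OneClass

open Subgroup Cfsg.Agent.FT62

universe u

section Cover

variable {ι α : Type*} [DecidableEq ι] [DecidableEq α]

/-- The members of `f i` that lie in another member of the family. -/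
def shared (s : Finset ι) (f : ι → Finset α) (i : ι) : Finset α :=
  (f i).filter fun u => ∃ j ∈ s, j ≠ i ∧ u ∈ f j

theorem card_eq_sum_ite (s : Finset ι) (f g : ι → Finset α) {i : ι} (hi : i ∈ s)
    (hg : g i ⊆ f i) : (g i).card = ∑ u ∈ s.biUnion f, if u ∈ g i then 1 else 0 := by
  rw [← Finset.card_filter]
  congr 1
  ext u
  simp only [Finset.mem_filter, Finset.mem_biUnion]
  exact ⟨fun h => ⟨⟨i, hi, hg h⟩, h⟩, fun h => h.2⟩

theorem cover_count (s : Finset ι) (f : ι → Finset α) :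
    2 * (s.biUnion f).card + ∑ i ∈ s, (shared s f i).card ≤ 2 * ∑ i ∈ s, (f i).card ∧
      ((∀ u, ∀ i ∈ s, ∀ j ∈ s, ∀ l ∈ s, u ∈ f i → u ∈ f j → u ∈ f l → i = j ∨ i = l ∨ j = l) →
        2 * (s.biUnion f).card + ∑ i ∈ s, (shared s f i).card = 2 * ∑ i ∈ s, (f i).card) := by
  classical
  have e1 : ∑ i ∈ s, (f i).card = ∑ u ∈ s.biUnion f, (s.filter fun i => u ∈ f i).card := by
    rw [Finset.sum_congr rfl fun i hi => card_eq_sum_ite s f f hi (Finset.Subset.refl _),
      Finset.sum_comm]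
    exact Finset.sum_congr rfl fun u _ => (Finset.card_filter _ _).symm
  have e2 : ∑ i ∈ s, (shared s f i).card =
      ∑ u ∈ s.biUnion f, (s.filter fun i => u ∈ shared s f i).card := by
    rw [Finset.sum_congr rfl fun i hi => card_eq_sum_ite s f (shared s f) hi
      (Finset.filter_subset _ _), Finset.sum_comm]
    exact Finset.sum_congr rfl fun u _ => (Finset.card_filter _ _).symm
  have key : ∀ u ∈ s.biUnion f,
      2 + (s.filter fun i => u ∈ shared s f i).card ≤ 2 * (s.filter fun i => u ∈ f i).card ∧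
      ((s.filter fun i => u ∈ f i).card ≤ 2 →
        2 + (s.filter fun i => u ∈ shared s f i).card = 2 * (s.filter fun i => u ∈ f i).card) := by
    intro u hu
    obtain ⟨i, hi, hui⟩ := Finset.mem_biUnion.mp hu
    set A := s.filter fun i => u ∈ f i with hA
    have h1 : 1 ≤ A.card := Finset.card_pos.mpr ⟨i, Finset.mem_filter.mpr ⟨hi, hui⟩⟩
    by_cases h2 : A.card = 1
    · have hB : (s.filter fun i => u ∈ shared s f i) = ∅ := by
        rw [Finset.filter_eq_empty_iff]
        intro j hj hju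
        simp only [shared, Finset.mem_filter] at hju
        obtain ⟨hju, l, hl, hne, hlu⟩ := hju
        exact hne (Finset.card_le_one.mp h2.le l (Finset.mem_filter.mpr ⟨hl, hlu⟩) j
          (Finset.mem_filter.mpr ⟨hj, hju⟩))
      simp [hB, h2]
    · have hB : (s.filter fun i => u ∈ shared s f i) = A := by
        refine Finset.filter_congr fun j hj => ?_
        simp only [shared, Finset.mem_filter]
        refine ⟨fun h => h.1, fun h => ⟨h, ?_⟩⟩
        obtain ⟨l, hl, hne⟩ := Finset.exists_mem_ne (show 1 < A.card by omega) j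
        exact ⟨l, (Finset.mem_filter.mp hl).1, hne, (Finset.mem_filter.mp hl).2⟩
      rw [hB]
      omega
  rw [e1, e2, Finset.mul_sum, mul_comm 2, Finset.card_eq_sum_ones (s.biUnion f), Finset.sum_mul,
    ← Finset.sum_add_distrib]
  simp only [one_mul]
  refine ⟨Finset.sum_le_sum fun u hu => (key u hu).1, fun h => Finset.sum_congr rfl fun u hu => ?_⟩
  refine (key u hu).2 ?_
  by_contra hc
  obtain ⟨i, j, l, hi, hj, hl, hij, hil, hjl⟩ := Finset.two_lt_card_iff.mp (not_le.mp hc)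
  simp only [Finset.mem_filter] at hi hj hl
  rcases h u i hi.1 j hj.1 l hl.1 hi.2 hj.2 hl.2 with e | e | e
  exacts [hij e, hil e, hjl e]

end Cover

variable {G : Type u} [Group G] [Finite G]

theorem el_mono {K K' : Subgroup G} (h : K ≤ K') : el K ⊆ el K' := fun x hx => by
  rw [mem_el] at hx ⊢
  exact ⟨h hx.1, hx.2⟩

namespace Hyp

variable (H : Hyp G) {k : G}
include H

open scoped Classical in
theorem isJ_of_big (hk : orderOf k = 3) {X : Subgroup G} (hX : IsBig k X) :
    4 ≤ H.a ∧ IsJ H.a H.q ((H.twos k).biUnion el).card := by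
  obtain ⟨hcard, hfam⟩ := H.big_family hk hX
  haveI : Fact (Nat.Prime 2) := ⟨Nat.prime_two⟩
  obtain ⟨x, hx⟩ := hX.two.exists_card_eq
  have h16 : 16 ≤ Nat.card X := by
    have hm := H.card_mod_three hk hX.max.inv
    have hlt := hX.lt
    rw [hx] at hm hlt ⊢
    have hx4 : 4 ≤ x := by
      by_contra hc
      interval_cases x <;> simp at hm hlt
    exact le_trans (by norm_num) (Nat.pow_le_pow_right (by norm_num) hx4)
  have ha4 : 4 ≤ H.a := by
    have h : 16 ≤ 2 ^ H.a := by rcases hfam with ⟨-, h⟩ | ⟨-, h⟩ <;> omega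
    by_contra hc
    have := Nat.pow_le_pow_right (show 0 < 2 by norm_num) (show H.a ≤ 3 by omega)
    omega
  refine ⟨ha4, ?_⟩
  have hel : ∀ Z ∈ H.twos k, (el Z).card = Nat.card X - 1 := fun Z hZ => by
    rw [card_el, hcard Z hZ]
  by_cases hti : ∀ Z ∈ H.twos k, ∀ W ∈ H.twos k, Z ≠ W → Z ⊓ W = ⊥
  · rw [Finset.card_biUnion (fun Z hZ W hW hne => disjoint_el (hti Z hZ W hW hne)),
      Finset.sum_const_nat hel]
    rcases hfam with ⟨hm, h⟩ | ⟨hm, h⟩
    · left
      rw [hm, h]
    · right; left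
      rw [hm]
      have e : 2 ^ H.a = 2 * 2 ^ (H.a - 1) := by rw [← pow_succ']; congr 1; omega
      omega
  push Not at hti
  obtain ⟨Z₀, hZ₀, W₀, hW₀, hne₀, hint₀⟩ := hti
  obtain ⟨U, hU, -, -, hq5, D, L1, L2, hA⟩ := H.exists_a5_of_inter hk _ Z₀ W₀ le_rfl
    (H.mem_twos.mp hZ₀).1 (H.mem_twos.mp hW₀).1 hne₀ hint₀
  have hl := H.exists_dloc hk hU hA
  have hsize : ∀ {D' Z W : Subgroup G}, DLoc k D' Z W → 4 * Nat.card D' = Nat.card X := by
    intro D' Z W h
    rw [← hcard Z ((H.mem_twos_big hk hX).mpr (H.isBig_of_dloc h))]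
    exact h.loc.card1.symm
  have hXD := hsize hl
  have hbig := hA.big
  obtain ⟨hle, heq⟩ := cover_count (H.twos k) el
  rw [Finset.sum_const_nat hel] at hle heq
  have hpartner : ∀ Z ∈ H.twos k, ∃ W ∈ H.twos k, W ≠ Z ∧ Z ⊓ W ≠ ⊥ ∧
      Nat.card ↥(Z ⊓ W) = Nat.card D := by
    intro Z hZ
    obtain ⟨W, hW, hne, hc⟩ := H.exists_partner hk hl ((H.mem_twos_big hk hX).mp hZ)
    have hD : Z ⊓ W ≠ ⊥ := fun e => by rw [e, card_bot] at hc; omega
    refine ⟨W, H.mem_twos.mpr ⟨hW, ?_⟩, hne, hD, hc⟩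
    by_contra hq
    exact hD (by rw [inf_comm]; exact H.q_inter hk hX hW (H.mem_twos.mp hZ).1 hq hne)
  have hsub : ∀ Z ∈ H.twos k, ∀ W ∈ H.twos k, W ≠ Z →
      el (Z ⊓ W) ⊆ shared (H.twos k) el Z := by
    intro Z hZ W hW hne u hu
    simp only [shared, Finset.mem_filter]
    exact ⟨el_mono inf_le_left hu, W, hW, hne, el_mono inf_le_right hu⟩
  by_cases hD16 : Nat.card D = 16
  · have hsum : (H.twos k).card * 15 ≤ ∑ Z ∈ H.twos k, (shared (H.twos k) el Z).card := by
      rw [← smul_eq_mul, ← Finset.sum_const]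
      refine Finset.sum_le_sum fun Z hZ => ?_
      obtain ⟨W, hW, hne, -, hc⟩ := hpartner Z hZ
      refine le_trans (le_of_eq ?_) (Finset.card_le_card (hsub Z hZ W hW hne))
      rw [card_el, hc, hD16]
    rw [hD16] at hXD
    rcases hfam with ⟨hm, h⟩ | ⟨hm, h⟩
    · refine Or.inr (Or.inr (Or.inr (Or.inl ⟨?_, hq5, ?_⟩)))
      · exact Nat.pow_right_injective (le_refl 2) (show 2 ^ H.a = 2 ^ 6 by rw [← h, ← hXD])
      · rw [hm, ← hXD] at hle
        rw [hm] at hsum
        omega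
    · refine Or.inr (Or.inr (Or.inr (Or.inr ⟨?_, hq5, ?_⟩)))
      · exact Nat.pow_right_injective (le_refl 2) (show 2 ^ H.a = 2 ^ 7 by rw [← h, ← hXD])
      · rw [hm, ← hXD] at hle
        rw [hm] at hsum
        omega
  · have hbig' : ∀ D' Z W, DLoc k D' Z W → 16 < Nat.card D' := by
      intro D' Z W h
      have := hsize h
      omega
    have hloc : ∀ Z ∈ H.twos k, ∀ W ∈ H.twos k, Z ≠ W → Z ⊓ W ≠ ⊥ → ∃ D', DLoc k D' Z W :=
      fun Z hZ W hW hne hi => H.dloc_of_inter hk hbig' _ Z W le_rfl (H.mem_twos.mp hZ).1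
        (H.mem_twos.mp hW).1 hne hi
    have hshared : ∀ Z ∈ H.twos k, (shared (H.twos k) el Z).card = Nat.card D - 1 := by
      intro Z hZ
      obtain ⟨W, hW, hne, hi, hc⟩ := hpartner Z hZ
      obtain ⟨D1, h1⟩ := hloc Z hZ W hW hne.symm hi
      have he : shared (H.twos k) el Z = el (Z ⊓ W) := by
        refine Finset.Subset.antisymm (fun u hu => ?_) (hsub Z hZ W hW hne)
        simp only [shared, Finset.mem_filter, mem_el] at hu
        obtain ⟨⟨huZ, hu1⟩, V, hV, hVne, huV, -⟩ := hu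
        obtain ⟨D2, h2⟩ := hloc Z hZ V hV hVne.symm
          fun e => hu1 (mem_bot.mp (e ▸ mem_inf.mpr ⟨huZ, huV⟩))
        have eD := H.dloc_unique hk h1 h2 (hbig' _ _ _ h1)
        subst eD
        rw [mem_el, h1.inf_eq, ← h2.inf_eq]
        exact ⟨⟨huZ, huV⟩, hu1⟩
      rw [he, card_el, hc]
    have hmult : ∀ u, ∀ i ∈ H.twos k, ∀ j ∈ H.twos k, ∀ l ∈ H.twos k,
        u ∈ el i → u ∈ el j → u ∈ el l → i = j ∨ i = l ∨ j = l := by
      intro u i hi j hj l hl' hui huj hul
      by_contra hc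
      push Not at hc
      rw [mem_el] at hui huj hul
      obtain ⟨D1, h1⟩ := hloc i hi j hj hc.1
        fun e => hui.2 (mem_bot.mp (e ▸ mem_inf.mpr ⟨hui.1, huj.1⟩))
      obtain ⟨D2, h2⟩ := hloc i hi l hl' hc.2.1
        fun e => hui.2 (mem_bot.mp (e ▸ mem_inf.mpr ⟨hui.1, hul.1⟩))
      have eD := H.dloc_unique hk h1 h2 (hbig' _ _ _ h1)
      subst eD
      rcases h1.pair h2.max2 h2.loc.K2_le with e | e
      exacts [hc.2.1 e.symm, hc.2.2 e.symm]
    have h := heq hmult
    rw [Finset.sum_const_nat hshared] at h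
    obtain ⟨d, hd⟩ := hl.loc.two1.to_le hl.loc.le1 |>.exists_card_eq
    rw [← hXD] at h hfam
    rcases hfam with ⟨hm, he⟩ | ⟨hm, he⟩
    · have e : 2 ^ H.a = 4 * 2 ^ (H.a - 2) := by
        rw [show (4 : ℕ) = 2 ^ 2 by norm_num, ← pow_add]; congr 1; omega
      refine Or.inr (Or.inr (Or.inl ⟨?_, hq5, ?_⟩))
      · by_contra hc
        have := Nat.pow_le_pow_right (show 0 < 2 by norm_num) (show H.a ≤ 6 by omega)
        norm_num at this
        omega
      · rw [hm] at h
        omega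
    · exfalso
      have hev : 2 ∣ Nat.card D := by
        rw [hd]
        refine dvd_pow_self 2 fun e => ?_
        rw [e] at hd
        omega
      rw [hm] at h
      omega

open scoped Classical in
/-- The big case. -/
theorem false_big (hk : orderOf k = 3) {X₀ : Subgroup G} (h0 : Inv k X₀) (h2 : IsPGroup 2 X₀)
    (hlt : 4 < Nat.card X₀) : False := by
  haveI : Fact (Nat.Prime 2) := ⟨Nat.prime_two⟩
  obtain ⟨K, hK, hle⟩ := H.exists_isMax h0 fun e => by rw [e, card_bot] at hlt; omega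
  have hlt' : 4 < Nat.card (part 2 K) :=
    hlt.trans_le (Subgroup.card_le_of_le (H.le_part hk hK.inv h2 hle))
  obtain ⟨he, hp⟩ := H.twos_eq_part hk hK (H.part_q_bot_of_lt hk hK hlt')
  have hX : IsBig k K := ⟨hK, hp, he ▸ hlt'⟩
  obtain ⟨ha4, hJ⟩ := H.isJ_of_big hk hX
  letI := Fintype.ofFinite G
  obtain ⟨P⟩ := H.exists_pat hk
  rw [H.card_U hk fun Z W hZ hW hq hne => H.q_inter hk hX hZ hW hq hne] at P
  by_cases hne : (H.qmaxes k).Nonempty
  · obtain ⟨Z, hZq⟩ := hne
    obtain ⟨hZ, hq⟩ := H.mem_qmaxes.mp hZq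
    have h1 : Nat.card (part 2 Z) = 1 := by
      rcases H.big_or_q hk hX hZ with h | h
      · exact absurd h.2 hq
      · rw [h.1, card_bot]
    obtain ⟨m, n, hm, hqc, hc, h3, hn, hn1, heq⟩ := H.q_family hk hZ hq
    rw [h1] at hc heq
    rw [mul_one] at heq
    rw [H.sum_qmaxes hqc hc, one_mul, ← Nat.add_assoc] at P
    have hdiv : m * 2 ^ H.a / 2 = n := by rw [← heq]; omega
    exact no_big_q H.prime H.five_le H.two_le ha4 hm hJ h3 (by rw [hdiv]; exact hn)
      (by rw [hdiv]; exact hn1) P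
  · rw [Finset.not_nonempty_iff_eq_empty.mp hne, Finset.sum_empty, add_zero] at P
    exact no_big_none H.prime H.five_le H.two_le ha4 hJ P

/-- There is no group with these hypotheses. -/
theorem contradiction (hk : orderOf k = 3)
    (hsmall : (∀ P, Inv k P → IsPGroup 2 P → Nat.card P ≤ 4) → False) : False :=
  hsmall fun P hP h2 => Nat.le_of_not_lt fun hlt => H.false_big hk hP h2 hlt

end Hyp

end Cfsg.Agent.LAE65.OneClass
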