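import Cfsg.Agent.LAE65.OneClass.Table

/-!
# The numerical contradictions
-/

set_option autoImplicit false
set_option maxRecDepth 100000

namespace Cfsg.Agent.LAE65.OneClass

theorem table_smallNone : (List.range 10).all smallNone = true := by decide +kernel

theorem table_smallQ : (List.range 12).all smallQ = true := by decide +kernel

theorem table_bigNone : (List.range 44).all (fun a => decide (a < 4) || bigNone a) = true := by
  decide +kernel

theorem table_bigQ : (List.range 44).all (fun a => decide (a < 4) || bigQ a) = true := by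
  decide +kernel

/-- A prime power dividing the group order bounds the squared degrees. -/
theorem Pat.prime_bound {T N v : ℕ} (P : Pat T N v) (hT : 0 < T) {p n C k : ℕ} (hp : p.Prime)
    (hp3 : p ≠ 3) (hC : 0 < C) (hn : p ^ n ∣ T) (hv : v = C + p ^ n * k) :
    p ^ (2 * n) ≤ C * C * N := by
  have hN : 1 ≤ N := le_trans (Nat.le_add_right 1 _) P.squares
  by_cases hex : ∃ x ∈ P.L, p ^ n ≤ C * x.2
  · obtain ⟨x, hx, h⟩ := hex
    calc p ^ (2 * n) = p ^ n * p ^ n := by rw [two_mul, pow_add]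
      _ ≤ C * x.2 * (C * x.2) := Nat.mul_le_mul h h
      _ = C * C * x.2 ^ 2 := by ring
      _ ≤ C * C * N := Nat.mul_le_mul_left _ (P.dvd_le hx)
  push Not at hex
  by_cases hne : p ^ n ≤ C
  · calc p ^ (2 * n) = p ^ n * p ^ n := by rw [two_mul, pow_add]
      _ ≤ C * C * 1 := by rw [mul_one]; exact Nat.mul_le_mul hne hne
      _ ≤ C * C * N := Nat.mul_le_mul_left _ hN
  exfalso
  set e := Nat.log p C + 1 with he
  have hCe : C < p ^ e := Nat.lt_pow_succ_log_self hp.one_lt C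
  have hall : ∀ x ∈ P.L, p ^ e ∣ T / x.2 := by
    intro x hx
    have hk : p ^ n ∣ T / x.2 * x.2 := by rw [Nat.div_mul_cancel (P.dvd x hx)]; exact hn
    obtain ⟨k1, d1, hk1, hd1, h1⟩ := exists_dvd_and_dvd_of_dvd_mul hk
    obtain ⟨i, -, rfl⟩ := (Nat.dvd_prime_pow hp).mp ⟨d1, h1⟩
    have hd : 0 < x.2 := Nat.pos_of_dvd_of_pos (P.dvd x hx) hT
    have hpi : C < p ^ i := by
      by_contra h
      push Not at h
      have := hex x hx
      have h2 : p ^ n ≤ C * x.2 := by
        rw [h1]; exact Nat.mul_le_mul h (Nat.le_of_dvd hd hd1)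
      omega
    refine (pow_dvd_pow p ?_).trans hk1
    exact Nat.log_lt_of_lt_pow hC.ne' hpi
  have hen : e ≤ n := Nat.log_lt_of_lt_pow hC.ne' (Nat.lt_of_not_le hne)
  have h9 : (p : ℤ) ^ e ∣ 9 * (C : ℤ) := by
    have h := P.count
    have hsum : (p : ℤ) ^ e ∣ (P.L.map fun x => x.1 ^ 3 * ((T / x.2 : ℕ) : ℤ)).sum :=
      List.dvd_sum fun z hz => by
        obtain ⟨x, hx, rfl⟩ := List.mem_map.mp hz
        exact dvd_mul_of_dvd_right (by exact_mod_cast hall x hx) _
    have h1 : (p : ℤ) ^ e ∣ (T : ℤ) := by exact_mod_cast (pow_dvd_pow p hen).trans hn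
    have h2 : (p : ℤ) ^ e ∣ 9 * ((p : ℤ) ^ n * k) :=
      dvd_mul_of_dvd_right (dvd_mul_of_dvd_left (pow_dvd_pow _ hen) _) _
    have h3 := dvd_sub (dvd_add h1 hsum) h2
    rw [h, hv] at h3
    push_cast at h3
    rw [mul_add, add_sub_cancel_right] at h3
    exact h3
  have h9' : p ^ e ∣ 9 * C := by exact_mod_cast h9
  have hcop : (p ^ e).Coprime 9 := by
    refine Nat.Coprime.pow_left _ ((Nat.Prime.coprime_iff_not_dvd hp).mpr fun h => ?_)
    exact hp3 ((Nat.prime_dvd_prime_iff_eq hp Nat.prime_three).mp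
      (hp.dvd_of_dvd_pow (show p ∣ 3 ^ 2 by norm_num; exact h)))
  have := Nat.le_of_dvd hC (hcop.dvd_of_dvd_mul_left h9')
  omega

theorem Pat.le_count' {T N v : ℕ} (P : Pat T N v) (hT : 0 < T) : T ≤ 72 * v := by
  have := P.le_count hT
  exact_mod_cast this

/-- Bound on the odd prime part. -/
theorem Pat.q_bound {q a b v C k : ℕ} (hq : q.Prime) (hq3 : q ≠ 3) (hC : 0 < C)
    (P : Pat (2 ^ a * q ^ b) (9 * (2 ^ a * q ^ b)) v) (hv : v = C + q ^ b * k) :
    q ^ b ≤ 9 * 2 ^ a * (C * C) := by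
  have hpos := hq.pos
  have h := P.prime_bound (by positivity) hq hq3 hC (dvd_mul_left _ _) hv
  rw [two_mul, pow_add] at h
  exact Nat.le_of_mul_le_mul_right (le_trans h (le_of_eq (by ring))) (by positivity)

theorem pow_five_le {q b : ℕ} (h5 : 5 ≤ q) : 5 ^ b ≤ q ^ b := Nat.pow_le_pow_left h5 b

theorem lt_of_sq_le {q b B m : ℕ} (hb : 2 ≤ b) (hq : 1 ≤ q) (h : q ^ b ≤ B) (hB : B < m * m) :
    q < m := by
  by_contra hc
  push Not at hc
  have h1 : q ^ 2 ≤ q ^ b := Nat.pow_le_pow_right hq hb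
  have h2 := Nat.mul_le_mul hc hc
  rw [sq] at h1
  omega

theorem exp_lt {q b B M : ℕ} (h5 : 5 ≤ q) (h : q ^ b ≤ B) (hB : B < 5 ^ M) : b < M := by
  by_contra hc
  push Not at hc
  have := (Nat.pow_le_pow_right (show 0 < 5 by norm_num) hc).trans (pow_five_le h5)
  omega

variable {q a b v : ℕ}

/-- No invariant `2`-group above four, no `q`-part. -/
theorem no_small_none (hq : q.Prime) (h5 : 5 ≤ q) (hb : 2 ≤ b) {i : ℕ} (hi : i < 37)
    (P : Pat (2 ^ a * q ^ b) (9 * (2 ^ a * q ^ b)) (7 + 3 * i : ℕ)) : False := by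
  have hT : 0 < 2 ^ a * q ^ b := by have := hq.pos; positivity
  have h := P.le_count' hT
  have h25 : 25 ≤ q ^ b := (Nat.pow_le_pow_right (by norm_num) hb).trans (pow_five_le h5)
  have h2a : 1 ≤ 2 ^ a := Nat.one_le_two_pow
  have hqb : q ^ b ≤ 8280 := (Nat.le_mul_of_pos_left _ h2a).trans (h.trans (by omega))
  have ha : a < 10 := by
    by_contra hc
    push Not at hc
    have := Nat.mul_le_mul (Nat.pow_le_pow_right (show 0 < 2 by norm_num) hc) h25
    omega
  have ht := List.all_eq_true.mp table_smallNone a (List.mem_range.mpr ha)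
  have := List.all_eq_true.mp (List.all_eq_true.mp ht i (List.mem_range.mpr hi)) q
    (List.mem_range.mpr (lt_of_sq_le hb hq.pos hqb (by norm_num)))
  simp only [primeLike_of_prime hq, h5, decide_true, Bool.and_self, Bool.not_true,
    Bool.false_or, List.all_eq_true] at this
  have := this b (List.mem_range.mpr (exp_lt h5 hqb (by norm_num)))
  rw [chk_of_pat hq P] at this
  simp at this
  omega

/-- No invariant `2`-group above four, a `q`-part. -/
theorem no_small_q (hq : q.Prime) (h5 : 5 ≤ q) (hb : 2 ≤ b) {i m r : ℕ} (hi : i < 37)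
    (hm : m = 3 ∨ m = 6) (hr : r = 1 ∨ r = 4) (h3 : q ^ b % 3 = 1)
    (hn : m * 2 ^ a / (2 * r) % q = 1) (hn1 : m * 2 ^ a / (2 * r) ≠ 1)
    (P : Pat (2 ^ a * q ^ b) (9 * (2 ^ a * q ^ b)) (7 + 3 * i + m * (r * q ^ b - 1) : ℕ)) :
    False := by
  have hT : 0 < 2 ^ a * q ^ b := by have := hq.pos; positivity
  have h := P.le_count' hT
  have h25 : 25 ≤ q ^ b := (Nat.pow_le_pow_right (by norm_num) hb).trans (pow_five_le h5)
  have hv : 7 + 3 * i + m * (r * q ^ b - 1) = (7 + 3 * i - m) + q ^ b * (m * r) := by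
    rcases hm with rfl | rfl <;> rcases hr with rfl | rfl <;> omega
  have hQ := Pat.q_bound hq (by omega) (by omega) P hv
  have ha : a < 12 := by
    by_contra hc
    push Not at hc
    have h1 := Nat.mul_le_mul_right (q ^ b) (Nat.pow_le_pow_right (show 0 < 2 by norm_num) hc)
    rcases hm with rfl | rfl <;> rcases hr with rfl | rfl <;> omega
  have hQ' : q ^ b ≤ 9 * 2 ^ a * ((7 + 3 * i) * (7 + 3 * i)) :=
    hQ.trans (Nat.mul_le_mul_left _ (Nat.mul_le_mul (Nat.sub_le _ _) (Nat.sub_le _ _)))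
  have hQ2 : q ^ b ≤ 9 * 2048 * (115 * 115) := hQ'.trans <|
    Nat.mul_le_mul (Nat.mul_le_mul_left _ (Nat.pow_le_pow_right (by norm_num)
      (show a ≤ 11 by omega))) (Nat.mul_le_mul (by omega) (by omega))
  have ht := List.all_eq_true.mp (List.all_eq_true.mp table_smallQ a (List.mem_range.mpr ha))
    (m, r) (by rcases hm with rfl | rfl <;> rcases hr with rfl | rfl <;> simp)
  have := List.all_eq_true.mp (List.all_eq_true.mp ht q (mem_qs hq h5 hn hn1)) b
    (List.mem_range.mpr (exp_lt h5 hQ2 (by norm_num)))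
  simp only [h3, Bool.or_eq_true, decide_eq_true_eq, List.all_eq_true] at this
  rcases this with (h' | h') | h'
  · omega
  · exact h' rfl
  rcases h' i (List.mem_range.mpr hi) with h' | h'
  · rw [mul_assoc] at h'
    omega
  · simp only [Bool.not_eq_eq_eq_not, Bool.not_true] at h'
    rw [chk_of_pat hq P] at h'
    exact Bool.noConfusion h'

/-- The possible numbers of nontrivial invariant `2`-elements. -/
def IsJ (a q j : ℕ) : Prop :=
  j = 6 * (2 ^ a - 1) ∨ j = 3 * (2 ^ (a - 1) - 1) ∨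
    (6 < a ∧ q = 5 ∧ j = 21 * 2 ^ (a - 2) - 3) ∨ (a = 6 ∧ q = 5 ∧ j ≤ 333) ∨
    (a = 7 ∧ q = 5 ∧ j ≤ 166)

theorem IsJ.le {a q j : ℕ} (h : IsJ a q j) (ha : 4 ≤ a) : j ≤ 6 * 2 ^ a := by
  have e1 : 2 ^ a = 2 * 2 ^ (a - 1) := by rw [← pow_succ']; congr 1; omega
  have e2 : 2 ^ a = 4 * 2 ^ (a - 2) := by
    rw [show (4 : ℕ) = 2 ^ 2 by norm_num, ← pow_add]; congr 1; omega
  rcases h with rfl | rfl | ⟨-, -, rfl⟩ | ⟨rfl, -, h⟩ | ⟨rfl, -, h⟩ <;> omega

theorem IsJ.mem {a q j : ℕ} (h : IsJ a q j) :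
    ∃ x ∈ bigJs a, x.1 = j ∧ (x.2 = true → q = 5) := by
  rcases h with rfl | rfl | ⟨ha, hq, rfl⟩ | ⟨rfl, hq, h⟩ | ⟨rfl, hq, h⟩
  · exact ⟨(6 * (2 ^ a - 1), false), by simp [bigJs], rfl, by simp⟩
  · exact ⟨(3 * (2 ^ (a - 1) - 1), false), by simp [bigJs], rfl, by simp⟩
  · exact ⟨(21 * 2 ^ (a - 2) - 3, true), by simp [bigJs, ha], rfl, fun _ => hq⟩
  · exact ⟨(j, true), by simp [bigJs]; omega, rfl, fun _ => hq⟩
  · exact ⟨(j, true), by simp [bigJs]; omega, rfl, fun _ => hq⟩

/-- The exponent of two is bounded when the odd part is. -/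
theorem exp_two_lt {q a b j t : ℕ} (hq : q.Prime) (hj : IsJ a q j) (ha : 8 ≤ a)
    (hQ : q ^ b ≤ 865) (ht : t ≤ 5184)
    (P : Pat (2 ^ a * q ^ b) (9 * (2 ^ a * q ^ b)) (7 + j + t : ℕ)) : a < 44 := by
  have hT : 0 < 2 ^ a * q ^ b := by have := hq.pos; positivity
  obtain ⟨n, C, k, hn, hC0, hC, hv⟩ : ∃ n C k, (n = a ∨ n = a - 1 ∨ n = a - 2) ∧ 0 < C ∧
      C ≤ 8192 ∧ 7 + j + t = C + 2 ^ n * k := by
    rcases hj with rfl | rfl | ⟨-, -, rfl⟩ | ⟨rfl, -⟩ | ⟨rfl, -⟩
    · exact ⟨a, 1 + t, 6, Or.inl rfl, by omega, by omega, by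
        have := Nat.one_le_two_pow (n := a); omega⟩
    · exact ⟨a - 1, 4 + t, 3, Or.inr (Or.inl rfl), by omega, by omega, by
        have := Nat.one_le_two_pow (n := a - 1); omega⟩
    · exact ⟨a - 2, 4 + t, 21, Or.inr (Or.inr rfl), by omega, by omega, by
        have := Nat.one_le_two_pow (n := a - 2); omega⟩
    · omega
    · omega
  have hdiv : 2 ^ n ∣ 2 ^ a * q ^ b := dvd_mul_of_dvd_left (pow_dvd_pow 2 (by omega)) _
  have h := P.prime_bound hT Nat.prime_two (by norm_num) hC0 hdiv hv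
  have h1 : C * C * (9 * (2 ^ a * q ^ b)) ≤ 2 ^ (39 + a) := by
    rw [pow_add, show 2 ^ 39 * 2 ^ a = 8192 * 8192 * (8192 * 2 ^ a) by norm_num; ring]
    refine Nat.mul_le_mul (Nat.mul_le_mul hC hC) ?_
    have : 9 * q ^ b ≤ 8192 := by omega
    calc 9 * (2 ^ a * q ^ b) = 9 * q ^ b * 2 ^ a := by ring
      _ ≤ 8192 * 2 ^ a := Nat.mul_le_mul_right _ this
  have := (Nat.pow_le_pow_iff_right (by norm_num : 1 < 2)).mp (h.trans h1)
  omega

/-- An invariant `2`-group of order at least `16`, no invariant `q`-part. -/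
theorem no_big_none (hq : q.Prime) (h5 : 5 ≤ q) (hb : 2 ≤ b) (ha : 4 ≤ a) {j : ℕ}
    (hj : IsJ a q j) (P : Pat (2 ^ a * q ^ b) (9 * (2 ^ a * q ^ b)) (7 + j : ℕ)) : False := by
  have hT : 0 < 2 ^ a * q ^ b := by have := hq.pos; positivity
  have h := P.le_count' hT
  have hjle := hj.le ha
  have hQ : q ^ b ≤ 463 := by
    by_contra hc
    push Not at hc
    have h16 : 16 ≤ 2 ^ a := (Nat.pow_le_pow_right (show 0 < 2 by norm_num) ha).trans_eq' rfl
    have := Nat.mul_le_mul_left (2 ^ a) hc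
    omega
  have ha' : a < 44 := by
    by_cases h8 : 8 ≤ a
    · exact exp_two_lt hq hj h8 (hQ.trans (by norm_num)) (t := 0) (Nat.zero_le 5184)
        (by simpa using P)
    · omega
  obtain ⟨x, hx, rfl, hx5⟩ := hj.mem
  have ht := List.all_eq_true.mp table_bigNone a (List.mem_range.mpr ha')
  simp only [Bool.or_eq_true, decide_eq_true_eq, Nat.not_lt.mpr ha, false_or] at ht
  have := List.all_eq_true.mp ht q (List.mem_range.mpr (lt_trans
    (lt_of_sq_le hb hq.pos hQ (show 463 < 22 * 22 by norm_num)) (by norm_num)))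
  simp only [primeLike_of_prime hq, h5, decide_true, Bool.and_self, Bool.not_true,
    Bool.false_or, List.all_eq_true] at this
  have := this b (List.mem_range.mpr (exp_lt h5 hQ (by norm_num)))
  simp only [Bool.or_eq_true, decide_eq_true_eq, List.all_eq_true] at this
  rcases this with (h' | h') | h'
  · omega
  · omega
  rcases h' x hx with h' | h'
  · simp only [Bool.and_eq_true, decide_eq_true_eq] at h'
    exact h'.2 (hx5 h'.1)
  · simp only [Bool.not_eq_eq_eq_not, Bool.not_true] at h'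
    rw [chk_of_pat hq P] at h'
    exact Bool.noConfusion h'

/-- An invariant `2`-group of order at least `16` and invariant `q`-groups. -/
theorem no_big_q (hq : q.Prime) (h5 : 5 ≤ q) (hb : 2 ≤ b) (ha : 4 ≤ a) {j m : ℕ}
    (hm : m = 3 ∨ m = 6) (hj : IsJ a q j) (h3 : q ^ b % 3 = 1)
    (hn : m * 2 ^ a / 2 % q = 1) (hn1 : m * 2 ^ a / 2 ≠ 1)
    (P : Pat (2 ^ a * q ^ b) (9 * (2 ^ a * q ^ b)) (7 + j + m * (q ^ b - 1) : ℕ)) : False := by
  have hT : 0 < 2 ^ a * q ^ b := by have := hq.pos; positivity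
  have h := P.le_count' hT
  have hjle := hj.le ha
  have hQpos : 1 ≤ q ^ b := Nat.one_le_pow _ _ hq.pos
  have hbig : 9 < a → q ^ b ≤ 865 := by
    intro h9
    by_contra hc
    push Not at hc
    have h1024 : 1024 ≤ 2 ^ a :=
      (Nat.pow_le_pow_right (show 0 < 2 by norm_num) h9).trans_eq' rfl
    have e1 := Nat.mul_le_mul_left (2 ^ a) hc
    have e2 := Nat.mul_le_mul_right (q ^ b) h1024
    rcases hm with rfl | rfl <;> omega
  have hv : 7 + j + m * (q ^ b - 1) = (7 + j - m) + q ^ b * m := by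
    rcases hm with rfl | rfl <;> omega
  have hQ := Pat.q_bound hq (by omega) (by omega) P hv
  have ha' : a < 44 := by
    by_cases h9 : 9 < a
    · exact exp_two_lt hq hj (by omega) (hbig h9) (t := m * (q ^ b - 1))
        (by have := hbig h9; rcases hm with rfl | rfl <;> omega) P
    · omega
  obtain ⟨x, hx, rfl, hx5⟩ := hj.mem
  have hQ' : q ^ b ≤ 9 * 2 ^ a * ((7 + x.1) * (7 + x.1)) :=
    hQ.trans (Nat.mul_le_mul_left _ (Nat.mul_le_mul (Nat.sub_le _ _) (Nat.sub_le _ _)))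
  have hb17 : b < 17 := by
    by_cases h9 : 9 < a
    · exact lt_trans (exp_lt h5 (hbig h9) (show 865 < 5 ^ 5 by norm_num)) (by norm_num)
    · refine exp_lt h5 (hQ'.trans ?_) (show 9 * 512 * (3079 * 3079) < 5 ^ 17 by norm_num)
      have h512 : 2 ^ a ≤ 512 :=
        (Nat.pow_le_pow_right (show 0 < 2 by norm_num) (show a ≤ 9 by omega)).trans_eq rfl
      exact Nat.mul_le_mul (Nat.mul_le_mul_left _ h512) (Nat.mul_le_mul (by omega) (by omega))
  have ht := List.all_eq_true.mp table_bigQ a (List.mem_range.mpr ha')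
  simp only [Bool.or_eq_true, decide_eq_true_eq, Nat.not_lt.mpr ha, false_or] at ht
  have hmem : q ∈ (if a ≤ 9 then qs (m * 2 ^ a / 2) else
        (List.range 30).filter fun q =>
          decide (5 ≤ q) && decide (m * 2 ^ a / 2 % q = 1) && primeLike q) := by
    split
    · exact mem_qs hq h5 hn hn1
    · rename_i h9
      simp only [List.mem_filter, List.mem_range, Bool.and_eq_true, decide_eq_true_eq]
      exact ⟨lt_of_sq_le hb hq.pos (hbig (by omega)) (by norm_num), ⟨h5, hn⟩,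
        primeLike_of_prime hq⟩
  have := List.all_eq_true.mp (List.all_eq_true.mp
    (List.all_eq_true.mp ht m (by rcases hm with rfl | rfl <;> simp)) q hmem) b
    (List.mem_range.mpr hb17)
  simp only [Bool.or_eq_true, decide_eq_true_eq, List.all_eq_true, Bool.and_eq_true] at this
  rcases this with ((h' | h') | h') | h'
  · omega
  · exact h' h3
  · have := hbig h'.1; omega
  rcases h' x hx with (h' | h') | h'
  · exact h'.2 (hx5 h'.1)
  · omega
  · simp only [Bool.not_eq_eq_eq_not, Bool.not_true] at h'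
    rw [chk_of_pat hq P] at h'
    exact Bool.noConfusion h'

end Cfsg.Agent.LAE65.OneClass
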