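import Cfsg.Agent.LAE65.OneClass.Max
import Cfsg.Agent.LAE65.OneClass.Numeric

/-!
# Splitting the set of invariant elements over the maximal invariant subgroups
-/

set_option autoImplicit false
set_option linter.unusedSectionVars false
set_option linter.style.haveILetI false

namespace Cfsg.Agent.LAE65.OneClass

open Subgroup Cfsg.Agent.FT62

universe u

variable {G : Type u} [Group G] [Finite G]

/-- The nontrivial elements of a subgroup. -/
noncomputable def el (K : Subgroup G) : Finset G := (Set.toFinite ((K : Set G) \ {1})).toFinset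

theorem mem_el {K : Subgroup G} {x : G} : x ∈ el K ↔ x ∈ K ∧ x ≠ 1 := by simp [el]

theorem card_el (K : Subgroup G) : (el K).card = Nat.card K - 1 := by
  rw [el, ← Set.ncard_eq_toFinset_card, Set.ncard_sdiff_singleton_of_mem K.one_mem,
    ← Nat.card_coe_set_eq]
  rfl

theorem disjoint_el {K K' : Subgroup G} (h : K ⊓ K' = ⊥) : Disjoint (el K) (el K') := by
  rw [Finset.disjoint_left]
  intro x hx hx'
  rw [mem_el] at hx hx'
  exact hx.2 (mem_bot.mp (h ▸ mem_inf.mpr ⟨hx.1, hx'.1⟩))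

/-- The maximal invariant subgroups. -/
noncomputable def maxes (k : G) : Finset (Subgroup G) :=
  (Set.toFinite {K : Subgroup G | IsMax k K}).toFinset

theorem mem_maxes {k : G} {K : Subgroup G} : K ∈ maxes k ↔ IsMax k K := by simp [maxes]

namespace Hyp

variable (H : Hyp G) {k : G}

open scoped Classical in
/-- The maximal subgroups without `q`-part. -/
noncomputable def twos (k : G) : Finset (Subgroup G) :=
  (maxes k).filter fun K => part H.q K = ⊥

open scoped Classical in
/-- The maximal subgroups with a `q`-part. -/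
noncomputable def qmaxes (k : G) : Finset (Subgroup G) :=
  (maxes k).filter fun K => part H.q K ≠ ⊥

theorem mem_twos {K : Subgroup G} : K ∈ H.twos k ↔ IsMax k K ∧ part H.q K = ⊥ := by
  classical
  simp [twos, mem_maxes]

theorem mem_qmaxes {K : Subgroup G} : K ∈ H.qmaxes k ↔ IsMax k K ∧ part H.q K ≠ ⊥ := by
  classical
  simp [qmaxes, mem_maxes]

include H

open scoped Classical in
theorem card_U (hk : orderOf k = 3)
    (hti : ∀ K K', IsMax k K → IsMax k K' → part H.q K ≠ ⊥ → K ≠ K' → K ⊓ K' = ⊥) :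
    Nat.card (U k) =
      ((H.twos k).biUnion el).card + ∑ K ∈ H.qmaxes k, (Nat.card K - 1) := by
  have hU : U k = (((H.twos k).biUnion el ∪ (H.qmaxes k).biUnion el : Finset G) : Set G) := by
    ext x
    simp only [H.mem_U_iff, Finset.coe_union, Finset.coe_biUnion, Set.mem_union, Set.mem_iUnion,
      Finset.mem_coe, mem_el, mem_twos, mem_qmaxes]
    constructor
    · rintro ⟨h1, K, hK, hx⟩
      by_cases hq : part H.q K = ⊥
      · exact Or.inl ⟨K, ⟨hK, hq⟩, hx, h1⟩
      · exact Or.inr ⟨K, ⟨hK, hq⟩, hx, h1⟩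
    · rintro (⟨K, ⟨hK, -⟩, hx, h1⟩ | ⟨K, ⟨hK, -⟩, hx, h1⟩) <;> exact ⟨h1, K, hK, hx⟩
  rw [Nat.card_coe_set_eq, hU, Set.ncard_coe_finset, Finset.card_union_of_disjoint,
    Finset.card_biUnion (s := H.qmaxes k)]
  · congr 1
    exact Finset.sum_congr rfl fun K _ => card_el K
  · intro K hK K' hK' hne
    rw [Finset.mem_coe, mem_qmaxes] at hK hK'
    exact disjoint_el (hti K K' hK.1 hK'.1 hK.2 hne)
  · rw [Finset.disjoint_biUnion_left]
    intro K hK
    rw [Finset.disjoint_biUnion_right]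
    intro K' hK'
    rw [mem_twos] at hK
    rw [mem_qmaxes] at hK'
    exact (disjoint_el (hti K' K hK'.1 hK.1 hK'.2 fun e => hK'.2 (e ▸ hK.2))).symm

theorem card_eq_parts {K : Subgroup G} (hK : ¬ 3 ∣ Nat.card K) :
    Nat.card K = Nat.card (part 2 K) * Nat.card (part H.q K) := by
  obtain ⟨i, j, -, -, h⟩ := H.exists_card hK
  rw [(H.card_part h).1, (H.card_part h).2, h]

theorem two_part_cases (hk : orderOf k = 3) {K : Subgroup G} (hK : Inv k K) :
    ∃ i, Nat.card (part 2 K) = 2 ^ i ∧ 2 ^ i % 3 = 1 := by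
  haveI : Fact (Nat.Prime 2) := ⟨Nat.prime_two⟩
  obtain ⟨i, j, -, -, h⟩ := H.exists_card hK.coprime
  exact ⟨i, (H.card_part h).1, (H.card_part h).1 ▸ H.card_mod_three hk (H.part_inv hk hK)⟩

theorem twos_eq_part (hk : orderOf k = 3) {K : Subgroup G} (hK : IsMax k K)
    (hq : part H.q K = ⊥) : part 2 K = K ∧ IsPGroup 2 K := by
  have h := H.card_eq_parts hK.inv.coprime
  rw [hq, card_bot, mul_one] at h
  have e : part 2 K = K := Subgroup.eq_of_le_of_card_ge (part_le 2 K) h.le
  exact ⟨e, e ▸ isPGroup_part 2 K⟩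

/-- The centraliser of a part of a maximal subgroup lies in it. -/
theorem centralizer_part_le (hk : orderOf k = 3) {K : Subgroup G} (hK : IsMax k K) {p : ℕ}
    [Fact p.Prime] (hp : part p K ≠ ⊥) : centralizer (part p K : Set G) ≤ K := by
  have hP := H.part_inv hk hK.inv (p := p)
  have hle : centralizer (part p K : Set G) ≤ normalizer (K : Set G) := by
    rw [← H.normalizer_part hk hK hp]
    exact centralizer_le_normalizer _
  refine (H.normalizer_data hk hK).2 _ ⟨fun n hn => ?_, fun h3 => ?_⟩ hle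
  · rw [mem_centralizer_iff] at hn ⊢
    intro v hv
    have h := hn _ (hP.mem' hv)
    calc v * (k * n * k⁻¹) = k * ((k⁻¹ * v * k) * n) * k⁻¹ := by group
      _ = k * (n * (k⁻¹ * v * k)) * k⁻¹ := by rw [h]
      _ = k * n * k⁻¹ * v := by group
  · haveI := Fact.mk Nat.prime_three
    obtain ⟨y, hy⟩ := exists_prime_orderOf_dvd_card' 3 h3
    have hy' : orderOf (y : G) = 3 := by rw [Subgroup.orderOf_coe, hy]
    obtain ⟨m, hm, he⟩ := H.exists_conj_of_mem_normalizer hk hK hy' (hle y.2)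
    have hmN := H.normalizer_le_part hk hK.inv (p := p) (le_normalizer hm)
    obtain ⟨v, hv, hv1⟩ := (bot_or_exists_ne_one (part p K)).resolve_left hp
    have hv' : m * v * m⁻¹ ∈ part p K := (mem_normalizer_iff.mp hmN v).mp hv
    have hc := mem_centralizer_iff.mp y.2 _ hv'
    rcases he with e | e
    · refine hv1 ((H.fpf hk hP).fpf v hv ?_)
      calc k * v * k⁻¹ = m⁻¹ * ((y : G) * (m * v * m⁻¹)) * (m * k⁻¹) := by rw [e]; group
        _ = m⁻¹ * ((m * v * m⁻¹) * (y : G)) * (m * k⁻¹) := by rw [hc]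
        _ = v := by rw [e]; group
    · refine hv1 ((H.fpf hk hP).fpf v hv ?_)
      calc k * v * k⁻¹ = k * (m⁻¹ * ((m * v * m⁻¹) * (y : G)) * (m * k)) * k⁻¹ := by rw [e]; group
        _ = k * (m⁻¹ * ((y : G) * (m * v * m⁻¹)) * (m * k)) * k⁻¹ := by rw [hc]
        _ = v := by rw [e]; group

/-- The family of maximal subgroups with a `q`-part. -/
theorem q_family (hk : orderOf k = 3) {K : Subgroup G} (hK : IsMax k K)
    (hq : part H.q K ≠ ⊥) :
    ∃ m n : ℕ, (m = 3 ∨ m = 6) ∧ (H.qmaxes k).card = m ∧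
      (∀ K' ∈ H.qmaxes k, Nat.card K' = Nat.card (part 2 K) * H.q ^ H.b) ∧
      H.q ^ H.b % 3 = 1 ∧ n % H.q = 1 ∧ n ≠ 1 ∧
      2 * n * Nat.card (part 2 K) = m * 2 ^ H.a := by
  classical
  haveI : Fact H.q.Prime := ⟨H.prime⟩
  obtain ⟨hQ, hn⟩ := H.sylow_part hk hK hq
  obtain ⟨hmr, hidx⟩ := H.count hk hK
  have hcard : Nat.card K = Nat.card (part 2 K) * H.q ^ H.b := by
    rw [H.card_eq_parts hK.inv.coprime, hQ]
  set r := K.relIndex (normalizer (K : Set G)) with hr
  set m := Nat.card {L : Subgroup G // ∃ g, cg g K = L ∧ k ∈ normalizer (L : Set G)}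
  set n := (normalizer (K : Set G)).index with hndef
  have hmem : ∀ L, (∃ g, cg g K = L ∧ k ∈ normalizer (L : Set G)) ↔ L ∈ H.qmaxes k := by
    intro L
    rw [mem_qmaxes]
    constructor
    · rintro ⟨g, rfl, hg⟩
      refine ⟨(H.isMax_conj hk hK hg).1, fun e => ?_⟩
      have h1 := H.card_eq_parts (H.isMax_conj hk hK hg).1.inv.coprime
      rw [e, card_bot, mul_one, card_cg, hcard] at h1
      obtain ⟨i, hi, -⟩ := H.two_part_cases hk (H.isMax_conj hk hK hg).1.inv
      have hd : H.q ∣ 2 ^ i := by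
        rw [← hi, ← h1]
        exact dvd_mul_of_dvd_right (dvd_pow_self _ (by have := H.two_le; omega)) _
      exact H.q_ne_two
        ((Nat.prime_dvd_prime_iff_eq H.prime Nat.prime_two).mp (H.prime.dvd_of_dvd_pow hd))
    · rintro ⟨hL, hLq⟩
      obtain ⟨g, hg⟩ := H.conj_of_q hk hK hL hq hLq
      exact ⟨g, hg, hL.inv.mem_normalizer⟩
  refine ⟨m, n, ?_, ?_, ?_, ?_, hn, ?_, ?_⟩
  · rcases (H.normalizer_data hk hK).1 with h | h <;> rw [← hr] at h <;> rw [h] at hmr <;> omega
  · rw [← Nat.card_eq_finsetCard]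
    exact Nat.card_congr (Equiv.subtypeEquivRight fun L => (hmem L).symm)
  · intro K' hK'
    obtain ⟨g, rfl, -⟩ := (hmem K').mpr hK'
    rw [card_cg, hcard]
  · rw [← hQ]
    exact H.card_mod_three hk (H.part_inv hk hK.inv)
  · intro h1
    have hnorm : K.Normal := normalizer_eq_top_iff.mp (index_eq_one.mp (hndef ▸ h1))
    haveI := H.simple
    rcases Subgroup.Normal.eq_bot_or_eq_top hnorm with h | h
    · exact hK.ne h
    · exact H.notMem hk hK.inv (h ▸ mem_top k)
  · have hQ0 : 0 < H.q ^ H.b := pow_pos H.prime.pos _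
    have h18 : n * (2 * Nat.card (part 2 K)) * (9 * H.q ^ H.b) =
        m * 2 ^ H.a * (9 * H.q ^ H.b) := by
      calc n * (2 * Nat.card (part 2 K)) * (9 * H.q ^ H.b)
          = m * r * n * (Nat.card (part 2 K) * H.q ^ H.b) := by rw [hmr]; ring
        _ = m * (n * (r * Nat.card K)) := by rw [hcard]; ring
        _ = m * (9 * (2 ^ H.a * H.q ^ H.b)) := by rw [hidx]
        _ = _ := by ring
    rw [show 2 * n * Nat.card (part 2 K) = n * (2 * Nat.card (part 2 K)) by ring]
    exact Nat.eq_of_mul_eq_mul_right (by positivity) h18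

/-- The value of the pattern, given the `q`-family. -/
theorem sum_qmaxes {m ρ : ℕ} (hm : (H.qmaxes k).card = m)
    (h : ∀ K' ∈ H.qmaxes k, Nat.card K' = ρ * H.q ^ H.b) :
    ∑ K ∈ H.qmaxes k, (Nat.card K - 1) = m * (ρ * H.q ^ H.b - 1) := by
  rw [← hm]
  exact Finset.sum_const_nat fun K hK => by rw [h K hK]

/-- An invariant group of order four has exponent two. -/
theorem four_sq (hk : orderOf k = 3) {V : Subgroup G} (hV : Inv k V) (h4 : Nat.card V = 4)
    {x : G} (hx : x ∈ V) : x * x = 1 := by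
  by_contra hne
  have h2 : ∀ i, i ≤ 1 → x ^ (2 ^ i) ≠ 1 := by
    intro i hi e
    interval_cases i
    · simp only [pow_zero, pow_one] at e; simp [e] at hne
    · exact hne (by rw [← sq]; simpa using e)
  have hord : orderOf x = 4 := by
    have hd : orderOf x ∣ 2 ^ 2 := by
      simpa [h4] using V.orderOf_dvd_natCard hx
    obtain ⟨i, hi, e⟩ := (Nat.dvd_prime_pow Nat.prime_two).mp hd
    have : i = 2 := by
      by_contra hi2
      exact h2 i (by omega) (e ▸ pow_orderOf_eq_one x)
    rw [e, this]; norm_num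
  have hV' : zpowers x = V := Subgroup.eq_of_le_of_card_ge (zpowers_le.mpr hx)
    (by rw [Nat.card_zpowers, hord, h4])
  obtain ⟨i, hi⟩ := mem_powers_iff_mem_zpowers.mpr (hV' ▸ hV.mem x hx : k * x * k⁻¹ ∈ zpowers x)
  simp only at hi
  have hsq : k * (x * x) * k⁻¹ = x ^ (2 * i) := by
    calc k * (x * x) * k⁻¹ = (k * x * k⁻¹) * (k * x * k⁻¹) := by group
      _ = x ^ i * x ^ i := by rw [hi]
      _ = _ := by rw [← pow_add, two_mul]
  have h4' : x ^ 4 = 1 := hord ▸ pow_orderOf_eq_one x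
  rcases Nat.even_or_odd' i with ⟨c, rfl | rfl⟩
  · rw [show 2 * (2 * c) = 4 * c by ring, pow_mul, h4', one_pow] at hsq
    exact hne (by
      calc x * x = k⁻¹ * (k * (x * x) * k⁻¹) * k := by group
        _ = 1 := by rw [hsq]; group)
  · rw [show 2 * (2 * c + 1) = 4 * c + 2 by ring, pow_add, pow_mul, h4', one_pow, one_mul,
      sq] at hsq
    exact hne ((H.fpf hk hV).fpf _ (mul_mem hx hx) hsq)

end Hyp

end Cfsg.Agent.LAE65.OneClass
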