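import Cfsg.Agent.LAE65.OneClass.Big

/-!
# Intersections of large maximal invariant `2`-subgroups
-/

set_option autoImplicit false
set_option linter.unusedSectionVars false
set_option linter.style.haveILetI false

namespace Cfsg.Agent.LAE65.OneClass

open Subgroup Cfsg.Agent.FT62
open scoped commutatorElement

universe u

variable {G : Type u} [Group G] [Finite G]

theorem IsA5Local.symm {k : G} {U D K1 K2 : Subgroup G} (h : IsA5Local k U D K1 K2) :
    IsA5Local k U D K2 K1 where
  le_D := h.le_D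
  D_le := h.D_le
  normal := h.normal
  comm := h.comm
  sq := h.sq
  inv := h.inv
  inv1 := h.inv2
  inv2 := h.inv1
  le1 := h.le2
  le2 := h.le1
  K1_le := h.K2_le
  K2_le := h.K1_le
  two1 := h.two2
  two2 := h.two1
  card1 := h.card2
  card2 := h.card1
  inf x hx hx' := h.inf x hx' hx
  cover P hP hP' := (h.cover P hP hP').symm
  cent := h.cent
  fix d hd h2 h1 := h.fix d hd h1 h2
  big := h.big
  dvd := h.dvd

/-- A local subgroup of type `2`-group by `A₅` whose two preimages of four-groups are maximal. -/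
structure DLoc (k : G) (D X Y : Subgroup G) : Prop where
  loc : IsA5Local k D D X Y
  max1 : IsMax k X
  max2 : IsMax k Y

namespace DLoc

variable {k : G} {D X Y : Subgroup G}

theorem symm (h : DLoc k D X Y) : DLoc k D Y X := ⟨h.loc.symm, h.max2, h.max1⟩

theorem inf_eq (h : DLoc k D X Y) : X ⊓ Y = D :=
  le_antisymm (fun _ hx => h.loc.inf _ hx.1 hx.2) (le_inf h.loc.le1 h.loc.le2)

theorem ne (h : DLoc k D X Y) : X ≠ Y := by
  rintro rfl
  have := h.inf_eq
  rw [inf_idem] at this
  subst this
  have := h.loc.card1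
  have := h.loc.big
  omega

theorem pair (h : DLoc k D X Y) {Z : Subgroup G} (hZ : IsMax k Z)
    (hle : Z ≤ normalizer (D : Set G)) : Z = X ∨ Z = Y :=
  (h.loc.cover Z hZ.inv hle).imp (fun e => (hZ.max X h.max1.inv e).symm)
    (fun e => (hZ.max Y h.max2.inv e).symm)

end DLoc

namespace Hyp

variable (H : Hyp G) {k : G}
include H

theorem isBig_of_dloc {D X Y : Subgroup G} (h : DLoc k D X Y) : IsBig k X :=
  ⟨h.max1, h.loc.two1, by have := h.loc.card1; have := h.loc.big; omega⟩

theorem exists_dloc (hk : orderOf k = 3) {U D K1 K2 : Subgroup G} (hU : Inv k U)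
    (hA : IsA5Local k U D K1 K2) : DLoc k D K1 K2 := by
  have hDne : D ≠ ⊥ := fun e => by have := hA.big; rw [e, card_bot] at this; omega
  have hcent : ∀ z : G, (∀ d ∈ D, z * d = d * z) → z ∈ D := fun z hz => hA.cent z
    (centralizer_le_normalizer _ (mem_centralizer_iff.mpr fun u hu => (hz u (hA.le_D hu)).symm)) hz
  have hnd : ∀ X, Inv k X → D ≤ X → X ≤ normalizer (D : Set G) := by
    intro X hX hDX
    have key : ∀ x ∈ X, ∀ d ∈ D, x * d * x⁻¹ ∈ D := by
      intro x hx d hd
      have hz := class_two (H.fpf hk hX) hX.coprime hx (hDX hd)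
      have hzD : ⁅x, d⁆ ∈ D := hcent _ fun e he => (hz.2 e (hDX he)).eq
      have := mul_mem hzD hd
      rwa [commutatorElement_def, inv_mul_cancel_right] at this
    intro x hx
    rw [mem_normalizer_iff]
    intro d
    refine ⟨fun hd => key x hx d hd, fun hd => ?_⟩
    have := key x⁻¹ (inv_mem hx) _ hd
    rwa [inv_inv, show x⁻¹ * (x * d * x⁻¹) * x = d by group] at this
  rcases H.types hk hA.inv hDne with ⟨N, hN⟩ | ⟨-, D', L1, L2, hA'⟩
  · exfalso
    set L := N ⊓ normalizer (U : Set G)
    have hL : Inv k L := by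
      refine hN.inv.mono inf_le_left fun x hx => ⟨hN.inv.mem x hx.1, ?_⟩
      have hk' := hU.mem_normalizer
      exact (normalizer (U : Set G)).mul_mem ((normalizer (U : Set G)).mul_mem hk' hx.2)
        ((normalizer (U : Set G)).inv_mem hk')
    have h1 : K1 ≤ L := le_inf (hN.cover K1 hA.inv1 (hA.K1_le.trans hA.normal)) hA.K1_le
    have h2 : K2 ≤ L := le_inf (hN.cover K2 hA.inv2 (hA.K2_le.trans hA.normal)) hA.K2_le
    have hb := hA.big
    rcases hA.cover L hL inf_le_right with h | h
    · have hle : K2 ≤ D := fun x hx => hA.inf x (h (h2 hx)) hx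
      have := Subgroup.card_le_of_le hle
      have := hA.card2
      omega
    · have hle : K1 ≤ D := fun x hx => hA.inf x hx (h (h1 hx))
      have := Subgroup.card_le_of_le hle
      have := hA.card1
      omega
  · have hD' : D' = D := by
      refine le_antisymm (fun d hd => hcent d fun e he => ?_) hA'.le_D
      exact hA'.comm d hd e (hA'.le_D he)
    subst hD'
    have step : ∀ K, Inv k K → D' ≤ K → Nat.card K = 4 * Nat.card D' →
        IsMax k K ∧ (K = L1 ∨ K = L2) := by
      intro K hK hDK hcard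
      have hKne : K ≠ ⊥ := fun e => by
        have := hA.big; rw [e, card_bot] at hcard; omega
      obtain ⟨X, hX, hKX⟩ := H.exists_isMax hK hKne
      rcases hA'.cover X hX.inv (hnd X hX.inv (hDK.trans hKX)) with h | h
      · have e : K = L1 := Subgroup.eq_of_le_of_card_ge (hKX.trans h) (by rw [hA'.card1, hcard])
        have eX : X = K := le_antisymm (h.trans e.ge) hKX
        exact ⟨eX ▸ hX, Or.inl e⟩
      · have e : K = L2 := Subgroup.eq_of_le_of_card_ge (hKX.trans h) (by rw [hA'.card2, hcard])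
        have eX : X = K := le_antisymm (h.trans e.ge) hKX
        exact ⟨eX ▸ hX, Or.inr e⟩
    obtain ⟨m1, c1⟩ := step K1 hA.inv1 hA.le1 hA.card1
    obtain ⟨m2, c2⟩ := step K2 hA.inv2 hA.le2 hA.card2
    have hne : K1 ≠ K2 := by
      rintro rfl
      have hle : K1 ≤ D' := fun x hx => hA.inf x hx hx
      have := Subgroup.card_le_of_le hle
      have := hA.card1
      have := hA.big
      omega
    rcases c1 with e1 | e1 <;> rcases c2 with e2 | e2
    · exact absurd (e1.trans e2.symm) hne
    · subst e1 e2; exact ⟨hA', m1, m2⟩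
    · subst e1 e2; exact ⟨hA'.symm, m1, m2⟩
    · exact absurd (e1.trans e2.symm) hne

/-- A large maximal subgroup lies in one local subgroup of this type. -/
theorem dloc_unique (hk : orderOf k = 3) {D D' X Y Y' : Subgroup G} (h : DLoc k D X Y)
    (h' : DLoc k D' X Y') (hlt : 16 < Nat.card D) : D = D' := by
  by_contra hne
  have hc : Nat.card D' = Nat.card D := by
    have := h.loc.card1
    have := h'.loc.card1
    omega
  set S := D ⊔ D' with hS
  have hSX : S ≤ X := sup_le h.loc.le1 h'.loc.le1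
  have hSinv : Inv k S := by
    refine h.max1.inv.mono hSX fun n hn => ?_
    have e : cg k S = S := by
      rw [hS, FT62.cg, Subgroup.map_sup]
      exact congrArg₂ (· ⊔ ·) (cg_eq_self_iff.mpr h.loc.inv.mem_normalizer)
        (cg_eq_self_iff.mpr h'.loc.inv.mem_normalizer)
    rw [← e]
    exact conj_mem_cg.mpr hn
  have hXS : X = S := by
    obtain ⟨t, ht⟩ := card_dvd_of_le (show D ≤ S from le_sup_left)
    have hd := card_dvd_of_le hSX
    rw [ht, h.loc.card1, mul_comm 4] at hd
    have ht4 : t ∣ 4 := Nat.dvd_of_mul_dvd_mul_left Nat.card_pos hd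
    have htle := Nat.le_of_dvd (by norm_num) ht4
    have hm := H.card_mod_three hk hSinv
    have hm' := H.card_mod_three hk h.loc.inv
    have ht1 : t ≠ 1 := fun e => by
      rw [e, mul_one] at ht
      have hDS : D = S := Subgroup.eq_of_le_of_card_ge le_sup_left ht.le
      exact hne (Subgroup.eq_of_le_of_card_ge (hDS ▸ le_sup_right : D' ≤ D) hc.ge).symm
    have ht2 : t ≠ 2 := fun e => by rw [e] at ht; omega
    have ht3 : t ≠ 3 := fun e => by rw [e] at ht4; norm_num at ht4
    have ht0 : t ≠ 0 := fun e => by rw [e] at ht4; norm_num at ht4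
    refine (Subgroup.eq_of_le_of_card_ge hSX ?_).symm
    rw [ht, h.loc.card1, show t = 4 by omega, mul_comm]
  have hZ : ∀ z ∈ D ⊓ D', InZ X z := by
    rintro z ⟨hz, hz'⟩
    refine ⟨h.loc.le1 hz, fun x hx => ?_⟩
    have hle : S ≤ centralizer ({z} : Set G) := sup_le
      (fun d hd => mem_centralizer_singleton_iff.mpr (h.loc.comm d hd z hz))
      (fun d hd => mem_centralizer_singleton_iff.mpr (h'.loc.comm d hd z hz'))
    exact (mem_centralizer_singleton_iff.mp (hle (hXS ▸ hx))).symm
  have h4 : Nat.card D ≤ 4 * Nat.card {z : G // InZ X z} := by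
    have hr : D.relIndex X = 4 := by
      have := relIndex_mul_card h.loc.le1
      rw [h.loc.card1] at this
      exact Nat.eq_of_mul_eq_mul_right Nat.card_pos this
    have hle : D.relIndex D' ≤ 4 := hr ▸ relIndex_le_of_le_right h'.loc.le1 (by rw [hr]; norm_num)
    have hmul := relIndex_mul_card (inf_le_right : D ⊓ D' ≤ D')
    rw [inf_relIndex_right] at hmul
    have hinj : Nat.card ↥(D ⊓ D') ≤ Nat.card {z : G // InZ X z} :=
      Nat.card_le_card_of_injective (fun z => ⟨z, hZ z z.2⟩)
        fun a b e => Subtype.ext (congrArg (fun w : {z : G // InZ X z} => (w : G)) e)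
    rw [← hc, ← hmul]
    exact Nat.mul_le_mul hle hinj
  have hzD : ∀ {Z W : Subgroup G}, DLoc k D Z W → ∀ z, InZ Z z → z ∈ D := fun hZW z hz =>
    hZW.loc.cent z (hZW.loc.K1_le hz.1) fun d hd => (hz.2 d (hZW.loc.le1 hd)).eq
  have hprod : Nat.card {z : G // InZ X z} * Nat.card {z : G // InZ Y z} ≤ Nat.card D := by
    rw [← Nat.card_prod]
    refine Nat.card_le_card_of_injective
      (fun p => (⟨(p.1 : G) * p.2, mul_mem (hzD h _ p.1.2) (hzD h.symm _ p.2.2)⟩ : D)) ?_
    rintro ⟨a, b⟩ ⟨a', b'⟩ e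
    have e' : (a : G) * b = a' * b' := congrArg Subtype.val e
    set z := (a' : G)⁻¹ * a with hz
    have h1 : InZ X z := a'.2.inv.mul a.2
    have h2 : InZ Y z := by
      have : z = (b' : G) * (b : G)⁻¹ := by
        calc z = (a' : G)⁻¹ * (a * b) * (b : G)⁻¹ := by rw [hz]; group
          _ = _ := by rw [e']; group
      rw [this]
      exact b'.2.mul b.2.inv
    have hz1 : z = 1 := h.loc.fix z (hzD h z h1) (fun g hg => (h1.2 g hg).eq.symm)
      fun g hg => (h2.2 g hg).eq.symm
    have ha : a = a' := Subtype.ext (inv_mul_eq_one.mp (hz ▸ hz1)).symm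
    subst ha
    rw [Subtype.ext (mul_left_cancel e')]
  have hconj : Nat.card {z : G // InZ Y z} = Nat.card {z : G // InZ X z} := by
    obtain ⟨g, rfl⟩ := H.conj_big hk (H.isBig_of_dloc h) (H.isBig_of_dloc h.symm)
    refine (Nat.card_congr ((MulAut.conj g).toEquiv.subtypeEquiv fun z => ?_)).symm
    show InZ X z ↔ InZ (cg g X) (g * z * g⁻¹)
    constructor
    · rintro ⟨hz, hc⟩
      refine ⟨conj_mem_cg.mpr hz, fun x hx => ?_⟩
      rw [mem_cg] at hx
      show g * z * g⁻¹ * x = x * (g * z * g⁻¹)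
      calc g * z * g⁻¹ * x = g * (z * (g⁻¹ * x * g)) * g⁻¹ := by group
        _ = g * ((g⁻¹ * x * g) * z) * g⁻¹ := by rw [(hc _ hx).eq]
        _ = _ := by group
    · rintro ⟨hz, hc⟩
      refine ⟨conj_mem_cg.mp hz, fun x hx => ?_⟩
      have := (hc _ (conj_mem_cg.mpr hx)).eq
      show z * x = x * z
      calc z * x = g⁻¹ * (g * z * g⁻¹ * (g * x * g⁻¹)) * g := by group
        _ = g⁻¹ * (g * x * g⁻¹ * (g * z * g⁻¹)) * g := by rw [this]
        _ = _ := by group
  rw [hconj] at hprod
  nlinarith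

/-- Every large maximal subgroup has a partner. -/
theorem exists_partner (hk : orderOf k = 3) {D X₀ Y₀ X : Subgroup G} (h : DLoc k D X₀ Y₀)
    (hX : IsBig k X) :
    ∃ Y, IsMax k Y ∧ Y ≠ X ∧ Nat.card ↥(X ⊓ Y) = Nat.card D := by
  obtain ⟨g, rfl⟩ := H.conj_big hk (H.isBig_of_dloc h) hX
  obtain ⟨-, t, ht, he⟩ := H.isMax_conj hk h.max1 hX.max.inv.mem_normalizer
  have hk' : k ∈ normalizer (cg t Y₀ : Set G) := by
    rw [normalizer_cg, mem_cg]
    rcases he with e | e
    · rw [show t⁻¹ * k * t = k by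
        calc t⁻¹ * k * t = t⁻¹ * (t * k * t⁻¹) * t := by rw [e]
          _ = k := by group]
      exact h.max2.inv.mem_normalizer
    · rw [show t⁻¹ * k * t = k⁻¹ by
        calc t⁻¹ * k * t = t⁻¹ * (t * k * t⁻¹)⁻¹ * t := by rw [e, inv_inv]
          _ = k⁻¹ := by group]
      exact inv_mem h.max2.inv.mem_normalizer
  refine ⟨cg t Y₀, (H.isMax_conj hk h.max2 hk').1, fun e => h.ne ?_, ?_⟩
  · have := congrArg (cg t⁻¹) e
    rw [cg_inv_cg, ← ht, cg_inv_cg] at this
    exact this.symm
  · rw [← ht, FT62.cg, FT62.cg, ← Subgroup.map_inf _ _ _ (MulAut.conj t).injective, h.inf_eq]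
    exact card_cg t D

/-- Two intersecting large subgroups are the two preimages of a local subgroup. -/
theorem dloc_of_inter (hk : orderOf k = 3)
    (hbig : ∀ D X Y, DLoc k D X Y → 16 < Nat.card D) : ∀ (n : ℕ) (X Y : Subgroup G),
    Nat.card G - Nat.card ↥(X ⊓ Y) ≤ n → IsMax k X → IsMax k Y → X ≠ Y → X ⊓ Y ≠ ⊥ →
      ∃ D, DLoc k D X Y := by
  intro n
  induction n using Nat.strong_induction_on with
  | _ n ih =>
    intro X Y hn hX hY hne hD
    set D₀ := X ⊓ Y with hD₀
    have hD₀inv : Inv k D₀ :=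
      hX.inv.mono inf_le_left fun x hx => ⟨hX.inv.mem x hx.1, hY.inv.mem x hx.2⟩
    have hproper : ∀ Z, (Z = X ∨ Z = Y) → D₀ ≠ Z := by
      rintro Z (rfl | rfl) e
      · exact hne (hX.max Y hY.inv (e ▸ inf_le_right)).symm
      · exact hne (hY.max X hX.inv (e ▸ inf_le_left))
    have hgrow : ∀ Z, (Z = X ∨ Z = Y) →
        Inv k (Z ⊓ normalizer (D₀ : Set G)) ∧ D₀ < Z ⊓ normalizer (D₀ : Set G) := by
      intro Z hZ
      have hZm : IsMax k Z := by rcases hZ with rfl | rfl <;> assumption
      refine ⟨hZm.inv.mono inf_le_left fun x hx => ⟨hZm.inv.mem x hx.1, ?_⟩, ?_⟩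
      · exact (normalizer (D₀ : Set G)).mul_mem
          ((normalizer (D₀ : Set G)).mul_mem hD₀inv.mem_normalizer hx.2)
          ((normalizer (D₀ : Set G)).inv_mem hD₀inv.mem_normalizer)
      · refine FT62.Setting.lt_inf_normalizer (H.fpf hk hZm.inv).isNilpotent
          (lt_of_le_of_ne ?_ (hproper Z hZ))
        rcases hZ with rfl | rfl
        exacts [inf_le_left, inf_le_right]
    have hrec : ∀ Z W, IsMax k Z → IsMax k W → Z ≠ W → D₀ < Z ⊓ W → ∃ D, DLoc k D Z W := by
      intro Z W hZ hW hne' hlt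
      have hc : Nat.card D₀ < Nat.card ↥(Z ⊓ W) := by
        refine lt_of_le_of_ne (Subgroup.card_le_of_le hlt.le) fun e => hlt.ne ?_
        exact Subgroup.eq_of_le_of_card_ge hlt.le e.ge
      have := Nat.le_of_dvd Nat.card_pos (card_subgroup_dvd_card (Z ⊓ W))
      exact ih _ (by omega) Z W le_rfl hZ hW hne' fun e => not_lt_bot (e ▸ hlt)
    rcases H.types hk hD₀inv hD with ⟨N, hN⟩ | ⟨-, D, L1, L2, hA⟩
    · obtain ⟨Z, hZ, hle⟩ := H.exists_isMax hN.inv fun e => hD (le_bot_iff.mp
        (e ▸ hN.cover D₀ hD₀inv le_normalizer))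
      have hg : ∀ W, (W = X ∨ W = Y) → D₀ < W ⊓ Z := fun W hW =>
        (hgrow W hW).2.trans_le (le_inf inf_le_left
          ((hN.cover _ (hgrow W hW).1 inf_le_right).trans hle))
      have hXZ : X ≠ Z := fun e => by
        have := hg Y (Or.inr rfl)
        rw [← e, inf_comm] at this
        exact lt_irrefl _ this
      have hYZ : Y ≠ Z := fun e => by
        have := hg X (Or.inl rfl)
        rw [← e] at this
        exact lt_irrefl _ this
      obtain ⟨D1, h1⟩ := hrec X Z hX hZ hXZ (hg X (Or.inl rfl))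
      obtain ⟨D2, h2⟩ := hrec Y Z hY hZ hYZ (hg Y (Or.inr rfl))
      have e := H.dloc_unique hk h1.symm h2.symm (hbig _ _ _ h1)
      subst e
      rcases h1.pair hY h2.loc.K1_le with e | e
      exacts [absurd e.symm hne, absurd e hYZ]
    · have hl := H.exists_dloc hk hD₀inv hA
      have hside : ∀ Z, (Z = X ∨ Z = Y) → Z = L1 ∨ Z = L2 := by
        intro Z hZ
        have hZm : IsMax k Z := by rcases hZ with rfl | rfl <;> assumption
        have main : ∀ L L', DLoc k D L L' → Z ⊓ normalizer (D₀ : Set G) ≤ L → Z = L ∨ Z = L' := by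
          intro L L' hLL hle
          by_cases e : Z = L
          · exact Or.inl e
          obtain ⟨D', h'⟩ := hrec Z L hZm hLL.max1 e
            ((hgrow Z hZ).2.trans_le (le_inf inf_le_left hle))
          have eD := H.dloc_unique hk hLL h'.symm (hbig _ _ _ hLL)
          subst eD
          rcases hLL.pair hZm h'.loc.K1_le with e' | e'
          exacts [absurd e' e, Or.inr e']
        rcases hA.cover _ (hgrow Z hZ).1 inf_le_right with h | h
        · exact main L1 L2 hl h
        · exact (main L2 L1 hl.symm h).symm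
      refine ⟨D, ?_⟩
      rcases hside X (Or.inl rfl) with eX | eX <;> rcases hside Y (Or.inr rfl) with eY | eY
      · exact absurd (eX.trans eY.symm) hne
      · rw [eX, eY]; exact hl
      · rw [eX, eY]; exact hl.symm
      · exact absurd (eX.trans eY.symm) hne

end Hyp

end Cfsg.Agent.LAE65.OneClass
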