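import Cfsg.Agent.LAE65.OneClass.Types
import Cfsg.Agent.FGS76.Fpf3

/-!
# Large invariant `2`-subgroups are unique in a Sylow subgroup
-/

set_option autoImplicit false
set_option linter.unusedSectionVars false

namespace Cfsg.Agent.LAE65.OneClass

open Subgroup Cfsg.Agent.FT62
open scoped commutatorElement

universe u

variable {G : Type u} [Group G]

/-- `z` is central in `X`. -/
def InZ (X : Subgroup G) (z : G) : Prop := z ∈ X ∧ ∀ x ∈ X, Commute z x

namespace InZ

variable {X : Subgroup G} {z z' : G}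

theorem one (X : Subgroup G) : InZ X (1 : G) := ⟨one_mem X, fun _ _ => Commute.one_left _⟩

theorem mul (h : InZ X z) (h' : InZ X z') : InZ X (z * z') :=
  ⟨mul_mem h.1 h'.1, fun x hx => (h.2 x hx).mul_left (h'.2 x hx)⟩

theorem inv (h : InZ X z) : InZ X z⁻¹ := ⟨inv_mem h.1, fun x hx => (h.2 x hx).inv_left⟩

theorem conj {g : G} (hg : ∀ x ∈ X, g * x * g⁻¹ ∈ X) (hg' : ∀ x ∈ X, g⁻¹ * x * g ∈ X)
    (h : InZ X z) : InZ X (g * z * g⁻¹) := by
  refine ⟨hg z h.1, fun x hx => ?_⟩
  show g * z * g⁻¹ * x = x * (g * z * g⁻¹)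
  calc g * z * g⁻¹ * x = g * (z * (g⁻¹ * x * g)) * g⁻¹ := by group
    _ = g * ((g⁻¹ * x * g) * z) * g⁻¹ := by rw [(h.2 _ (hg' x hx)).eq]
    _ = _ := by group

end InZ

section Fpf

variable [Finite G] {k : G} {X : Subgroup G} (hf : Fpf3 k X)
include hf

theorem class_two (h3 : ¬ 3 ∣ Nat.card X) {a b : G} (ha : a ∈ X) (hb : b ∈ X) :
    InZ X ⁅a, b⁆ := by
  let φ : X ≃* X :=
    { toFun := fun n => ⟨k * n * k⁻¹, hf.mem n n.2⟩
      invFun := fun n => ⟨k⁻¹ * n * k, hf.mem' n.2⟩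
      left_inv := fun n => Subtype.ext (by simp [mul_assoc])
      right_inv := fun n => Subtype.ext (by simp [mul_assoc])
      map_mul' := fun a b => Subtype.ext (by simp [mul_assoc]) }
  have hfix : ∀ g, φ g = g → g = 1 := fun g hg =>
    Subtype.ext (hf.fpf g g.2 (congrArg Subtype.val hg))
  have hthree : ∀ g, φ (φ (φ g)) = g := fun g => Subtype.ext (by
    show k * (k * (k * (g : G) * k⁻¹) * k⁻¹) * k⁻¹ = g
    have e : k * (k * (k * (g : G) * k⁻¹) * k⁻¹) * k⁻¹ = (k * k * k) * g * (k * k * k)⁻¹ := by group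
    rw [e, hf.cube, one_mul, inv_one, mul_one])
  have hE := FGS76.fpf3_engel φ hfix hthree
  refine ⟨?_, fun x hx => ?_⟩
  · rw [commutatorElement_def]
    exact mul_mem (mul_mem (mul_mem ha hb) (inv_mem ha)) (inv_mem hb)
  · exact congrArg Subtype.val
      (FGS76.commutator_mem_center_of_engel hE h3 ⟨a, ha⟩ ⟨b, hb⟩ ⟨x, hx⟩).eq

/-- An element with at most two conjugates is central. -/
theorem commute_of_two {y u : G} (hy : y ∈ X) (hu : InZ X u) (hu2 : u * u = 1)
    (h : ∀ x ∈ X, y * x * y⁻¹ = x ∨ y * x * y⁻¹ = u * x) : InZ X y := by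
  refine ⟨hy, ?_⟩
  let D : Subgroup G := X ⊓ centralizer ({y} : Set G)
  have hD : D = X := by
    refine hf.eq_of_inv_index_two inf_le_left ?_ ?_
    · rintro d ⟨hd, hdy⟩
      exact ⟨hf.mem d hd, mem_centralizer_singleton_iff.mpr
        (hf.commute_conj hy hd (mem_centralizer_singleton_iff.mp hdy).symm).symm⟩
    · intro a ha b hb haD hbD
      have key : ∀ c ∈ X, c ∉ D → y * c * y⁻¹ = u * c := fun c hc hcD =>
        (h c hc).resolve_left fun e => hcD ⟨hc, mem_centralizer_singleton_iff.mpr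
          (mul_inv_eq_iff_eq_mul.mp e).symm⟩
      refine ⟨mul_mem ha hb, mem_centralizer_singleton_iff.mpr ?_⟩
      refine (mul_inv_eq_iff_eq_mul.mp ?_).symm
      calc y * (a * b) * y⁻¹ = (y * a * y⁻¹) * (y * b * y⁻¹) := by group
        _ = u * (a * u) * b := by rw [key a ha haD, key b hb hbD]; group
        _ = u * u * (a * b) := by rw [← (hu.2 a ha).eq]; group
        _ = a * b := by rw [hu2, one_mul]
  intro x hx
  exact (mem_centralizer_singleton_iff.mp ((hD.ge hx).2)).symm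

end Fpf

/-- A large invariant `2`-subgroup inside a `2`-group containing it with index at most two. -/
structure Struct (k : G) (X T : Subgroup G) : Prop where
  inv : Inv k X
  two : IsPGroup 2 T
  le : X ≤ T
  norm : ∀ t ∈ T, ∀ x ∈ X, t * x * t⁻¹ ∈ X
  idx : ∀ t ∈ T, ∀ t' ∈ T, t ∉ X → t' ∉ X → t * t' ∈ X
  inverts : ∀ t ∈ T, t ∉ X → ∃ n ∈ X, t * k * t⁻¹ = n * k⁻¹

namespace Struct

variable [Finite G] {k : G} {X T : Subgroup G} (S : Struct k X T) (hf : Fpf3 k X)
include S hf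

/-- The conjugates under `k` of a central element fixed by `t ∉ X`. -/
theorem conj_center {t a : G} (ht : t ∈ T) (htX : t ∉ X) (ha : InZ X a) :
    t * (k * a * k⁻¹) * t⁻¹ = k⁻¹ * (t * a * t⁻¹) * k := by
  obtain ⟨n, hn, he⟩ := S.inverts t ht htX
  have hta : InZ X (t * a * t⁻¹) := ha.conj (S.norm t ht) fun x hx => by
    simpa using S.norm t⁻¹ (inv_mem ht) x hx
  have hl : InZ X (k⁻¹ * (t * a * t⁻¹) * k) := by
    simpa using InZ.conj (g := k⁻¹) (fun x hx => by simpa using hf.mem' hx)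
      (fun x hx => by simpa using hf.mem x hx) hta
  calc t * (k * a * k⁻¹) * t⁻¹ = (t * k * t⁻¹) * (t * a * t⁻¹) * (t * k * t⁻¹)⁻¹ := by group
    _ = n * (k⁻¹ * (t * a * t⁻¹) * k) * n⁻¹ := by rw [he]; group
    _ = (k⁻¹ * (t * a * t⁻¹) * k) * n * n⁻¹ := by rw [(hl.2 n hn).eq]
    _ = _ := by group

/-- A central element fixed, with its conjugate, by `t ∉ X` is trivial. -/
theorem half {t a : G} (ht : t ∈ T) (htX : t ∉ X) (ha : InZ X a) (h1 : Commute t a)
    (h2 : Commute t (k * a * k⁻¹)) : a = 1 := by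
  have h := S.conj_center hf ht htX ha
  rw [h1.eq, mul_inv_cancel_right, h2.eq, mul_inv_cancel_right] at h
  refine hf.fpf a ha.1 ?_
  have e : k * (k * a * k⁻¹) * k⁻¹ = a := by
    rw [h]; group
  calc k * a * k⁻¹ = k * (k * (k * a * k⁻¹) * k⁻¹) * k⁻¹ := by rw [e]
    _ = (k * k * k) * a * (k * k * k)⁻¹ := by group
    _ = a := by rw [hf.cube]; group

/-- The same modulo the centre. -/
theorem half_mod (h3 : ¬ 3 ∣ Nat.card X) {t a : G} (ht : t ∈ T) (htX : t ∉ X) (ha : a ∈ X)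
    (h1 : InZ X (t * a * t⁻¹ * a⁻¹))
    (h2 : InZ X (t * (k * a * k⁻¹) * t⁻¹ * (k * a * k⁻¹)⁻¹)) : InZ X a := by
  obtain ⟨n, hn, he⟩ := S.inverts t ht htX
  set r := k * a * k⁻¹ with hr
  set l := k⁻¹ * a * k with hl
  have hrX : r ∈ X := hf.mem a ha
  have hlX : l ∈ X := hf.mem' ha
  have hkinv : ∀ x ∈ X, k⁻¹ * x * k ∈ X := fun x hx => hf.mem' hx
  -- `r ≡ l`
  have h4 : InZ X (r * l⁻¹) := by
    set c := k⁻¹ * (t * a * t⁻¹ * a⁻¹) * k with hcd
    have hc : InZ X c := by
      simpa using InZ.conj (g := k⁻¹) (by simpa using hkinv)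
        (fun x hx => by simpa using hf.mem x hx) h1
    have e1 : t * r * t⁻¹ = c * ⁅n, l⁆ * l := by
      calc t * r * t⁻¹ = (t * k * t⁻¹) * (t * a * t⁻¹) * (t * k * t⁻¹)⁻¹ := by rw [hr]; group
        _ = n * (c * l) * n⁻¹ := by rw [he, hl, hcd]; group
        _ = (n * c) * l * n⁻¹ := by group
        _ = (c * n) * l * n⁻¹ := by rw [(hc.2 n hn).eq]
        _ = _ := by rw [commutatorElement_def]; group
    have e2 : r * l⁻¹ = (t * r * t⁻¹ * r⁻¹)⁻¹ * (c * ⁅n, l⁆) := by
      rw [e1]; group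
    rw [e2]
    exact h2.inv.mul (hc.mul (class_two hf h3 hn hlX))
  have h5 : InZ X (l * a⁻¹) := by
    have e : k * (r * l⁻¹) * k⁻¹ = l * a⁻¹ := by
      have e3 : k * r * k⁻¹ = l := by
        rw [hr, hl]
        have hk2 : k⁻¹ = k * k := inv_eq_of_mul_eq_one_right (by rw [← mul_assoc]; exact hf.cube)
        calc k * (k * a * k⁻¹) * k⁻¹ = (k * k) * a * (k * k)⁻¹ := by group
          _ = k⁻¹ * a * k := by rw [← hk2, inv_inv]
      calc k * (r * l⁻¹) * k⁻¹ = (k * r * k⁻¹) * (k * l * k⁻¹)⁻¹ := by group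
        _ = l * a⁻¹ := by rw [e3, hl]; group
    rw [← e]
    exact h4.conj hf.mem hkinv
  -- absorb the central difference
  let Zs : Subgroup G :=
    { carrier := {z | InZ X z}
      one_mem' := InZ.one X
      mul_mem' := fun h h' => InZ.mul h h'
      inv_mem' := fun h => InZ.inv h }
  have hk2 : k⁻¹ * k⁻¹ * k⁻¹ = 1 := by
    rw [show k⁻¹ * k⁻¹ * k⁻¹ = (k * k * k)⁻¹ by group, hf.cube, inv_one]
  have hfZ : Fpf3 k⁻¹ Zs := ⟨hk2, fun z hz => InZ.conj (by simpa using hkinv)
      (fun x hx => by simpa using hf.mem x hx) hz, fun z hz e => hf.fpf z hz.1 (by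
        calc k * z * k⁻¹ = k * (k⁻¹ * z * k⁻¹⁻¹) * k⁻¹ := by rw [e]
          _ = z := by group)⟩
  obtain ⟨m, hm, hme⟩ := hfZ.surj (show l * a⁻¹ ∈ Zs from h5)
  have hm' : InZ X m := hm
  have e : k⁻¹ * (a * m⁻¹) * k⁻¹⁻¹ = a * m⁻¹ := by
    calc k⁻¹ * (a * m⁻¹) * k⁻¹⁻¹ = l * (k⁻¹ * m * k⁻¹⁻¹)⁻¹ := by rw [hl]; group
      _ = l * (m * (l * a⁻¹))⁻¹ := by rw [← hme]; group
      _ = l * ((l * a⁻¹) * m)⁻¹ := by rw [(hm'.2 _ h5.1).eq]
      _ = l * (m⁻¹ * (a * l⁻¹)) := by group
      _ = m⁻¹ * (l * (a * l⁻¹)) := by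
          rw [← mul_assoc, ← (hm'.inv.2 l hlX).eq, mul_assoc]
      _ = m⁻¹ * (l * a⁻¹)⁻¹ * (l * a⁻¹) * (l * (a * l⁻¹)) := by group
      _ = m⁻¹ * ((l * a⁻¹)⁻¹ * (l * a⁻¹ * (l * (a * l⁻¹)))) := by group
      _ = m⁻¹ * ((l * a⁻¹)⁻¹ * (l * (a * l⁻¹) * (l * a⁻¹))) := by
          rw [(h5.2 _ (mul_mem hlX (mul_mem ha (inv_mem hlX)))).eq]
      _ = m⁻¹ * a := by group
      _ = a * m⁻¹ := (hm'.inv.2 a ha).eq
  have := hf.fpf (a * m⁻¹) (mul_mem ha (inv_mem hm'.1)) (by
    calc k * (a * m⁻¹) * k⁻¹ = k * (k⁻¹ * (a * m⁻¹) * k⁻¹⁻¹) * k⁻¹ := by rw [e]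
      _ = a * m⁻¹ := by group)
  rw [mul_inv_eq_one.mp this]
  exact hm'

theorem exists_central (hne : X ≠ ⊥) :
    ∃ u, u ∈ T ∧ u ≠ 1 ∧ u * u = 1 ∧ (∀ t ∈ T, Commute u t) ∧ InZ X u := by
  haveI : Fact (Nat.Prime 2) := ⟨Nat.prime_two⟩
  haveI : Nontrivial T := (nontrivial_iff_ne_bot T).mpr fun e => hne (le_bot_iff.mp (e ▸ S.le))
  have hZ := S.two.center_nontrivial
  obtain ⟨n, hn, hcard⟩ := (S.two.to_subgroup (center T)).nontrivial_iff_card.mp hZ
  obtain ⟨w, hw⟩ := exists_prime_orderOf_dvd_card' (G := center T) 2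
    (hcard ▸ dvd_pow_self 2 hn.ne')
  set u : G := ((w : T) : G) with hu
  have hu2 : u * u = 1 := by
    have := pow_orderOf_eq_one w
    rw [hw, pow_two] at this
    exact congrArg (fun z : center T => ((z : T) : G)) this
  have hu1 : u ≠ 1 := fun e => by
    have : w = 1 := Subtype.ext (Subtype.ext e)
    rw [this, orderOf_one] at hw
    norm_num at hw
  have huc : ∀ t ∈ T, Commute u t := fun t ht =>
    (congrArg Subtype.val (mem_center_iff.mp w.2 ⟨t, ht⟩)).symm
  have huX : u ∈ X := by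
    by_contra huX
    haveI := hf.isNilpotent
    haveI : Nontrivial X := (nontrivial_iff_ne_bot X).mpr hne
    haveI : Nontrivial (center X) :=
      (nontrivial_iff_ne_bot _).mpr (Group.IsNilpotent.center_ne_bot X)
    obtain ⟨⟨⟨a, haX⟩, ha⟩, ha1⟩ := exists_ne (1 : center X)
    have haZ : InZ X a :=
      ⟨haX, fun x hx => (congrArg Subtype.val (mem_center_iff.mp ha ⟨x, hx⟩)).symm⟩
    exact ha1 (Subtype.ext (Subtype.ext (S.half hf (w : T).2 huX haZ (huc a (S.le haX))
      (huc _ (S.le (hf.mem a haX))))))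
  exact ⟨u, (w : T).2, hu1, hu2, huc, huX, fun x hx => huc x (S.le hx)⟩

end Struct

theorem Struct.le_of_lt [Finite G] {k k' : G} {X X' T : Subgroup G} (S : Struct k X T)
    (hf : Fpf3 k X) (S' : Struct k' X' T) (hf' : Fpf3 k' X') (hX : 4 < Nat.card X) : X ≤ X' := by
  classical
  have hne : X ≠ ⊥ := fun e => by rw [e, card_bot] at hX; omega
  obtain ⟨u, huT, hu1, hu2, huc, huZ⟩ := S.exists_central hf hne
  by_contra hle
  obtain ⟨x₀, hx₀, hx₀'⟩ := SetLike.not_le_iff_exists.mp hle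
  have huX' : InZ X' u := by
    by_cases hX' : X' = ⊥
    · exfalso
      subst hX'
      have key : ∀ x ∈ X, ∀ y ∈ X, x ≠ 1 → y ≠ 1 → x * y = 1 := fun x hx y hy h1 h2 =>
        mem_bot.mp (S'.idx x (S.le hx) y (S.le hy) (by simpa using h1) (by simpa using h2))
      have hsub : ∀ x ∈ X, x = 1 ∨ x = u := fun x hx => by
        by_cases h : x = 1
        · exact Or.inl h
        · refine Or.inr ?_
          have h' := key x hx u huZ.1 h hu1
          rw [eq_inv_of_mul_eq_one_left h', inv_eq_of_mul_eq_one_right hu2]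
      rcases hsub _ (hf.mem u huZ.1) with e | e
      · exact hu1 (conj_eq_one_iff.mp e)
      · exact hu1 (hf.fpf u huZ.1 e)
    · obtain ⟨u', -, -, -, hu'c, hu'Z⟩ := S'.exists_central hf' hX'
      have huX' : u ∈ X' := by
        by_contra h
        haveI := hf'.isNilpotent
        haveI : Nontrivial X' := (nontrivial_iff_ne_bot X').mpr hX'
        haveI : Nontrivial (center X') :=
          (nontrivial_iff_ne_bot _).mpr (Group.IsNilpotent.center_ne_bot X')
        obtain ⟨⟨⟨a, haX⟩, ha⟩, ha1⟩ := exists_ne (1 : center X')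
        have haZ : InZ X' a :=
          ⟨haX, fun x hx => (congrArg Subtype.val (mem_center_iff.mp ha ⟨x, hx⟩)).symm⟩
        exact ha1 (Subtype.ext (Subtype.ext (S'.half hf' huT h haZ (huc a (S'.le haX))
          (huc _ (S'.le (hf'.mem a haX))))))
      exact ⟨huX', fun x hx => huc x (S'.le hx)⟩
  set v := k' * u * k'⁻¹ with hv
  have hvZ : InZ X' v := huX'.conj hf'.mem (fun x hx => hf'.mem' hx)
  have hvT : v ∈ T := S'.le hvZ.1
  have hv2 : v * v = 1 := by
    rw [hv, show k' * u * k'⁻¹ * (k' * u * k'⁻¹) = k' * (u * u) * k'⁻¹ by group, hu2]; group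
  have hw : k'⁻¹ * u * k' = u * v := by
    have h := hf'.norm_eq_one huX'.1
    rw [eq_inv_of_mul_eq_one_right h, mul_inv_rev, inv_eq_of_mul_eq_one_right hv2,
      inv_eq_of_mul_eq_one_right hu2]
    exact (huc v hvT).eq.symm
  by_cases hvX : v ∈ X
  · -- `v` is central in `X`
    have hvX' : InZ X v := by
      refine commute_of_two hf hvX huZ hu2 fun x hx => ?_
      by_cases hx' : x ∈ X'
      · exact Or.inl (by rw [(hvZ.2 x hx').eq, mul_inv_cancel_right])
      · right
        have h := S'.conj_center hf' (S.le hx) hx' huX'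
        rw [(huc x (S.le hx)).symm.eq, mul_inv_cancel_right, hw, ← hv] at h
        calc v * x * v⁻¹ = u * (u * v) * x * v⁻¹ := by rw [← mul_assoc, hu2, one_mul]
          _ = u * (x * v * x⁻¹) * x * v⁻¹ := by rw [h]
          _ = u * x := by group
    exact hu1 (S'.half hf' (S.le hx₀) hx₀' huX' (huc x₀ (S.le hx₀)).symm (hvX'.2 x₀ hx₀).symm)
  · have h3 := S.inv.coprime
    have hcomm : ∀ a ∈ X', Commute v a := hvZ.2
    -- parity relative to `X'`
    let par : G → Bool × Bool := fun x => (decide (x ∈ X'), decide (k * x * k⁻¹ ∈ X'))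
    have hdiv : ∀ x ∈ X, ∀ y ∈ X, decide (x ∈ X') = decide (y ∈ X') → x * y⁻¹ ∈ X' := by
      intro x hx y hy h
      rw [decide_eq_decide] at h
      by_cases hx' : x ∈ X'
      · exact mul_mem hx' (inv_mem (h.mp hx'))
      · exact S'.idx x (S.le hx) y⁻¹ (inv_mem (S.le hy)) hx' fun h' => hx' (h.mpr (inv_mem_iff.mp h'))
    have hsplit : ∀ x ∈ X, ∀ y ∈ X, par x = par y →
        x * y⁻¹ ∈ X' ∧ k * (x * y⁻¹) * k⁻¹ ∈ X' := by
      intro x hx y hy h
      simp only [par, Prod.mk.injEq] at h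
      refine ⟨hdiv x hx y hy h.1, ?_⟩
      rw [show k * (x * y⁻¹) * k⁻¹ = (k * x * k⁻¹) * (k * y * k⁻¹)⁻¹ by group]
      exact hdiv _ (hf.mem x hx) _ (hf.mem y hy) h.2
    have hmodz : ∀ x ∈ X, ∀ y ∈ X, par x = par y → InZ X (x * y⁻¹) := by
      intro x hx y hy h
      obtain ⟨h1, h2⟩ := hsplit x hx y hy h
      refine S.half_mod hf h3 hvT hvX (mul_mem hx (inv_mem hy)) ?_ ?_
      · rw [(hcomm _ h1).eq, mul_inv_cancel_right, mul_inv_cancel]; exact InZ.one X
      · rw [(hcomm _ h2).eq, mul_inv_cancel_right, mul_inv_cancel]; exact InZ.one X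
    have hsame : ∀ x ∈ X, InZ X (k * x * k⁻¹ * x⁻¹) → InZ X x := by
      intro x hx h
      let Zs : Subgroup G :=
        { carrier := {z | InZ X z}
          one_mem' := InZ.one X
          mul_mem' := fun h h' => InZ.mul h h'
          inv_mem' := fun h => InZ.inv h }
      have hfZ : Fpf3 k Zs := ⟨hf.cube, fun z hz => InZ.conj hf.mem (fun y hy => hf.mem' hy) hz,
        fun z hz e => hf.fpf z hz.1 e⟩
      obtain ⟨m, hm, hme⟩ := hfZ.surj (show k * x * k⁻¹ * x⁻¹ ∈ Zs from h)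
      have hm' : InZ X m := hm
      have hkm : InZ X (k * m * k⁻¹) := InZ.conj hf.mem (fun y hy => hf.mem' hy) hm'
      have := hf.fpf (m⁻¹ * x) (mul_mem (inv_mem hm'.1) hx) (by
        calc k * (m⁻¹ * x) * k⁻¹ = (k * m * k⁻¹)⁻¹ * ((k * x * k⁻¹ * x⁻¹) * x) := by group
          _ = (k * m * k⁻¹)⁻¹ * ((m⁻¹ * (k * m * k⁻¹)) * x) := by rw [hme]
          _ = (k * m * k⁻¹)⁻¹ * (((k * m * k⁻¹) * m⁻¹) * x) := by
              rw [← (hkm.2 _ (inv_mem hm'.1)).eq]
          _ = m⁻¹ * x := by group)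
      rw [show x = m by rw [← inv_mul_eq_one.mp this]]
      exact hm'
    -- every element is central
    have hab : ∀ a ∈ X, InZ X a := by
      intro a ha
      by_contra hna
      set s := k * a * k⁻¹ with hs
      have hsX : s ∈ X := hf.mem a ha
      have hsZ : ¬ InZ X s := fun h => hna (by
        have := InZ.conj (g := k⁻¹) (z := s) (fun x hx => by simpa using hf.mem' hx)
          (fun x hx => by simpa using hf.mem x hx) h
        rwa [show k⁻¹ * s * k⁻¹⁻¹ = a by rw [hs]; group] at this)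
      have hprod : ¬ InZ X (a * s) := fun h => hsZ (by
        have h' := h.inv
        have hn := hf.norm_eq_one ha
        rw [show (a * s)⁻¹ = k⁻¹ * a * k from (eq_inv_of_mul_eq_one_right hn).symm] at h'
        -- conjugate back twice
        have h'' := InZ.conj hf.mem (fun y hy => hf.mem' hy)
          (InZ.conj hf.mem (fun y hy => hf.mem' hy) h')
        rwa [show k * (k * (k⁻¹ * a * k) * k⁻¹) * k⁻¹ = s by rw [hs]; group] at h'')
      let f : Fin 4 → G := ![1, a, s, a * s]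
      have hfX : ∀ i, f i ∈ X := by
        intro i; fin_cases i
        exacts [one_mem X, ha, hsX, mul_mem ha hsX]
      have hd1 : ¬ InZ X (a * s⁻¹) := fun h => hna (hsame a ha (by
        have := h.inv; rwa [show (a * s⁻¹)⁻¹ = s * a⁻¹ by group] at this))
      have hcom : a * s = s * a := (hf.comm ha).eq
      have hinj : Function.Injective fun i => par (f i) := by
        refine fun i j hij => ?_
        have key : ∀ i j : Fin 4, i < j → ¬ InZ X (f i * (f j)⁻¹) := by
          intro i j hij h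
          fin_cases i <;> fin_cases j <;> first
            | exact absurd hij (by decide)
            | (simp only [f, Matrix.cons_val, Matrix.cons_val_zero, Matrix.cons_val_one,
                Fin.zero_eta, Fin.mk_one, Fin.reduceFinMk, one_mul] at h
               first
                | exact hna (by simpa using h.inv)
                | exact hsZ (by simpa using h.inv)
                | exact hprod (by simpa using h.inv)
                | exact hd1 h
                | exact hsZ (by rw [show s = (a * (a * s)⁻¹)⁻¹ by rw [hcom]; group]; exact h.inv)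
                | exact hna (by rw [show a = (s * (a * s)⁻¹)⁻¹ by group]; exact h.inv))
        rcases lt_trichotomy i j with h | h | h
        · exact absurd (hmodz _ (hfX i) _ (hfX j) hij) (key i j h)
        · exact h
        · exact absurd (hmodz _ (hfX j) _ (hfX i) hij.symm) (key j i h)
      have hsurj : Function.Surjective fun i => par (f i) :=
        (Fintype.bijective_iff_injective_and_card _).mpr ⟨hinj, by simp⟩ |>.2
      refine hna ⟨ha, fun x hx => ?_⟩
      obtain ⟨i, hi⟩ := hsurj (par x)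
      have hz := hmodz x hx _ (hfX i) hi.symm
      rw [show x = x * (f i)⁻¹ * f i by group]
      refine Commute.mul_right (hz.2 a ha).symm ?_
      fin_cases i
      exacts [Commute.one_right a, Commute.refl a, hf.comm ha,
        (Commute.refl a).mul_right (hf.comm ha)]
    have hinj : Function.Injective fun x : X => par x := by
      intro x y hxy
      obtain ⟨h1, h2⟩ := hsplit x x.2 y y.2 hxy
      exact Subtype.ext (mul_inv_eq_one.mp
        (S.half hf hvT hvX (hab _ (mul_mem x.2 (inv_mem y.2))) (hcomm _ h1) (hcomm _ h2)))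
    have := Nat.card_le_card_of_injective _ hinj
    simp at this
    omega

theorem four_elems [Finite G] {V : Subgroup G} (h4 : Nat.card V = 4) {a b c : G} (ha : a ∈ V)
    (hb : b ∈ V) (hc : c ∈ V) (ha1 : a ≠ 1) (hb1 : b ≠ 1) (hc1 : c ≠ 1) (hab : a ≠ b)
    (hac : a ≠ c) (hbc : b ≠ c) {y : G} (hy : y ∈ V) : y = 1 ∨ y = a ∨ y = b ∨ y = c := by
  classical
  by_contra hcon
  push Not at hcon
  obtain ⟨h1, h2, h3, h5⟩ := hcon
  have hsub : ({1, a, b, c, y} : Set G) ⊆ V := by
    rintro z (rfl | rfl | rfl | rfl | rfl)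
    exacts [one_mem V, ha, hb, hc, hy]
  have hle := Set.ncard_le_ncard hsub (Set.toFinite _)
  have e : ({1, a, b, c, y} : Set G).ncard = 5 := by
    rw [Set.ncard_eq_toFinset_card', Set.toFinset_insert, Set.toFinset_insert, Set.toFinset_insert,
      Set.toFinset_insert, Set.toFinset_singleton]
    simp [ha1.symm, hb1.symm, hc1.symm, hab, hac, hbc, h1.symm, h2.symm, h3.symm, h5.symm]
  rw [e, ← Nat.card_coe_set_eq] at hle
  have : Nat.card (V : Set G) = 4 := h4
  omega

/-- Central elements differing from their conjugate by a central element are central. -/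
theorem inZ_of_diff [Finite G] {k : G} {X : Subgroup G} (hf : Fpf3 k X) {x : G} (hx : x ∈ X)
    (h : InZ X (k * x * k⁻¹ * x⁻¹)) : InZ X x := by
  let Zs : Subgroup G :=
    { carrier := {z | InZ X z}
      one_mem' := InZ.one X
      mul_mem' := fun h h' => InZ.mul h h'
      inv_mem' := fun h => InZ.inv h }
  have hfZ : Fpf3 k Zs := ⟨hf.cube, fun z hz => InZ.conj hf.mem (fun y hy => hf.mem' hy) hz,
    fun z hz e => hf.fpf z hz.1 e⟩
  obtain ⟨m, hm, hme⟩ := hfZ.surj (show k * x * k⁻¹ * x⁻¹ ∈ Zs from h)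
  have hm' : InZ X m := hm
  have hkm : InZ X (k * m * k⁻¹) := InZ.conj hf.mem (fun y hy => hf.mem' hy) hm'
  have := hf.fpf (m⁻¹ * x) (mul_mem (inv_mem hm'.1) hx) (by
    calc k * (m⁻¹ * x) * k⁻¹ = (k * m * k⁻¹)⁻¹ * ((k * x * k⁻¹ * x⁻¹) * x) := by group
      _ = (k * m * k⁻¹)⁻¹ * ((m⁻¹ * (k * m * k⁻¹)) * x) := by rw [hme]
      _ = (k * m * k⁻¹)⁻¹ * (((k * m * k⁻¹) * m⁻¹) * x) := by
          rw [← (hkm.2 _ (inv_mem hm'.1)).eq]
      _ = m⁻¹ * x := by group)
  rw [show x = m by rw [← inv_mul_eq_one.mp this]]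
  exact hm'

/-- A self-centralising four-group of `T` excludes a large invariant subgroup. -/
theorem Struct.false_of_four [Finite G] {k : G} {X T V : Subgroup G} (S : Struct k X T)
    (hf : Fpf3 k X) (hX : 4 < Nat.card X) (hVT : V ≤ T) (hV4 : Nat.card V = 4)
    (hVsq : ∀ x ∈ V, x * x = 1) (hVc : ∀ t ∈ T, (∀ x ∈ V, Commute t x) → t ∈ V) : False := by
  classical
  have hne : X ≠ ⊥ := fun e => by rw [e, card_bot] at hX; omega
  obtain ⟨u, huT, hu1, hu2, huc, huZ⟩ := S.exists_central hf hne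
  have huV : u ∈ V := hVc u huT fun x hx => huc x (hVT hx)
  set s := k * u * k⁻¹ with hs
  set l := k⁻¹ * u * k with hl
  have hsZ : InZ X s := huZ.conj hf.mem (fun y hy => hf.mem' hy)
  have hlZ : InZ X l := by
    simpa using InZ.conj (g := k⁻¹) (fun y hy => by simpa using hf.mem' hy)
      (fun y hy => by simpa using hf.mem y hy) huZ
  have hsu : s ≠ u := fun e => hu1 (hf.fpf u huZ.1 e)
  have hlu : l ≠ u := fun e => hu1 (hf.fpf u huZ.1 (by
    calc k * u * k⁻¹ = k * l * k⁻¹ := by rw [e]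
      _ = u := by rw [hl]; group))
  have hls' : l ≠ s := fun e => hu1 (hf.fpf u huZ.1 (by
    have e2 : k * (k * u * k⁻¹) * k⁻¹ = u := by rw [← hs, ← e, hl]; group
    calc k * u * k⁻¹ = k * (k * (k * u * k⁻¹) * k⁻¹) * k⁻¹ := by rw [e2]
      _ = (k * k * k) * u * (k * k * k)⁻¹ := by group
      _ = u := by rw [hf.cube]; group))
  have hs1 : s ≠ 1 := fun e => hu1 (conj_eq_one_iff.mp e)
  have hl1 : l ≠ 1 := fun e => hu1 (by
    calc u = k * l * k⁻¹ := by rw [hl]; group
      _ = 1 := by rw [e]; group)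
  obtain ⟨v, hvV, hvX⟩ : ∃ v ∈ V, v ∉ X := by
    by_contra hno
    push Not at hno
    have hsV : s ∈ V := hVc _ (S.le hsZ.1) fun x hx => hsZ.2 x (hno x hx)
    have hlV : l ∈ V := hVc _ (S.le hlZ.1) fun x hx => hlZ.2 x (hno x hx)
    have hall : X ≤ V := fun x hx => hVc x (S.le hx) fun y hy => by
      rcases four_elems hV4 huV hsV hlV hu1 hs1 hl1 hsu.symm hlu.symm hls'.symm hy with
        rfl | rfl | rfl | rfl
      exacts [Commute.one_right x, (huZ.2 x hx).symm, (hsZ.2 x hx).symm, (hlZ.2 x hx).symm]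
    have := Subgroup.card_le_of_le hall
    omega
  have hvT : v ∈ T := hVT hvV
  have hv2 : v * v = 1 := hVsq v hvV
  have hv1 : v ≠ 1 := fun e => hvX (e ▸ one_mem X)
  have huv1 : u * v ≠ 1 := fun e => hvX (by
    rw [eq_inv_of_mul_eq_one_right e]; exact inv_mem huZ.1)
  have huvX : u * v ∉ X := fun h => hvX ((mul_mem_cancel_left huZ.1).mp h)
  -- fixed points of `v` on `X`
  have hfix : ∀ x ∈ X, Commute v x → x = 1 ∨ x = u := by
    intro x hx hvx
    have hVel : ∀ y ∈ V, y = 1 ∨ y = u ∨ y = v ∨ y = u * v := fun y hy =>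
      four_elems hV4 huV hvV (mul_mem huV hvV) hu1 hv1 huv1 (fun e => hvX (e ▸ huZ.1))
        (fun e => hv1 (by simpa using e)) (fun e => hu1 (by simpa using e)) hy
    have hxV : x ∈ V := hVc x (S.le hx) fun y hy => by
      rcases hVel y hy with rfl | rfl | rfl | rfl
      exacts [Commute.one_right x, (huc x (S.le hx)).symm, hvx.symm,
        (huc x (S.le hx)).symm.mul_right hvx.symm]
    rcases hVel x hxV with rfl | rfl | rfl | rfl
    exacts [Or.inl rfl, Or.inr rfl, absurd hx hvX, absurd hx huvX]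
  have hvv : ∀ x, v * (v * x * v⁻¹) * v⁻¹ = x := fun x => by
    calc v * (v * x * v⁻¹) * v⁻¹ = (v * v) * x * (v * v)⁻¹ := by group
      _ = x := by rw [hv2]; group
  have hcv : ∀ x ∈ X, v * x * v⁻¹ ∈ X := fun x hx => S.norm v hvT x hx
  have hcomm : ∀ x, v * x * v⁻¹ = x → Commute v x := fun x e => mul_inv_eq_iff_eq_mul.mp e
  have hcc : ∀ a, InZ X a → v * (k * a * k⁻¹) * v⁻¹ = k⁻¹ * (v * a * v⁻¹) * k :=
    fun a ha => S.conj_center hf hvT hvX ha
  have hcZ : ∀ a, InZ X a → InZ X (v * a * v⁻¹) := fun a ha =>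
    ha.conj (S.norm v hvT) fun x hx => by simpa using S.norm v⁻¹ (inv_mem hvT) x hx
  -- the centre has order at most four
  have hφ : ∀ a, InZ X a → a * (v * a * v⁻¹) = 1 ∨ a * (v * a * v⁻¹) = u := fun a ha => by
    refine hfix _ (mul_mem ha.1 (hcv a ha.1)) (hcomm _ ?_)
    calc v * (a * (v * a * v⁻¹)) * v⁻¹ = (v * a * v⁻¹) * (v * (v * a * v⁻¹) * v⁻¹) := by group
      _ = (v * a * v⁻¹) * a := by rw [hvv]
      _ = _ := ((ha.2 _ (hcv a ha.1)).eq).symm
  have hZ4 : ∀ z, InZ X z → z = 1 ∨ z = u ∨ z = s ∨ z = l := by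
    let Zs : Subgroup G :=
      { carrier := {z | InZ X z}
        one_mem' := InZ.one X
        mul_mem' := fun h h' => InZ.mul h h'
        inv_mem' := fun h => InZ.inv h }
    let ψ : Zs → Bool × Bool := fun a =>
      (decide ((a : G) * (v * a * v⁻¹) = 1),
        decide ((k * a * k⁻¹ : G) * (v * (k * a * k⁻¹) * v⁻¹) = 1))
    have hinj : Function.Injective ψ := by
      intro x y hxy
      simp only [ψ, Prod.mk.injEq, decide_eq_decide] at hxy
      have hd : ∀ c, InZ X c → ∀ d, InZ X d →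
          (c * (v * c * v⁻¹) = 1 ↔ d * (v * d * v⁻¹) = 1) →
          (c * d⁻¹) * (v * (c * d⁻¹) * v⁻¹) = 1 := by
        intro c hc d hd h
        have e : (c * d⁻¹) * (v * (c * d⁻¹) * v⁻¹) =
            (c * (v * c * v⁻¹)) * (d * (v * d * v⁻¹))⁻¹ := by
          calc (c * d⁻¹) * (v * (c * d⁻¹) * v⁻¹)
              = c * (d⁻¹ * (v * c * v⁻¹)) * (v * d * v⁻¹)⁻¹ := by group
            _ = c * ((v * c * v⁻¹) * d⁻¹) * (v * d * v⁻¹)⁻¹ := by
                rw [(hd.inv.2 _ (hcv c hc.1)).eq]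
            _ = c * (v * c * v⁻¹) * (d⁻¹ * (v * d * v⁻¹)⁻¹) := by group
            _ = _ := by rw [(hd.inv.2 _ (inv_mem (hcv d hd.1))).eq]; group
        rw [e]
        rcases hφ c hc with h1 | h1 <;> rcases hφ d hd with h2 | h2 <;> rw [h1, h2]
        · group
        · exact absurd ((h.mp h1).symm.trans h2) (Ne.symm hu1)
        · exact absurd ((h.mpr h2).symm.trans h1) (Ne.symm hu1)
        · exact mul_inv_cancel u
      set a := (x : G) * (y : G)⁻¹ with ha
      have haZ : InZ X a := InZ.mul x.2 (InZ.inv y.2)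
      have h1 := hd _ x.2 _ y.2 hxy.1
      have h2 := hd _ (InZ.conj hf.mem (fun z hz => hf.mem' hz) x.2) _
        (InZ.conj hf.mem (fun z hz => hf.mem' hz) y.2) hxy.2
      rw [show (k * (x : G) * k⁻¹) * (k * (y : G) * k⁻¹)⁻¹ = k * a * k⁻¹ by rw [ha]; group] at h2
      have h3 := hcc a haZ
      rw [eq_inv_of_mul_eq_one_right h1, eq_inv_of_mul_eq_one_right h2] at h3
      have h4 : k * a * k⁻¹ = k⁻¹ * a * k := by
        calc k * a * k⁻¹ = ((k * a * k⁻¹)⁻¹)⁻¹ := (inv_inv _).symm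
          _ = (k⁻¹ * a⁻¹ * k)⁻¹ := by rw [h3]
          _ = _ := by group
      have h5 : a = 1 := hf.fpf a haZ.1 (by
        have e : k * (k * a * k⁻¹) * k⁻¹ = a := by rw [h4]; group
        calc k * a * k⁻¹ = k * (k * (k * a * k⁻¹) * k⁻¹) * k⁻¹ := by rw [e]
          _ = (k * k * k) * a * (k * k * k)⁻¹ := by group
          _ = a := by rw [hf.cube]; group)
      exact Subtype.ext (mul_inv_eq_one.mp h5)
    have h4 : Nat.card Zs ≤ 4 := by
      have := Nat.card_le_card_of_injective _ hinj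
      simpa using this
    intro z hz
    by_contra hcon
    push Not at hcon
    obtain ⟨e1, e2, e3, e4⟩ := hcon
    have hsub : ({1, u, s, l, z} : Set G) ⊆ Zs := by
      rintro y (rfl | rfl | rfl | rfl | rfl)
      exacts [InZ.one X, huZ, hsZ, hlZ, hz]
    have hle := Set.ncard_le_ncard hsub (Set.toFinite _)
    have e : ({1, u, s, l, z} : Set G).ncard = 5 := by
      rw [Set.ncard_eq_toFinset_card', Set.toFinset_insert, Set.toFinset_insert,
        Set.toFinset_insert, Set.toFinset_insert, Set.toFinset_singleton]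
      simp [hu1.symm, hs1.symm, hl1.symm, hsu.symm, hlu.symm, hls'.symm, e1.symm, e2.symm,
        e3.symm, e4.symm]
    rw [e, ← Nat.card_coe_set_eq] at hle
    have : Nat.card (Zs : Set G) ≤ 4 := h4
    omega
  have hZsq : ∀ z, InZ X z → z * z = 1 := by
    intro z hz
    rcases hZ4 z hz with rfl | rfl | rfl | rfl
    · exact one_mul 1
    · exact hu2
    · rw [hs, show k * u * k⁻¹ * (k * u * k⁻¹) = k * (u * u) * k⁻¹ by group, hu2]; group
    · rw [hl, show k⁻¹ * u * k * (k⁻¹ * u * k) = k⁻¹ * (u * u) * k by group, hu2]; group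
  -- elements centralised modulo the centre are central
  have hmod : ∀ a ∈ X, InZ X (v * a * v⁻¹ * a⁻¹) → InZ X a := by
    intro a ha hc
    have hinv : ∀ z, InZ X z → z⁻¹ = z := fun z hz => inv_eq_of_mul_eq_one_right (hZsq z hz)
    set c := v * a * v⁻¹ * a⁻¹ with hcdef
    have hcfix : v * c * v⁻¹ = c := by
      have e : v * c * v⁻¹ = a * (v * a * v⁻¹)⁻¹ := by
        calc v * c * v⁻¹ = (v * (v * a * v⁻¹) * v⁻¹) * (v * a * v⁻¹)⁻¹ := by rw [hcdef]; group
          _ = _ := by rw [hvv]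
      rw [e, ← hinv c hc, hcdef]
      group
    rcases hfix c hc.1 (hcomm _ hcfix) with e | e
    · rcases hfix a ha (hcomm _ (mul_inv_eq_one.mp e)) with h | h <;> rw [h]
      exacts [InZ.one X, huZ]
    · have hvs : v * s * v⁻¹ = l := by
        rw [hs, hcc u huZ, ← (huc v hvT).eq, mul_inv_cancel_right]
      have hus : u * l = s := by
        rcases hZ4 _ (huZ.mul hlZ) with h | h | h | h
        · exact absurd (eq_inv_of_mul_eq_one_right h) (by rw [hinv u huZ]; exact hlu)
        · exact absurd h (fun h => hl1 (by simpa using h))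
        · exact h
        · exact absurd h (fun h => hu1 (by simpa using h))
      have hfx : v * (a * s) * v⁻¹ = a * s := by
        calc v * (a * s) * v⁻¹ = (c * a) * (v * s * v⁻¹) := by rw [hcdef]; group
          _ = a * (u * l) := by rw [e, hvs, (huZ.2 a ha).eq]; group
          _ = a * s := by rw [hus]
      have : InZ X (a * s) := by
        rcases hfix _ (mul_mem ha hsZ.1) (hcomm _ hfx) with h | h <;> rw [h]
        exacts [InZ.one X, huZ]
      simpa [mul_assoc] using this.mul hsZ.inv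
  -- all elements are central
  have h3 := S.inv.coprime
  have hab : ∀ a ∈ X, InZ X a := by
    intro a ha
    have key : ∀ b ∈ X, InZ X (b * (v * b * v⁻¹)) := by
      intro b hb
      refine hmod _ (mul_mem hb (hcv b hb)) ?_
      have e : v * (b * (v * b * v⁻¹)) * v⁻¹ * (b * (v * b * v⁻¹))⁻¹ = ⁅v * b * v⁻¹, b⁆ := by
        calc v * (b * (v * b * v⁻¹)) * v⁻¹ * (b * (v * b * v⁻¹))⁻¹
            = (v * b * v⁻¹) * (v * (v * b * v⁻¹) * v⁻¹) * (b * (v * b * v⁻¹))⁻¹ := by group
          _ = _ := by rw [hvv, commutatorElement_def]; group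
      rw [e]
      exact class_two hf h3 (hcv b hb) hb
    have h1 := key a ha
    have h2 := key _ (hf.mem a ha)
    obtain ⟨n, hn, he⟩ := S.inverts v hvT hvX
    set r := k * a * k⁻¹ with hr
    set w := k⁻¹ * (v * a * v⁻¹) * k with hw
    have hwX : w ∈ X := hf.mem' (hcv a ha)
    have hvr : v * r * v⁻¹ = ⁅n, w⁆ * w := by
      calc v * r * v⁻¹ = (v * k * v⁻¹) * (v * a * v⁻¹) * (v * k * v⁻¹)⁻¹ := by rw [hr]; group
        _ = _ := by rw [he, hw, commutatorElement_def]; group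
    have hnw := class_two hf h3 hn hwX
    have h6 : InZ X (k⁻¹ * (a * (v * a * v⁻¹)) * k) := by
      simpa using InZ.conj (g := k⁻¹) (fun y hy => by simpa using hf.mem' hy)
        (fun y hy => by simpa using hf.mem y hy) h1
    -- `k a k⁻¹ ≡ k⁻¹ a k` modulo the centre
    have h5 : InZ X (r * (k⁻¹ * a * k)⁻¹) := by
      have e5 : (k⁻¹ * a * k) * (⁅n, w⁆ * w) = ⁅n, w⁆ * (k⁻¹ * (a * (v * a * v⁻¹)) * k) := by
        rw [← mul_assoc, ← (hnw.2 _ (hf.mem' ha)).eq, hw]; group
      have e : r * (k⁻¹ * a * k)⁻¹ =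
          (r * (v * r * v⁻¹)) * ((k⁻¹ * a * k) * (⁅n, w⁆ * w))⁻¹ := by
        rw [hvr]; group
      rw [e, e5]
      exact h2.mul (hnw.mul h6).inv
    have hk2 : k⁻¹ = k * k := inv_eq_of_mul_eq_one_right (by rw [← mul_assoc]; exact hf.cube)
    have h7 := h5.conj hf.mem (fun y hy => hf.mem' hy)
    have e2 : k * (r * (k⁻¹ * a * k)⁻¹) * k⁻¹ = (k⁻¹ * a * k) * a⁻¹ := by
      have e : k * r * k⁻¹ = k⁻¹ * a * k := by
        calc k * r * k⁻¹ = (k * k) * a * (k * k)⁻¹ := by rw [hr]; group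
          _ = k⁻¹ * a * k := by rw [← hk2, inv_inv]
      calc k * (r * (k⁻¹ * a * k)⁻¹) * k⁻¹ = (k * r * k⁻¹) * a⁻¹ := by group
        _ = _ := by rw [e]
    rw [e2] at h7
    refine inZ_of_diff hf ha ?_
    rw [← hr]
    simpa [mul_assoc] using h5.mul h7
  have hsub : (X : Set G) ⊆ {1, u, s, l} := fun x hx => by
    rcases hZ4 x (hab x hx) with h | h | h | h <;> simp [h]
  have hle := Set.ncard_le_ncard hsub (Set.toFinite _)
  have h4 : ({1, u, s, l} : Set G).ncard ≤ 4 := by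
    refine (Set.ncard_insert_le _ _).trans (Nat.succ_le_succ ?_)
    refine (Set.ncard_insert_le _ _).trans (Nat.succ_le_succ ?_)
    exact (Set.ncard_insert_le _ _).trans (by simp)
  rw [← Nat.card_coe_set_eq] at hle
  have : 4 < Nat.card (X : Set G) := hX
  omega

end Cfsg.Agent.LAE65.OneClass
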