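import Cfsg.Agent.LAE65.OneClass.Small
import Cfsg.Agent.LAE65.OneClass.BigCount
import Cfsg.Agent.S2219
import Cfsg.Agent.S3341
import Cfsg.Agent.S0904
import Cfsg.Agent.S2497
import Cfsg.Agent.ClMax99.PSLMax
import Cfsg.Agent.InvChar.UTFour
import Cfsg.Agent.CNCit80.SzGraph
import Cfsg.Agent.Lib.LinearGroup.SmallPSL
import Cfsg.Agent.Lib.SmallGroups.Basic

/-!
# Simple groups of order `9 · 2^a · q^b` with strongly self-centralising Sylow `3`-subgroups
-/

set_option autoImplicit false
set_option linter.unusedSectionVars false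
set_option linter.style.haveILetI false

namespace Cfsg.Agent.LAE65.OneClass

open Subgroup

universe u

variable {G : Type u} [Group G] [Finite G] [IsSimpleGroup G]

/-- Elements commuting with an element of order three: facts from the Sylow hypothesis. -/
theorem cent_facts [Fact (Nat.Prime 3)] (R : Sylow 3 G) (h9 : Nat.card (R : Subgroup G) = 9)
    (hR : ∀ k ∈ (R : Subgroup G), k ≠ 1 → centralizer ({k} : Set G) = R)
    (hexp : ∀ r ∈ (R : Subgroup G), r ^ 3 = 1) {y : G} (hy : orderOf y = 3) :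
    Nat.card (centralizer ({y} : Set G)) = 9 ∧ (∀ g, Commute g y → g ^ 3 = 1) ∧
      ∀ g g', Commute g y → Commute g' y → Commute g g' := by
  obtain ⟨P, hP⟩ := (IsPGroup.of_card (n := 1) (by rw [Nat.card_zpowers, hy, pow_one]) :
    IsPGroup 3 (zpowers y)).exists_le_sylow
  obtain ⟨h, hh⟩ := MulAction.exists_smul_eq G P R
  set r := h * y * h⁻¹ with hr
  have hrR : r ∈ (R : Subgroup G) := by
    have he : (R : Subgroup G) = (P : Subgroup G).map (MulAut.conj h).toMonoidHom := by
      rw [← hh]; rfl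
    rw [he]
    exact ⟨y, hP (mem_zpowers y), rfl⟩
  have hr1 : r ≠ 1 := fun e => by
    rw [hr, conj_eq_one_iff] at e
    rw [e, orderOf_one] at hy
    norm_num at hy
  have hC := hR r hrR hr1
  have hmem : ∀ g, Commute g y → h * g * h⁻¹ ∈ (R : Subgroup G) := fun g hg => by
    rw [← hC, mem_centralizer_singleton_iff]
    calc h * g * h⁻¹ * r = h * (g * y) * h⁻¹ := by rw [hr]; group
      _ = h * (y * g) * h⁻¹ := by rw [hg.eq]
      _ = r * (h * g * h⁻¹) := by rw [hr]; group
  refine ⟨?_, fun g hg => ?_, fun g g' hg hg' => ?_⟩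
  · rw [← h9]
    refine Nat.card_congr ((MulAut.conj h).toEquiv.subtypeEquiv fun g => ?_)
    show g ∈ centralizer ({y} : Set G) ↔ h * g * h⁻¹ ∈ (R : Subgroup G)
    rw [mem_centralizer_singleton_iff]
    refine ⟨hmem g, fun hg => ?_⟩
    rw [← hC, mem_centralizer_singleton_iff] at hg
    calc g * y = h⁻¹ * (h * g * h⁻¹ * r) * h := by rw [hr]; group
      _ = h⁻¹ * (r * (h * g * h⁻¹)) * h := by rw [hg]
      _ = y * g := by rw [hr]; group
  · have := hexp _ (hmem g hg)
    rwa [conj_pow, conj_eq_one_iff] at this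
  · by_cases h1 : g = 1
    · subst h1; exact Commute.one_left g'
    have hx1 : h * g * h⁻¹ ≠ 1 := fun e => h1 (conj_eq_one_iff.mp e)
    have hm : h * g' * h⁻¹ ∈ centralizer ({h * g * h⁻¹} : Set G) := by
      rw [hR _ (hmem g hg) hx1]
      exact hmem g' hg'
    rw [mem_centralizer_singleton_iff] at hm
    show g * g' = g' * g
    calc g * g' = h⁻¹ * (h * g * h⁻¹ * (h * g' * h⁻¹)) * h := by group
      _ = h⁻¹ * (h * g' * h⁻¹ * (h * g * h⁻¹)) * h := by rw [hm]
      _ = g' * g := by group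

/-- A cyclic Sylow `3`-subgroup of order nine gives three classes. -/
theorem three_classes [Fact (Nat.Prime 3)] (R : Sylow 3 G)
    (hR : ∀ k ∈ (R : Subgroup G), k ≠ 1 → centralizer ({k} : Set G) = R)
    {g : G} (hg : g ∈ (R : Subgroup G)) (h9 : orderOf g = 9) :
    3 ≤ Nat.card {C : ConjClasses G // ∃ x ∈ C.carrier, x ≠ 1 ∧ orderOf x ∣ 9} := by
  have h3 : orderOf (g ^ 3) = 3 := by
    rw [orderOf_pow' g (by norm_num), h9]; norm_num
  have h4 : orderOf (g ^ 4) = 9 := by
    rw [orderOf_pow' g (by norm_num), h9]; norm_num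
  have hne : ∀ x : G, 1 < orderOf x → x ≠ 1 := fun x hx e => by
    rw [e, orderOf_one] at hx; omega
  let f : Fin 3 → {C : ConjClasses G // ∃ x ∈ C.carrier, x ≠ 1 ∧ orderOf x ∣ 9} :=
    ![⟨ConjClasses.mk g, g, ConjClasses.mem_carrier_mk, hne g (by omega), by rw [h9]⟩,
      ⟨ConjClasses.mk (g ^ 4), g ^ 4, ConjClasses.mem_carrier_mk, hne _ (by omega), by rw [h4]⟩,
      ⟨ConjClasses.mk (g ^ 3), g ^ 3, ConjClasses.mem_carrier_mk, hne _ (by omega),
        by rw [h3]; norm_num⟩]
  have hord : ∀ {x y : G}, IsConj x y → orderOf x = orderOf y := by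
    intro x y h
    obtain ⟨c, rfl⟩ := isConj_iff.mp h
    rw [← MulAut.conj_apply, MulEquiv.orderOf_eq]
  have h14 : ¬ IsConj g (g ^ 4) := by
    intro h
    obtain ⟨c, hc⟩ := isConj_iff.mp h
    have hy1 : g ^ 3 ≠ 1 := hne _ (by omega)
    have hg9 : g ^ 9 = 1 := h9 ▸ pow_orderOf_eq_one g
    have hc3 : c * g ^ 3 * c⁻¹ = g ^ 3 := by
      rw [← conj_pow, hc, ← pow_mul, show 4 * 3 = 9 + 3 from rfl, pow_add, hg9, one_mul]
    have hcR : c ∈ (R : Subgroup G) := by
      rw [← hR _ (pow_mem hg 3) hy1, mem_centralizer_singleton_iff]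
      exact mul_inv_eq_iff_eq_mul.mp hc3
    have hcg : c * g = g * c := by
      rw [← hR g hg (hne g (by omega)), mem_centralizer_singleton_iff] at hcR
      exact hcR
    rw [hcg, mul_inv_cancel_right, show (4 : ℕ) = 3 + 1 from rfl, pow_succ, right_eq_mul] at hc
    exact hy1 hc
  have hf : Function.Injective f := by
    intro i j h
    have h' := congrArg Subtype.val h
    fin_cases i <;> fin_cases j <;>
      simp [f, ConjClasses.mk_eq_mk_iff_isConj] at h' ⊢
    all_goals first
      | exact h14 (isConj_iff.mpr h')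
      | exact h14 (isConj_iff.mpr h').symm
      | (have := hord (isConj_iff.mpr h'); omega)
  have := Nat.card_le_card_of_injective f hf
  simpa using this

theorem main (hG : ¬ IsMulCommutative G) (q a b : ℕ) (hq : q.Prime) (hq2 : q ≠ 2) (hq3 : q ≠ 3)
    (hcard : Nat.card G = 9 * 2 ^ a * q ^ b) (R : Sylow 3 G)
    (hR : ∀ k ∈ (R : Subgroup G), k ≠ 1 → centralizer ({k} : Set G) = R) :
    Nonempty (G ≃* ↥(alternatingGroup (Fin 6))) ∨
      (∃ (F : Type) (_ : Field F) (_ : Fintype F), Fintype.card F = 8 ∧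
        Nonempty (G ≃* Matrix.ProjectiveSpecialLinearGroup (Fin 2) F)) ∨
      Nonempty (G ≃* Matrix.ProjectiveSpecialLinearGroup (Fin 2) (ZMod 17)) := by
  classical
  haveI : Fact (Nat.Prime 3) := ⟨Nat.prime_three⟩
  have h3n : ¬ 3 ∣ 2 ^ a * q ^ b := by
    intro h
    rcases Nat.prime_three.dvd_mul.mp h with h | h
    · have := Nat.prime_three.dvd_of_dvd_pow h
      norm_num at this
    · exact hq3 ((Nat.prime_dvd_prime_iff_eq Nat.prime_three hq).mp
        (Nat.prime_three.dvd_of_dvd_pow h)).symm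
  have h9 : Nat.card (R : Subgroup G) = 9 :=
    (SmallGroups.card_sylow_eq (p := 3) (a := 2) (m := 2 ^ a * q ^ b) (by rw [hcard]; ring) h3n
      R).trans (by norm_num)
  by_cases hcyc : ∃ g ∈ (R : Subgroup G), g ^ 3 ≠ 1
  · obtain ⟨g, hg, hg3⟩ := hcyc
    have hd : orderOf g ∣ 3 ^ 2 := by simpa [h9] using (R : Subgroup G).orderOf_dvd_natCard hg
    obtain ⟨i, hi, he⟩ := (Nat.dvd_prime_pow Nat.prime_three).mp hd
    have hi2 : i = 2 := by
      by_contra hc
      apply hg3
      rw [← orderOf_dvd_iff_pow_eq_one, he]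
      exact (Nat.pow_dvd_pow 3 (show i ≤ 1 by omega))
    rw [hi2] at he
    exact Or.inr (S2219.result hG q a b hq hq2 hq3 hcard
      (three_classes R hR hg (by rw [he]; norm_num)))
  push Not at hcyc
  have hcent := fun {y : G} (hy : orderOf y = 3) => cent_facts R h9 hR hcyc hy
  by_cases hcls : ∀ y y' : G, orderOf y = 3 → orderOf y' = 3 → IsConj y y'
  swap
  · push Not at hcls
    obtain ⟨y, y', hy, hy', hnc⟩ := hcls
    refine Or.inl (S3341.result R R rfl ⟨⟨fun s t => ?_⟩⟩ hcyc h9
      ⟨y, y', hy, hy', fun g e => hnc (isConj_iff.mpr ⟨g, e⟩)⟩ hR)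
    apply Subtype.ext
    by_cases h1 : (s : G) = 1
    · simp [h1]
    · have ht : (t : G) ∈ centralizer ({(s : G)} : Set G) := by
        rw [hR _ s.2 h1]
        exact t.2
      exact (mem_centralizer_singleton_iff.mp ht).symm
  have h5 : 5 ≤ q := by
    have := hq.two_le
    by_contra hc
    interval_cases q <;> norm_num at *
  obtain ⟨k, hk⟩ := exists_prime_orderOf_dvd_card' (G := G) 3
    (by rw [hcard, mul_assoc]; exact dvd_mul_of_dvd_left (by norm_num) _)
  by_cases hb : 2 ≤ b
  · let H : Hyp G :=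
      { q := q, a := a, b := b, prime := hq, five_le := h5, two_le := hb
        card := by rw [hcard, mul_assoc]
        simple := inferInstance
        nc := hG
        card_cent := fun y hy => (hcent hy).1
        cube := fun y g hy hg => (hcent hy).2.1 g hg
        comm := fun y g g' hy hg hg' => (hcent hy).2.2 g g' hg hg'
        conj := hcls }
    exact (H.contradiction hk (H.false_small hk)).elim
  -- every element has prime power order
  have heppo : ∀ g : G, g ≠ 1 → IsPrimePow (orderOf g) := by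
    intro g hg1
    by_cases h3 : 3 ∣ orderOf g
    · obtain ⟨n, hn⟩ := h3
      have hn0 : n ≠ 0 := by rintro rfl; exact (orderOf_pos g).ne' (by simpa using hn)
      have hy : orderOf (g ^ n) = 3 := by
        rw [orderOf_pow_of_dvd hn0 ⟨3, by rw [hn, mul_comm]⟩, hn,
          Nat.mul_div_cancel _ (Nat.pos_of_ne_zero hn0)]
      have hc := (hcent hy).2.1 g ((Commute.refl g).pow_right n)
      rw [orderOf_eq_three hc hg1]
      exact Nat.prime_three.isPrimePow
    have hd : orderOf g ∣ 2 ^ a * q ^ b := by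
      have h := orderOf_dvd_natCard g
      rw [hcard, mul_assoc, show (9 : ℕ) = 3 ^ 2 by norm_num] at h
      exact ((Nat.prime_three.coprime_iff_not_dvd.mpr h3).symm.pow_right 2).dvd_of_dvd_mul_left h
    obtain ⟨u, v, hu, hv, he⟩ := exists_dvd_and_dvd_of_dvd_mul hd
    obtain ⟨i, hi, rfl⟩ := (Nat.dvd_prime_pow Nat.prime_two).mp hu
    obtain ⟨j, hj, rfl⟩ := (Nat.dvd_prime_pow hq).mp hv
    rcases Nat.eq_zero_or_pos j with rfl | hj0
    · rw [pow_zero, mul_one] at he
      refine (isPrimePow_nat_iff _).mpr ⟨2, i, Nat.prime_two, Nat.pos_of_ne_zero fun e => ?_, he.symm⟩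
      subst e
      exact hg1 (orderOf_eq_one_iff.mp (by simpa using he))
    rcases Nat.eq_zero_or_pos i with rfl | hi0
    · rw [pow_zero, one_mul] at he
      exact (isPrimePow_nat_iff _).mpr ⟨q, j, hq, hj0, he.symm⟩
    exfalso
    have hj1 : j = 1 := by omega
    have hb1 : b = 1 := by omega
    subst hj1 hb1
    rw [pow_one] at he
    haveI : Fact q.Prime := ⟨hq⟩
    set x := g ^ (2 ^ i)
    set y := g ^ q
    have hx : orderOf x = q := by
      rw [orderOf_pow_of_dvd (by positivity) ⟨q, he⟩, he, Nat.mul_div_cancel_left _ (by positivity)]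
    have hy : orderOf y = 2 ^ i := by
      rw [orderOf_pow_of_dvd hq.ne_zero ⟨2 ^ i, by rw [he, mul_comm]⟩, he,
        Nat.mul_div_cancel _ hq.pos]
    obtain ⟨S, hS⟩ := (IsPGroup.of_card (n := 1) (by rw [Nat.card_zpowers, hx, pow_one]) :
      IsPGroup q (zpowers x)).exists_le_sylow
    have hSq : Nat.card (S : Subgroup G) = q := by
      refine (SmallGroups.card_sylow_eq (p := q) (a := 1) (m := 9 * 2 ^ a)
        (by rw [hcard]; ring) ?_ S).trans (pow_one q)
      intro h
      rcases hq.dvd_mul.mp h with h | h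
      · exact hq3 ((Nat.prime_dvd_prime_iff_eq hq Nat.prime_three).mp
          (hq.dvd_of_dvd_pow (show q ∣ 3 ^ 2 by norm_num; exact h)))
      · exact hq2 ((Nat.prime_dvd_prime_iff_eq hq Nat.prime_two).mp (hq.dvd_of_dvd_pow h))
    have hSeq : zpowers x = (S : Subgroup G) :=
      Subgroup.eq_of_le_of_card_ge hS (by rw [Nat.card_zpowers, hx, hSq])
    have hC := S0904.result 2 3 q a 2 Nat.prime_two Nat.prime_three (by norm_num) hq2.symm hq3.symm
      (by rw [hcard]; ring) S
    have hyS : y ∈ centralizer ((S : Subgroup G) : Set G) := by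
      rw [mem_centralizer_iff, ← hSeq]
      intro s hs
      obtain ⟨t, rfl⟩ := mem_zpowers_iff.mp hs
      exact (((Commute.refl g).pow_pow (2 ^ i) q).zpow_left t).eq
    replace hyS : y ∈ (S : Subgroup G) := hC.le hyS
    have hdy := (S : Subgroup G).orderOf_dvd_natCard hyS
    rw [hy, hSq] at hdy
    exact hq2 ((Nat.prime_dvd_prime_iff_eq Nat.prime_two hq).mp
      ((dvd_pow_self 2 hi0.ne').trans hdy)).symm
  rcases S2497.result hG heppo with h | ⟨F, iF, iT, hF, ⟨e⟩⟩ | ⟨F, iF, iT, hF, ⟨e⟩⟩ |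
    ⟨F, iF, iT, h⟩
  · exact Or.inl h
  · simp only [Finset.mem_insert, Finset.mem_singleton] at hF
    have hK : Nat.card F = Fintype.card F := Nat.card_eq_fintype_card
    rcases hF with hF | hF | hF | hF
    · exfalso
      have h := ClMax99.card_PSL_two_even (K := F) (by rw [hK, hF]; decide)
      rw [hK, hF, ← Nat.card_congr e.toEquiv, hcard, mul_assoc] at h
      omega
    · exfalso
      have h := ClMax99.card_PSL_two_odd (K := F) (by rw [hK, hF]; decide)
      rw [hK, hF, ← Nat.card_congr e.toEquiv, hcard, mul_assoc] at h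
      omega
    · exact Or.inr (Or.inl ⟨F, iF, iT, hF, ⟨e⟩⟩)
    · haveI : Fact (Nat.Prime 17) := ⟨by norm_num⟩
      exact Or.inr (Or.inr ⟨e.trans
        (LinearGroup.pslCongr (ZMod.ringEquivOfPrime F (Fact.out : Nat.Prime 17) hF).symm)⟩)
  · exfalso
    have h := InvChar.SixtyFour.card_PSL_three_four hF
    rw [← Nat.card_congr e.toEquiv, hcard] at h
    have h' : ∀ p : ℕ, p.Prime → p ∣ 20160 → p = 2 ∨ p = 3 ∨ p = q := by
      intro p hp hd
      rw [← h, mul_assoc] at hd
      rcases hp.dvd_mul.mp hd with hd | hd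
      · exact Or.inr (Or.inl ((Nat.prime_dvd_prime_iff_eq hp Nat.prime_three).mp
          (hp.dvd_of_dvd_pow (show p ∣ 3 ^ 2 by norm_num; exact hd))))
      rcases hp.dvd_mul.mp hd with hd | hd
      · exact Or.inl ((Nat.prime_dvd_prime_iff_eq hp Nat.prime_two).mp (hp.dvd_of_dvd_pow hd))
      · exact Or.inr (Or.inr ((Nat.prime_dvd_prime_iff_eq hp hq).mp (hp.dvd_of_dvd_pow hd)))
    have h5' := h' 5 (by norm_num) (by norm_num)
    have h7' := h' 7 (by norm_num) (by norm_num)
    omega
  · exfalso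
    rcases h with ⟨hF, ⟨e⟩⟩ | ⟨hF, ⟨e⟩⟩
    · have h := CNCit80.sz_card (F := F) (m := 1) (by rw [hF]; norm_num) le_rfl
      replace h := (Nat.card_congr e.toEquiv).trans h
      rw [hcard, mul_assoc] at h
      norm_num at h
      omega
    · have h := CNCit80.sz_card (F := F) (m := 2) (by rw [hF]; norm_num) (by norm_num)
      replace h := (Nat.card_congr e.toEquiv).trans h
      rw [hcard, mul_assoc] at h
      norm_num at h
      omega

end Cfsg.Agent.LAE65.OneClass
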