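import Cfsg.Agent.LAE65.OneClass.Key
import Cfsg.Agent.InvChar68.CharTools

/-!
# Maximal invariant subgroups: parts, cores, counting
-/

set_option autoImplicit false
set_option linter.unusedSectionVars false
set_option linter.style.haveILetI false

namespace Cfsg.Agent.LAE65.OneClass

open Subgroup Cfsg.Agent.FT62

universe u

variable {G : Type u} [Group G]

/-- A maximal nontrivial invariant subgroup of order prime to three. -/
structure IsMax (k : G) (K : Subgroup G) : Prop where
  inv : Inv k K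
  ne : K ≠ ⊥
  max : ∀ Q, Inv k Q → K ≤ Q → Q = K

/-- The `p`-part of a (nilpotent) subgroup. -/
noncomputable def part (p : ℕ) (K : Subgroup G) : Subgroup G :=
  ((default : Sylow p K) : Subgroup K).map K.subtype

theorem part_le (p : ℕ) (K : Subgroup G) : part p K ≤ K := map_subtype_le _

theorem isPGroup_part (p : ℕ) (K : Subgroup G) : IsPGroup p (part p K) :=
  (default : Sylow p K).isPGroup'.map _

theorem Inv.inv_elem [Finite G] {k : G} {P : Subgroup G} (h : Inv k P) : Inv k⁻¹ P :=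
  ⟨fun n hn => by simpa using h.mem' hn, h.coprime⟩

theorem Inv.of_inv_elem [Finite G] {k : G} {P : Subgroup G} (h : Inv k⁻¹ P) : Inv k P := by
  simpa using h.inv_elem

theorem Inv.cg {k : G} {P : Subgroup G} (h : Inv k P) (g : G) :
    Inv (g * k * g⁻¹) (cg g P) := by
  refine ⟨fun n hn => ?_, by rw [card_cg]; exact h.coprime⟩
  rw [mem_cg] at hn ⊢
  have := h.mem _ hn
  rwa [show g⁻¹ * (g * k * g⁻¹ * n * (g * k * g⁻¹)⁻¹) * g = k * (g⁻¹ * n * g) * k⁻¹ by group]

theorem cg_eq_bot {g : G} {P : Subgroup G} (h : cg g P = ⊥) : P = ⊥ := by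
  rw [← cg_one P, ← inv_mul_cancel g, ← cg_mul, h, FT62.cg, Subgroup.map_bot]

theorem cg_inv_cg (g : G) (P : Subgroup G) : cg g⁻¹ (cg g P) = P := by
  rw [cg_mul, inv_mul_cancel, cg_one]

theorem relIndex_mul_card {H K : Subgroup G} (h : H ≤ K) :
    H.relIndex K * Nat.card H = Nat.card K := by
  rw [← relIndex_bot_left, ← relIndex_bot_left, mul_comm,
    relIndex_mul_relIndex ⊥ H K bot_le h]

theorem cg_cg_inv (g : G) (P : Subgroup G) : cg g (cg g⁻¹ P) = P := by
  rw [cg_mul, mul_inv_cancel, cg_one]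

namespace Hyp

variable [Finite G] (H : Hyp G) {k : G}
include H

theorem exists_isMax {P : Subgroup G} (hP : Inv k P) (hne : P ≠ ⊥) : ∃ K, IsMax k K ∧ P ≤ K := by
  classical
  obtain ⟨M, hPM, hM⟩ := Finite.exists_le_maximal (p := fun Q : Subgroup G => Inv k Q) hP
  exact ⟨M, ⟨hM.prop, fun hb => hne (le_bot_iff.mp (hb ▸ hPM)),
    fun Q hQ hMQ => (hM.eq_of_le hQ hMQ).symm⟩, hPM⟩

theorem mem_U_iff {x : G} : x ∈ U k ↔ x ≠ 1 ∧ ∃ K, IsMax k K ∧ x ∈ K := by
  constructor
  · rintro ⟨h1, P, hP, hx⟩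
    obtain ⟨K, hK, hPK⟩ := H.exists_isMax hP (fun e => h1 (mem_bot.mp (e ▸ hx)))
    exact ⟨h1, K, hK, hPK hx⟩
  · rintro ⟨h1, K, hK, hx⟩
    exact ⟨h1, K, hK.inv, hx⟩

theorem prime_cases {P : Subgroup G} (hP : ¬ 3 ∣ Nat.card P) {p : ℕ} (hp : p.Prime)
    (hd : p ∣ Nat.card P) : p = 2 ∨ p = H.q := by
  have h := hd.trans (card_subgroup_dvd_card P)
  rw [H.card] at h
  rcases hp.dvd_mul.mp h with h9 | h9
  · have h3 : p = 3 := (Nat.prime_dvd_prime_iff_eq hp Nat.prime_three).mp
      (hp.dvd_of_dvd_pow (show p ∣ 3 ^ 2 by norm_num; exact h9))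
    exact absurd (h3 ▸ hd) hP
  rcases hp.dvd_mul.mp h9 with h2 | h2
  · exact Or.inl ((Nat.prime_dvd_prime_iff_eq hp Nat.prime_two).mp (hp.dvd_of_dvd_pow h2))
  · exact Or.inr ((Nat.prime_dvd_prime_iff_eq hp H.prime).mp (hp.dvd_of_dvd_pow h2))

theorem exists_card {P : Subgroup G} (hP : ¬ 3 ∣ Nat.card P) :
    ∃ i j, i ≤ H.a ∧ j ≤ H.b ∧ Nat.card P = 2 ^ i * H.q ^ j := by
  have h := card_subgroup_dvd_card P
  rw [H.card] at h
  have h' : Nat.card P ∣ 2 ^ H.a * H.q ^ H.b :=
    (Nat.Coprime.pow_right 2 ((Nat.prime_three.coprime_iff_not_dvd.mpr hP).symm) :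
      (Nat.card P).Coprime (3 ^ 2)).dvd_of_dvd_mul_left (by simpa using h)
  obtain ⟨u, v, hu, hv, he⟩ := exists_dvd_and_dvd_of_dvd_mul h'
  obtain ⟨i, hi, rfl⟩ := (Nat.dvd_prime_pow Nat.prime_two).mp hu
  obtain ⟨j, hj, rfl⟩ := (Nat.dvd_prime_pow H.prime).mp hv
  exact ⟨i, j, hi, hj, he⟩

theorem q_ne_two : H.q ≠ 2 := fun e => by have := H.five_le; omega

theorem q_ne_three : H.q ≠ 3 := fun e => by have := H.five_le; omega

theorem le_part (hk : orderOf k = 3) {K : Subgroup G} (hK : Inv k K) {p : ℕ} [Fact p.Prime]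
    {Y : Subgroup G} (hY : IsPGroup p Y) (hYK : Y ≤ K) : Y ≤ part p K := by
  haveI := (H.fpf hk hK).isNilpotent
  have hn : ((default : Sylow p K) : Subgroup K).Normal :=
    Sylow.normal_of_normalizerCondition Group.normalizerCondition_of_isNilpotent _
  haveI := Sylow.unique_of_normal (default : Sylow p K) hn
  obtain ⟨S, hS⟩ := (hY.comap_of_injective K.subtype K.subtype_injective :
    IsPGroup p (Y.subgroupOf K)).exists_le_sylow
  intro y hy
  refine ⟨⟨y, hYK hy⟩, ?_, rfl⟩
  have := hS (show (⟨y, hYK hy⟩ : K) ∈ Y.subgroupOf K from hy)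
  rwa [Subsingleton.elim S (default : Sylow p K)] at this

theorem normalizer_le_part (hk : orderOf k = 3) {K : Subgroup G} (hK : Inv k K) {p : ℕ}
    [Fact p.Prime] : normalizer (K : Set G) ≤ normalizer (part p K : Set G) := by
  intro g hg
  rw [← cg_eq_self_iff]
  refine Subgroup.eq_of_le_of_card_ge ?_ (by rw [card_cg])
  refine H.le_part hk hK ((isPGroup_part p K).map _) ?_
  exact (cg_mono (part_le p K)).trans (le_of_eq (cg_eq_self_iff.mpr hg))

theorem part_inv (hk : orderOf k = 3) {K : Subgroup G} (hK : Inv k K) {p : ℕ} [Fact p.Prime] :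
    Inv k (part p K) :=
  ⟨fun n hn => (mem_normalizer_iff.mp (H.normalizer_le_part hk hK hK.mem_normalizer) n).mp hn,
    fun h => hK.coprime (h.trans (card_dvd_of_le (part_le p K)))⟩

theorem card_part {K : Subgroup G} {i j : ℕ} (hcard : Nat.card K = 2 ^ i * H.q ^ j) :
    Nat.card (part 2 K) = 2 ^ i ∧ Nat.card (part H.q K) = H.q ^ j := by
  haveI : Fact (Nat.Prime 2) := ⟨Nat.prime_two⟩
  haveI : Fact H.q.Prime := ⟨H.prime⟩
  have h2 : (2 ^ i * H.q ^ j).factorization 2 = i ∧ (2 ^ i * H.q ^ j).factorization H.q = j := by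
    rw [Nat.factorization_mul (pow_ne_zero _ two_ne_zero) (pow_ne_zero _ H.prime.ne_zero),
      Nat.prime_two.factorization_pow, H.prime.factorization_pow]
    simp [H.q_ne_two, Ne.symm H.q_ne_two]
  constructor
  · rw [part, card_map_of_injective K.subtype_injective, Sylow.card_eq_multiplicity, hcard, h2.1]
  · rw [part, card_map_of_injective K.subtype_injective, Sylow.card_eq_multiplicity, hcard, h2.2]

theorem card_mod_three (hk : orderOf k = 3) {P : Subgroup G} (hP : Inv k P) :
    Nat.card P % 3 = 1 := by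
  haveI : Fact (Nat.Prime 3) := ⟨Nat.prime_three⟩
  letI : MulAction (zpowers k) P :=
    { smul := fun t n => ⟨(t : G) * n * (t : G)⁻¹, by
        have ht : (t : G) ∈ normalizer (P : Set G) := zpowers_le.mpr hP.mem_normalizer t.2
        exact (mem_normalizer_iff.mp ht n).mp n.2⟩
      one_smul := fun n => Subtype.ext (by show (1 : G) * (n : G) * (1 : G)⁻¹ = n; group)
      mul_smul := fun s t n => Subtype.ext (by
        show ((s : G) * t) * (n : G) * ((s : G) * t)⁻¹ = s * (t * n * (t : G)⁻¹) * (s : G)⁻¹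
        group) }
  have hmod := (IsPGroup.of_card (p := 3) (n := 1) (G := zpowers k)
    (by rw [Nat.card_zpowers, hk, pow_one])).card_modEq_card_fixedPoints P
  have h1 : Nat.card (MulAction.fixedPoints (zpowers k) P) = 1 := by
    rw [Nat.card_eq_one_iff_unique]
    refine ⟨⟨fun x y => Subtype.ext (Subtype.ext ?_)⟩, ⟨⟨1, fun t => Subtype.ext ?_⟩⟩⟩
    · have hone : ∀ z : MulAction.fixedPoints (zpowers k) P, ((z : P) : G) = 1 := fun z =>
        (H.fpf hk hP).fpf _ (z : P).2 (congrArg Subtype.val (z.2 ⟨k, Subgroup.mem_zpowers k⟩))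
      rw [hone x, hone y]
    · show (t : G) * 1 * (t : G)⁻¹ = 1
      group
  rw [h1] at hmod
  exact hmod

/-- The core of the normaliser of a part of a maximal subgroup is the subgroup itself. -/
theorem core_part (hk : orderOf k = 3) {K : Subgroup G} (hK : IsMax k K) {p : ℕ} [Fact p.Prime]
    (hp : part p K ≠ ⊥) : IsCore k (part p K) K := by
  have hKM : K ≤ normalizer (part p K : Set G) :=
    le_normalizer.trans (H.normalizer_le_part hk hK.inv)
  rcases H.types hk (H.part_inv hk hK.inv) hp with ⟨N, hN⟩ | ⟨-, D, K1, K2, hA⟩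
  · have := hK.max N hN.inv (hN.cover K hK.inv hKM)
    subst this
    exact hN
  · exfalso
    have key : ∀ L, Inv k L → IsPGroup 2 L → D ≤ L → Nat.card L = 4 * Nat.card D → K ≤ L → False := by
      intro L hL hL2 hDL hcard hKL
      have e := hK.max L hL hKL
      subst e
      have hp2 : p = 2 := by
        by_contra hne
        obtain ⟨x, hx, hx1⟩ := (bot_or_exists_ne_one (part p L)).resolve_left hp
        obtain ⟨i, hi⟩ := IsPGroup.iff_orderOf.mp (isPGroup_part p L) ⟨x, hx⟩
        obtain ⟨j, hj⟩ := IsPGroup.iff_orderOf.mp hL2 ⟨x, part_le p L hx⟩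
        rw [Subgroup.orderOf_mk] at hi hj
        have : Nat.Coprime (p ^ i) (2 ^ j) :=
          Nat.Coprime.pow _ _ ((Nat.coprime_primes Fact.out Nat.prime_two).mpr hne)
        rw [← hi, ← hj, Nat.coprime_self, orderOf_eq_one_iff] at this
        exact hx1 this
      subst hp2
      have hLp : L ≤ part 2 L := H.le_part hk hK.inv hL2 le_rfl
      have := Subgroup.card_le_of_le (hLp.trans hA.le_D)
      have : 0 < Nat.card D := Nat.card_pos
      omega
    rcases hA.cover K hK.inv hKM with h | h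
    · exact key K1 hA.inv1 hA.two1 hA.le1 hA.card1 h
    · exact key K2 hA.inv2 hA.two2 hA.le2 hA.card2 h

theorem exists_part_ne_bot {K : Subgroup G} (hK : IsMax k K) :
    part 2 K ≠ ⊥ ∨ part H.q K ≠ ⊥ := by
  by_contra h
  push Not at h
  obtain ⟨i, j, -, -, hcard⟩ := H.exists_card hK.inv.coprime
  obtain ⟨h1, h2⟩ := H.card_part hcard
  rw [h.1, card_bot] at h1
  rw [h.2, card_bot] at h2
  apply hK.ne
  apply Subgroup.eq_bot_of_card_eq
  rw [hcard, ← h1, ← h2]

theorem normalizer_part (hk : orderOf k = 3) {K : Subgroup G} (hK : IsMax k K) {p : ℕ}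
    [Fact p.Prime] (hp : part p K ≠ ⊥) :
    normalizer (part p K : Set G) = normalizer (K : Set G) :=
  le_antisymm (H.core_part hk hK hp).normal (H.normalizer_le_part hk hK.inv)

theorem normalizer_data (hk : orderOf k = 3) {K : Subgroup G} (hK : IsMax k K) :
    (K.relIndex (normalizer (K : Set G)) = 3 ∨ K.relIndex (normalizer (K : Set G)) = 6) ∧
      ∀ P, Inv k P → P ≤ normalizer (K : Set G) → P ≤ K := by
  haveI : Fact (Nat.Prime 2) := ⟨Nat.prime_two⟩
  haveI : Fact H.q.Prime := ⟨H.prime⟩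
  have main : ∀ (p : ℕ) [Fact p.Prime], part p K ≠ ⊥ →
      K.relIndex (normalizer (K : Set G)) ∣ 6 ∧
        ∀ P, Inv k P → P ≤ normalizer (K : Set G) → P ≤ K := by
    intro p _ hp
    have h := H.core_part hk hK hp
    rw [← H.normalizer_part hk hK hp]
    exact ⟨h.index, h.cover⟩
  obtain ⟨h6, hcov⟩ := (H.exists_part_ne_bot hK).elim (main 2) (main H.q)
  refine ⟨?_, hcov⟩
  have h3 : 3 ∣ K.relIndex (normalizer (K : Set G)) := by
    have hd := hk ▸ Subgroup.orderOf_dvd_natCard (normalizer (K : Set G)) hK.inv.mem_normalizer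
    rw [← relIndex_mul_card (le_normalizer (H := K))] at hd
    exact (Nat.prime_three.dvd_mul.mp hd).resolve_right hK.inv.coprime
  have := Nat.le_of_dvd (by norm_num) h6
  interval_cases K.relIndex (normalizer (K : Set G)) <;> omega

/-- Elements of order three of the normaliser are conjugate to `k` or `k⁻¹` under the subgroup. -/
theorem exists_conj_of_mem_normalizer (hk : orderOf k = 3) {K : Subgroup G} (hK : IsMax k K)
    {y : G} (hy : orderOf y = 3) (hyN : y ∈ normalizer (K : Set G)) :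
    ∃ m ∈ K, y = m * k * m⁻¹ ∨ y = m * k⁻¹ * m⁻¹ := by
  set M := normalizer (K : Set G) with hM
  haveI : (K.subgroupOf M).Normal := normal_subgroupOf_of_le_normalizer le_rfl
  set π := QuotientGroup.mk' (K.subgroupOf M)
  set x : M := ⟨k, hK.inv.mem_normalizer⟩
  set z : M := ⟨y, hyN⟩
  have hk3 : k ^ 3 = 1 := hk ▸ pow_orderOf_eq_one k
  have hxo : orderOf (π x) = 3 := by
    refine orderOf_eq_three (by rw [← map_pow, show x ^ 3 = 1 from Subtype.ext hk3, map_one])
      fun e => ?_
    exact H.notMem hk hK.inv ((QuotientGroup.eq_one_iff x).mp e)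
  have hz3 : π z ^ 3 = 1 := by
    rw [← map_pow, show z ^ 3 = 1 from Subtype.ext (hy ▸ pow_orderOf_eq_one y), map_one]
  have hmem : π z ∈ zpowers (π x) := by
    have hq : Nat.card (M ⧸ K.subgroupOf M) = K.relIndex M := rfl
    have hmul := (zpowers (π x)).card_mul_index
    rw [Nat.card_zpowers, hxo, hq] at hmul
    rcases (H.normalizer_data hk hK).1 with h | h <;> rw [← hM] at h <;> rw [h] at hmul
    · rw [index_eq_one.mp (show (zpowers (π x)).index = 1 by omega)]
      exact mem_top _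
    · have h2 := mul_self_mem_of_index_two (show (zpowers (π x)).index = 2 by omega) (π z * π z)
      rwa [show π z * π z * (π z * π z) = π z by
        rw [← mul_assoc, ← pow_three', hz3, one_mul]] at h2
  obtain ⟨i, hi⟩ := mem_powers_iff_mem_zpowers.mpr hmem
  simp only at hi
  rw [← pow_mod_orderOf, hxo] at hi
  have hy1 : y ∉ K := fun h => hK.inv.coprime (hy ▸ K.orderOf_dvd_natCard h)
  have hk1 : k⁻¹ = k * k := inv_eq_of_mul_eq_one_right (by rw [← mul_assoc, ← pow_three', hk3])
  have key : ∀ w : G, (w = k ∨ w = k⁻¹) → y * w⁻¹ ∈ K → ∃ m ∈ K, y = m * w * m⁻¹ := by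
    intro w hw hd
    have hf : Fpf3 w K := by
      rcases hw with rfl | rfl
      · exact H.fpf hk hK.inv
      · exact H.fpf (by rw [orderOf_inv, hk]) hK.inv.inv_elem
    obtain ⟨m, hm, hme⟩ := hf.surj hd
    refine ⟨m⁻¹, inv_mem hm, ?_⟩
    calc y = (y * w⁻¹) * w := by group
      _ = m⁻¹ * (w * m * w⁻¹) * w := by rw [hme]
      _ = _ := by group
  rcases (show i % 3 = 0 ∨ i % 3 = 1 ∨ i % 3 = 2 by omega) with h | h | h <;> rw [h] at hi
  · exact absurd ((QuotientGroup.eq_one_iff z).mp (hi.symm.trans (pow_zero _))) hy1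
  · rw [pow_one] at hi
    have hd : z / x ∈ K.subgroupOf M := by
      rw [← QuotientGroup.eq_iff_div_mem]; exact hi.symm
    obtain ⟨m, hm, he⟩ := key k (Or.inl rfl) (by
      rw [← div_eq_mul_inv]
      exact hd)
    exact ⟨m, hm, Or.inl he⟩
  · have hd : z / (x * x) ∈ K.subgroupOf M := by
      rw [← QuotientGroup.eq_iff_div_mem]
      rw [pow_two] at hi
      exact hi.symm
    obtain ⟨m, hm, he⟩ := key k⁻¹ (Or.inr rfl) (by
      rw [inv_inv]
      have h' : y * (k * k)⁻¹ ∈ K := by
        have := hd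
        rw [div_eq_mul_inv] at this
        exact this
      rwa [← hk1, inv_inv] at h')
    exact ⟨m, hm, Or.inr he⟩

/-- Conjugates normalised by `k` are maximal for `k`, by an element normalising `⟨k⟩`. -/
theorem isMax_conj (hk : orderOf k = 3) {K : Subgroup G} (hK : IsMax k K) {g : G}
    (hg : k ∈ normalizer (cg g K : Set G)) :
    IsMax k (cg g K) ∧
      ∃ h, cg h K = cg g K ∧ (h * k * h⁻¹ = k ∨ h * k * h⁻¹ = k⁻¹) := by
  have hy : g⁻¹ * k * g ∈ normalizer (K : Set G) := by
    rw [normalizer_cg, mem_cg] at hg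
    exact hg
  obtain ⟨m, hm, he⟩ := H.exists_conj_of_mem_normalizer hk hK
    (by rw [show g⁻¹ * k * g = g⁻¹ * k * g⁻¹⁻¹ by group, ← MulAut.conj_apply, MulEquiv.orderOf_eq,
      hk]) hy
  have hgm : cg (g * m) K = cg g K := by
    rw [← cg_mul, cg_eq_self_iff.mpr (le_normalizer hm)]
  have he' : g * m * k * (g * m)⁻¹ = k ∨ g * m * k * (g * m)⁻¹ = k⁻¹ := by
    rcases he with e | e
    · left
      calc g * m * k * (g * m)⁻¹ = g * (m * k * m⁻¹) * g⁻¹ := by group
        _ = g * (g⁻¹ * k * g) * g⁻¹ := by rw [e]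
        _ = k := by group
    · right
      calc g * m * k * (g * m)⁻¹ = g * (m * k⁻¹ * m⁻¹)⁻¹ * g⁻¹ := by group
        _ = g * (g⁻¹ * k * g)⁻¹ * g⁻¹ := by rw [e]
        _ = k⁻¹ := by group
  refine ⟨?_, g * m, hgm, he'⟩
  rw [← hgm]
  have hinv : ∀ P, Inv k P → Inv k (cg (g * m) P) ∧ Inv k (cg (g * m)⁻¹ P) := by
    intro P hP
    refine ⟨?_, ?_⟩
    · rcases he' with e | e
      · exact e ▸ hP.cg (g * m)
      · exact (e ▸ hP.cg (g * m) : Inv k⁻¹ _).of_inv_elem
    · rcases he' with e | e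
      · have := hP.cg (g * m)⁻¹
        rwa [show (g * m)⁻¹ * k * (g * m)⁻¹⁻¹ = k by
          conv_lhs => arg 1; arg 2; rw [← e]
          group] at this
      · have := hP.cg (g * m)⁻¹
        rw [show (g * m)⁻¹ * k * (g * m)⁻¹⁻¹ = k⁻¹ by
          have e' : k = g * m * k⁻¹ * (g * m)⁻¹ := by
            calc k = (g * m * k * (g * m)⁻¹)⁻¹ := by rw [e, inv_inv]
              _ = _ := by group
          conv_lhs => arg 1; arg 2; rw [e']
          group] at this
        exact this.of_inv_elem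
  refine ⟨(hinv K hK.inv).1, fun e => hK.ne (cg_eq_bot e), fun Q hQ hle => ?_⟩
  have := hK.max _ (hinv Q hQ).2 (by rw [← cg_inv_cg (g * m) K]; exact cg_mono hle)
  rw [← this, cg_cg_inv]

theorem card_index : Nat.card G = 9 * (2 ^ H.a * H.q ^ H.b) := H.card

theorem card_class {y : G} (hy : orderOf y = 3) :
    Nat.card {z : G // orderOf z = 3} = 2 ^ H.a * H.q ^ H.b := by
  have h := InvChar68.card_isConj_mul_card_centralizer y
  rw [H.card_cent y hy, H.card, mul_comm 9] at h
  rw [← Nat.eq_of_mul_eq_mul_right (by norm_num) h]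
  refine Nat.card_congr (Equiv.subtypeEquivRight fun z => ⟨fun hz => H.conj y z hy hz, fun hz => ?_⟩)
  obtain ⟨g, rfl⟩ := isConj_iff.mp hz
  rw [← MulAut.conj_apply, MulEquiv.orderOf_eq, hy]

theorem card_three_normalizer (hk : orderOf k = 3) {K : Subgroup G} (hK : IsMax k K) :
    Nat.card {y : G // orderOf y = 3 ∧ y ∈ normalizer (K : Set G)} = 2 * Nat.card K := by
  have hk' : orderOf k⁻¹ = 3 := by rw [orderOf_inv, hk]
  have hk3 : k ^ 3 = 1 := hk ▸ pow_orderOf_eq_one k
  let f : Bool × K → {y : G // orderOf y = 3 ∧ y ∈ normalizer (K : Set G)} := fun p =>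
    ⟨(p.2 : G) * (if p.1 then k else k⁻¹) * (p.2 : G)⁻¹, by
      rw [← MulAut.conj_apply, MulEquiv.orderOf_eq]
      split <;> assumption,
      mul_mem (mul_mem (le_normalizer p.2.2) (by
        split
        · exact hK.inv.mem_normalizer
        · exact inv_mem hK.inv.mem_normalizer)) (inv_mem (le_normalizer p.2.2))⟩
  have hf : Function.Bijective f := by
    constructor
    · rintro ⟨s, m⟩ ⟨t, n⟩ h
      have h' : (m : G) * (if s then k else k⁻¹) * (m : G)⁻¹ =
          (n : G) * (if t then k else k⁻¹) * (n : G)⁻¹ := congrArg Subtype.val h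
      have hkey : ∀ w : G, orderOf w = 3 → Inv w K → ∀ m n : K,
          (m : G) * w * (m : G)⁻¹ = (n : G) * w * (n : G)⁻¹ → m = n := by
        intro w hw hwK m n e
        have := (H.fpf hw hwK).fpf ((n : G)⁻¹ * m) (mul_mem (inv_mem n.2) m.2) (by
          calc w * ((n : G)⁻¹ * m) * w⁻¹ = (n : G)⁻¹ * ((n : G) * w * (n : G)⁻¹) * m * w⁻¹ := by
                group
            _ = (n : G)⁻¹ * ((m : G) * w * (m : G)⁻¹) * m * w⁻¹ := by rw [e]
            _ = (n : G)⁻¹ * m := by group)
        exact Subtype.ext (inv_mul_eq_one.mp this).symm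
      have hdiff : ∀ m n : K, (m : G) * k * (m : G)⁻¹ ≠ (n : G) * k⁻¹ * (n : G)⁻¹ := by
        intro m n e
        -- then `k * k` would be in `K`
        apply H.notMem hk hK.inv
        set w := (n : G)⁻¹ * m with hw
        have hwK : w ∈ K := mul_mem (inv_mem n.2) m.2
        have e' : w * k * w⁻¹ = k⁻¹ := by
          calc w * k * w⁻¹ = (n : G)⁻¹ * ((m : G) * k * (m : G)⁻¹) * n := by rw [hw]; group
            _ = _ := by rw [e]; group
        have h1 : k * w * k⁻¹ * w⁻¹ ∈ K := mul_mem (hK.inv.mem w hwK) (inv_mem hwK)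
        have h2 : k * w * k⁻¹ * w⁻¹ = k * k := by
          calc k * w * k⁻¹ * w⁻¹ = k * (w * k * w⁻¹)⁻¹ := by group
            _ = k * k := by rw [e', inv_inv]
        rw [h2] at h1
        have := mul_mem h1 h1
        rwa [← mul_assoc, ← pow_three', hk3, one_mul] at this
      cases s <;> cases t <;> simp only [Bool.false_eq_true, if_false, if_true] at h'
      · rw [hkey _ hk' hK.inv.inv_elem m n h']
      · exact absurd h'.symm (hdiff n m)
      · exact absurd h' (hdiff m n)
      · rw [hkey _ hk hK.inv m n h']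
    · rintro ⟨y, hy, hyN⟩
      obtain ⟨m, hm, e | e⟩ := H.exists_conj_of_mem_normalizer hk hK hy hyN
      · exact ⟨(true, ⟨m, hm⟩), Subtype.ext (by simp [f, e])⟩
      · exact ⟨(false, ⟨m, hm⟩), Subtype.ext (by simp [f, e])⟩
  rw [← Nat.card_eq_of_bijective f hf, Nat.card_prod, Nat.card_eq_fintype_card (α := Bool)]
  rfl

/-- The number of conjugates of a maximal invariant subgroup normalised by `k`. -/
theorem count (hk : orderOf k = 3) {K : Subgroup G} (hK : IsMax k K) :
    Nat.card {L : Subgroup G // ∃ g, cg g K = L ∧ k ∈ normalizer (L : Set G)} *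
        K.relIndex (normalizer (K : Set G)) = 18 ∧
      (normalizer (K : Set G)).index * (K.relIndex (normalizer (K : Set G)) * Nat.card K) =
        9 * (2 ^ H.a * H.q ^ H.b) := by
  classical
  set M := normalizer (K : Set G) with hM
  set r := K.relIndex M
  set m := Nat.card {L : Subgroup G // ∃ g, cg g K = L ∧ k ∈ normalizer (L : Set G)}
  set T := 2 ^ H.a * H.q ^ H.b
  have hMcard : Nat.card M = r * Nat.card K :=
    (relIndex_mul_card le_normalizer).symm
  have hidx : M.index * (r * Nat.card K) = 9 * T := by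
    rw [← hMcard, Subgroup.index_mul_card, H.card]
  refine ⟨?_, hidx⟩
  let C : Set (Subgroup G) := Set.range fun g => cg g K
  have hC : Nat.card C = M.index := by
    rw [index]
    refine (Nat.card_eq_of_bijective (fun c : G ⧸ M => (⟨Quotient.liftOn' c (fun g => cg g K) ?_,
      ?_⟩ : C)) ⟨?_, ?_⟩).symm
    · intro a b hab
      have := QuotientGroup.leftRel_apply.mp hab
      show cg a K = cg b K
      rw [show b = a * (a⁻¹ * b) by group, ← cg_mul, cg_eq_self_iff.mpr this]
    · induction c using QuotientGroup.induction_on with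
      | _ g => exact ⟨g, rfl⟩
    · intro c d h
      induction c using QuotientGroup.induction_on with
      | _ a =>
        induction d using QuotientGroup.induction_on with
        | _ b =>
          refine QuotientGroup.eq.mpr (cg_eq_self_iff.mp ?_)
          have h' : cg a K = cg b K := congrArg Subtype.val h
          rw [← cg_mul, ← h', cg_inv_cg]
    · rintro ⟨L, g, rfl⟩
      exact ⟨g, rfl⟩
  let I := {p : Subgroup G × G // p.1 ∈ C ∧ orderOf p.2 = 3 ∧ p.2 ∈ normalizer (p.1 : Set G)}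
  have h1 : Nat.card I = Nat.card C * (2 * Nat.card K) := by
    let e : I ≃ Σ L : C, {y : G // orderOf y = 3 ∧ y ∈ normalizer ((L : Subgroup G) : Set G)} :=
      { toFun := fun p => ⟨⟨p.1.1, p.2.1⟩, p.1.2, p.2.2⟩
        invFun := fun p => ⟨(p.1.1, p.2.1), p.1.2, p.2.2⟩
        left_inv := fun p => rfl
        right_inv := fun p => rfl }
    haveI := Fintype.ofFinite C
    rw [Nat.card_congr e, Nat.card_sigma, Nat.card_eq_fintype_card (α := C)]
    rw [Finset.sum_const_nat (m := 2 * Nat.card K), Finset.card_univ]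
    rintro ⟨L, g, rfl⟩ -
    rw [← H.card_three_normalizer hk hK]
    refine Nat.card_congr ((MulAut.conj g).symm.toEquiv.subtypeEquiv fun y => ?_)
    rw [MulEquiv.toEquiv_eq_coe, EquivLike.coe_coe, MulEquiv.orderOf_eq, MulAut.conj_symm_apply,
      normalizer_cg, mem_cg]
  have h2 : Nat.card I = T * m := by
    let Y := {y : G // orderOf y = 3}
    let e : I ≃ Σ y : Y, {L : Subgroup G // L ∈ C ∧ (y : G) ∈ normalizer (L : Set G)} :=
      { toFun := fun p => ⟨⟨p.1.2, p.2.2.1⟩, p.1.1, p.2.1, p.2.2.2⟩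
        invFun := fun p => ⟨(p.2.1, p.1.1), p.2.2.1, p.1.2, p.2.2.2⟩
        left_inv := fun p => rfl
        right_inv := fun p => rfl }
    haveI := Fintype.ofFinite Y
    rw [Nat.card_congr e, Nat.card_sigma, Finset.sum_const_nat (m := m), Finset.card_univ, ← Nat.card_eq_fintype_card, H.card_class hk]
    rintro ⟨y, hy⟩ -
    obtain ⟨h, hh⟩ := isConj_iff.mp (H.conj k y hk hy)
    refine (Nat.card_congr (Equiv.subtypeEquiv
      { toFun := fun L => cg h L
        invFun := fun L => cg h⁻¹ L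
        left_inv := cg_inv_cg h
        right_inv := cg_cg_inv h } fun L => ?_)).symm
    constructor
    · rintro ⟨g, rfl, hg⟩
      refine ⟨⟨h * g, (cg_mul h g K).symm⟩, ?_⟩
      show y ∈ normalizer (cg h (cg g K) : Set G)
      rw [normalizer_cg, mem_cg, ← hh,
        show h⁻¹ * (h * k * h⁻¹) * h = k by group]
      exact hg
    · rintro ⟨⟨g, hgL⟩, hy'⟩
      refine ⟨h⁻¹ * g, by rw [← cg_mul]; exact (congrArg (cg h⁻¹) hgL).trans (cg_inv_cg h L), ?_⟩
      have hy'' : y ∈ normalizer (cg h L : Set G) := hy'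
      rw [normalizer_cg, mem_cg, ← hh, show h⁻¹ * (h * k * h⁻¹) * h = k by group] at hy''
      exact hy''
  have h := h2.symm.trans (h1.trans (by rw [hC]))
  have hpos : 0 < M.index * (2 * Nat.card K) :=
    Nat.mul_pos (Nat.pos_of_ne_zero FiniteIndex.index_ne_zero) (Nat.mul_pos (by norm_num) Nat.card_pos)
  apply Nat.eq_of_mul_eq_mul_left hpos
  calc M.index * (2 * Nat.card K) * (m * r) = 2 * m * (M.index * (r * Nat.card K)) := by ring
    _ = 18 * (T * m) := by rw [hidx]; ring
    _ = M.index * (2 * Nat.card K) * 18 := by rw [h]; ring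

theorem sylow_part (hk : orderOf k = 3) {K : Subgroup G} (hK : IsMax k K)
    (hq : part H.q K ≠ ⊥) :
    Nat.card (part H.q K) = H.q ^ H.b ∧ (normalizer (K : Set G)).index % H.q = 1 := by
  haveI : Fact H.q.Prime := ⟨H.prime⟩
  obtain ⟨P, hP⟩ := (isPGroup_part H.q K).exists_le_sylow
  have hM := H.normalizer_part hk hK hq
  have hrel : (P : Subgroup G) ⊓ normalizer (part H.q K : Set G) ≤ part H.q K := by
    have hcore := H.core_part hk hK hq
    set M := normalizer (part H.q K : Set G) with hMdef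
    haveI : (K.subgroupOf M).Normal := normal_subgroupOf_of_le_normalizer hcore.normal
    intro x hx
    refine H.le_part hk hK.inv (Y := (P : Subgroup G) ⊓ M)
      (P.isPGroup'.to_le inf_le_left) (fun y hy => ?_) hx
    have hz : QuotientGroup.mk' (K.subgroupOf M) ⟨y, hy.2⟩ = 1 := by
      obtain ⟨i, hi⟩ := IsPGroup.iff_orderOf.mp P.isPGroup' ⟨y, hy.1⟩
      rw [Subgroup.orderOf_mk] at hi
      have h1 : orderOf (QuotientGroup.mk' (K.subgroupOf M) ⟨y, hy.2⟩) ∣ H.q ^ i := by
        rw [← hi, ← Subgroup.orderOf_mk (H := M) y hy.2]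
        exact orderOf_map_dvd _ _
      have h2 : orderOf (QuotientGroup.mk' (K.subgroupOf M) ⟨y, hy.2⟩) ∣ 6 :=
        (_root_.orderOf_dvd_natCard _).trans hcore.index
      have hc : Nat.Coprime (H.q ^ i) 6 := Nat.Coprime.pow_left _ (by
        rw [Nat.Prime.coprime_iff_not_dvd H.prime]
        intro h
        have := Nat.le_of_dvd (by norm_num) h
        have := H.five_le
        have := H.prime
        interval_cases H.q <;> norm_num at *)
      exact orderOf_eq_one_iff.mp (Nat.eq_one_of_dvd_one (hc ▸ Nat.dvd_gcd h1 h2))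
    exact (QuotientGroup.eq_one_iff (N := K.subgroupOf M) (⟨y, hy.2⟩ : M)).mp hz
  have hPeq : part H.q K = (P : Subgroup G) := by
    rcases hP.eq_or_lt with h | h
    · exact h
    · haveI : Group.IsNilpotent (P : Subgroup G) := P.isPGroup'.isNilpotent
      exact absurd ((FT62.Setting.lt_inf_normalizer inferInstance h).trans_le hrel) (lt_irrefl _)
  refine ⟨?_, ?_⟩
  · rw [hPeq, P.card_eq_multiplicity, H.card]
    congr 1
    rw [Nat.factorization_mul (by norm_num)
      (Nat.mul_ne_zero (pow_ne_zero _ two_ne_zero) (pow_ne_zero _ H.prime.ne_zero)),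
      Nat.factorization_mul (pow_ne_zero _ two_ne_zero) (pow_ne_zero _ H.prime.ne_zero),
      Nat.prime_two.factorization_pow, H.prime.factorization_pow, show (9 : ℕ) = 3 ^ 2 by norm_num,
      Nat.prime_three.factorization_pow]
    simp [H.q_ne_two, Ne.symm H.q_ne_two, H.q_ne_three, Ne.symm H.q_ne_three]
  · rw [← hM, hPeq, show (normalizer ((P : Subgroup G) : Set G)).index = _ from
      P.card_eq_index_normalizer.symm]
    have := card_sylow_modEq_one H.q G
    rwa [Nat.ModEq, Nat.one_mod_eq_one.mpr H.prime.one_lt.ne'] at this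

/-- Maximal invariant subgroups with a nontrivial `q`-part are conjugate. -/
theorem conj_of_q (hk : orderOf k = 3) {K K' : Subgroup G} (hK : IsMax k K) (hK' : IsMax k K')
    (hq : part H.q K ≠ ⊥) (hq' : part H.q K' ≠ ⊥) : ∃ g, cg g K = K' := by
  haveI : Fact H.q.Prime := ⟨H.prime⟩
  have key : ∀ {K K' : Subgroup G}, IsMax k K → IsMax k K' → part H.q K ≠ ⊥ → part H.q K' ≠ ⊥ →
      ∀ g, cg g (part H.q K) = part H.q K' → cg g K ≤ K' := by
    intro K K' hK hK' hq hq' g hg
    have hN : normalizer (K' : Set G) = cg g (normalizer (K : Set G)) := by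
      rw [← H.normalizer_part hk hK' hq', ← hg, normalizer_cg, H.normalizer_part hk hK hq]
    have hkN : k ∈ normalizer (cg g K : Set G) := by
      rw [normalizer_cg, ← hN]
      exact hK'.inv.mem_normalizer
    refine (H.normalizer_data hk hK').2 _ (H.isMax_conj hk hK hkN).1.inv ?_
    rw [hN]
    exact cg_mono le_normalizer
  obtain ⟨P, hP⟩ := (isPGroup_part H.q K).exists_le_sylow
  obtain ⟨P', hP'⟩ := (isPGroup_part H.q K').exists_le_sylow
  have hsame : ∀ {L : Subgroup G} {S : Sylow H.q G}, IsMax k L → part H.q L ≠ ⊥ →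
      part H.q L ≤ S → part H.q L = (S : Subgroup G) := by
    intro L S hL hLq hle
    refine Subgroup.eq_of_le_of_card_ge hle (le_of_eq ?_)
    rw [(H.sylow_part hk hL hLq).1]
    obtain ⟨n, hn⟩ := S.isPGroup'.exists_card_eq
    refine (Sylow.card_eq_multiplicity S).trans ?_
    congr 1
    rw [H.card, Nat.factorization_mul (by norm_num)
      (Nat.mul_ne_zero (pow_ne_zero _ two_ne_zero) (pow_ne_zero _ H.prime.ne_zero)),
      Nat.factorization_mul (pow_ne_zero _ two_ne_zero) (pow_ne_zero _ H.prime.ne_zero),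
      Nat.prime_two.factorization_pow, H.prime.factorization_pow, show (9 : ℕ) = 3 ^ 2 by norm_num,
      Nat.prime_three.factorization_pow]
    simp [H.q_ne_two, Ne.symm H.q_ne_two, H.q_ne_three, Ne.symm H.q_ne_three]
  obtain ⟨g, hg⟩ := MulAction.exists_smul_eq G P P'
  have he : cg g (part H.q K) = part H.q K' := by
    rw [hsame hK hq hP, hsame hK' hq' hP', ← hg]
    rfl
  have he' : cg g⁻¹ (part H.q K') = part H.q K := by rw [← he, cg_inv_cg]
  refine ⟨g, le_antisymm (key hK hK' hq hq' g he) ?_⟩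
  have := cg_mono (g := g) (key hK' hK hq' hq g⁻¹ he')
  rwa [cg_cg_inv] at this

/-- Two maximal subgroups meeting nontrivially lead to a normaliser of type `A₅`. -/
theorem exists_a5_of_inter (hk : orderOf k = 3) : ∀ (n : ℕ) (K1 K2 : Subgroup G),
    Nat.card G - Nat.card ↥(K1 ⊓ K2) ≤ n → IsMax k K1 → IsMax k K2 → K1 ≠ K2 → K1 ⊓ K2 ≠ ⊥ →
      ∃ U, Inv k U ∧ U ≠ ⊥ ∧ K1 ⊓ K2 ≤ U ∧ H.q = 5 ∧ ∃ D L1 L2, IsA5Local k U D L1 L2 := by
  intro n
  induction n using Nat.strong_induction_on with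
  | _ n ih =>
    intro K1 K2 hn h1 h2 hne hD
    set D := K1 ⊓ K2 with hDdef
    have hDinv : Inv k D :=
      h1.inv.mono inf_le_left fun x hx => ⟨h1.inv.mem x hx.1, h2.inv.mem x hx.2⟩
    rcases H.types hk hDinv hD with ⟨N, hN⟩ | h
    · obtain ⟨K3, h3, hle⟩ := H.exists_isMax hN.inv fun e => hD (le_bot_iff.mp
        (e ▸ hN.cover D hDinv le_normalizer))
      have grow : ∀ K, IsMax k K → D ≤ K → D ≠ K → D < K ⊓ K3 := by
        intro K hK hle' hne'
        refine lt_of_lt_of_le (FT62.Setting.lt_inf_normalizer (H.fpf hk hK.inv).isNilpotent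
          (lt_of_le_of_ne hle' hne')) (le_inf inf_le_left ?_)
        refine (hN.cover _ (hK.inv.mono inf_le_left fun x hx => ⟨hK.inv.mem x hx.1, ?_⟩)
          inf_le_right).trans hle
        exact (normalizer (D : Set G)).mul_mem ((normalizer (D : Set G)).mul_mem
          hDinv.mem_normalizer hx.2) ((normalizer (D : Set G)).inv_mem hDinv.mem_normalizer)
      have hne1 : D ≠ K1 := fun e => hne (h1.max K2 h2.inv (e ▸ inf_le_right)).symm
      have hne2 : D ≠ K2 := fun e => hne (h2.max K1 h1.inv (e ▸ inf_le_left))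
      have go : ∀ K, IsMax k K → D < K ⊓ K3 → K ≠ K3 →
          ∃ U, Inv k U ∧ U ≠ ⊥ ∧ D ≤ U ∧ H.q = 5 ∧ ∃ D' L1 L2, IsA5Local k U D' L1 L2 := by
        intro K hK hlt hne'
        have hc : Nat.card D < Nat.card ↥(K ⊓ K3) := by
          refine lt_of_le_of_ne (Subgroup.card_le_of_le hlt.le) fun e => hlt.ne ?_
          exact Subgroup.eq_of_le_of_card_ge hlt.le e.ge
        have := Nat.le_of_dvd Nat.card_pos (card_subgroup_dvd_card (K ⊓ K3))
        obtain ⟨U, hU, hUne, hle', h'⟩ := ih _ (by omega) K K3 le_rfl hK h3 hne'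
          fun e => not_lt_bot (e ▸ hlt)
        exact ⟨U, hU, hUne, hlt.le.trans hle', h'⟩
      by_cases e : K1 = K3
      · exact go K2 h2 (grow K2 h2 inf_le_right hne2) fun e' => hne (e.trans e'.symm)
      · exact go K1 h1 (grow K1 h1 inf_le_left hne1) e
    · exact ⟨D, hDinv, hD, le_rfl, h⟩

end Hyp

end Cfsg.Agent.LAE65.OneClass
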