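import Mathlib

/-!
# A pruned search for the degrees of characters not vanishing on elements of order three

The search decides whether a list of pairs (value, degree) can satisfy the degree equation and
a given structure constant.
-/

set_option autoImplicit false

namespace Cfsg.Agent.LAE65.OneClass

/-- A candidate `(c, d, t)` together with bounds for the rest of the list. -/
structure Node where
  c : ℤ
  d : ℕ
  t : ℕ
  md : ℕ
  me : ℕ
  g : ℕ
  ge : ℕ

/-- Attach to each candidate the bounds of the list it starts. -/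
def build : List (ℤ × ℕ × ℕ) → List Node
  | [] => []
  | (c, d, t) :: r =>
    match build r with
    | [] => [⟨c, d, t, d, c.natAbs * t, d, t⟩]
    | y :: ys =>
      ⟨c, d, t, max d y.md, max (c.natAbs * t) y.me, Nat.gcd d y.g, Nat.gcd t y.ge⟩ :: y :: ys

/-- The search. -/
def go (N : ℕ) : List Node → ℕ → ℤ → ℤ → ℕ → Bool
  | [], w, s, e, _ => w == 0 && s == 0 && e == 0
  | x :: xs, w, s, e, sq =>
    if w == 0 then s == 0 && e == 0 else
      decide (s.natAbs ≤ w * x.md) && decide (e.natAbs ≤ w * x.me) &&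
        decide (x.g ∣ s.natAbs) && decide (x.ge ∣ e.natAbs) &&
        (List.range (w + 1)).any fun k =>
          decide (k * x.c.natAbs ^ 2 ≤ w) && decide (sq + k * x.d ^ 2 ≤ N) &&
            go N xs (w - k * x.c.natAbs ^ 2) (s + k * (x.c * x.d)) (e - k * (x.c ^ 3 * x.t))
              (sq + k * x.d ^ 2)

/-- What the search looks for. -/
def Fits (r : List (ℤ × ℕ × ℕ)) (N w : ℕ) (s e : ℤ) (sq : ℕ) : Prop :=
  ∃ L : List (ℤ × ℕ × ℕ), (∀ x ∈ L, x ∈ r) ∧ (L.map fun x => x.1.natAbs ^ 2).sum = w ∧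
    s + (L.map fun x => x.1 * (x.2.1 : ℤ)).sum = 0 ∧
    (L.map fun x => x.1 ^ 3 * (x.2.2 : ℤ)).sum = e ∧
    sq + (L.map fun x => x.2.1 ^ 2).sum ≤ N

theorem natAbs_sum_le {α : Type*} (L : List α) (f : α → ℤ) :
    (L.map f).sum.natAbs ≤ (L.map fun x => (f x).natAbs).sum := by
  induction L with
  | nil => simp
  | cons a L ih =>
    simp only [List.map_cons, List.sum_cons]
    exact (Int.natAbs_add_le _ _).trans (Nat.add_le_add_left ih _)

theorem build_spec : ∀ (r : List (ℤ × ℕ × ℕ)) (y : Node) (ys : List Node), build r = y :: ys →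
    ∀ x ∈ r, x.2.1 ≤ y.md ∧ x.1.natAbs * x.2.2 ≤ y.me ∧ y.g ∣ x.2.1 ∧ y.ge ∣ x.2.2
  | [], y, ys, h => by simp [build] at h
  | (c, d, t) :: r, y, ys, h => by
    intro x hx
    rcases hb : build r with _ | ⟨z, zs⟩
    · have hr : r = [] := by
        rcases r with _ | ⟨⟨c', d', t'⟩, r'⟩
        · rfl
        · exfalso
          rw [build] at hb
          split at hb <;> simp at hb
      subst hr
      simp only [build, List.cons.injEq] at h
      obtain ⟨rfl, -⟩ := h
      rw [List.mem_singleton] at hx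
      subst hx
      exact ⟨le_rfl, le_rfl, dvd_rfl, dvd_rfl⟩
    · simp only [build, hb, List.cons.injEq] at h
      obtain ⟨rfl, -⟩ := h
      rcases List.mem_cons.mp hx with rfl | hx
      · exact ⟨le_max_left _ _, le_max_left _ _, Nat.gcd_dvd_left _ _, Nat.gcd_dvd_left _ _⟩
      · obtain ⟨h1, h2, h3, h4⟩ := build_spec r z zs hb x hx
        exact ⟨h1.trans (le_max_right _ _), h2.trans (le_max_right _ _),
          (Nat.gcd_dvd_right _ _).trans h3, (Nat.gcd_dvd_right _ _).trans h4⟩

theorem sum_map_ne_zero_of_weight {L : List (ℤ × ℕ × ℕ)}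
    (h0 : ∀ x ∈ L, x.1 ≠ 0) (h : (L.map fun x => x.1.natAbs ^ 2).sum = 0) : L = [] := by
  rcases L with _ | ⟨x, L⟩
  · rfl
  · simp only [List.map_cons, List.sum_cons, Nat.add_eq_zero_iff, pow_eq_zero_iff (two_ne_zero),
      Int.natAbs_eq_zero] at h
    exact absurd h.1 (h0 x (List.mem_cons_self ..))

theorem go_of_fits (N : ℕ) : ∀ (r : List (ℤ × ℕ × ℕ)), (∀ x ∈ r, x.1 ≠ 0) →
    ∀ (w : ℕ) (s e : ℤ) (sq : ℕ), Fits r N w s e sq → go N (build r) w s e sq = true
  | [], _, w, s, e, sq, ⟨L, hL, hw, hs, he, hsq⟩ => by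
    have : L = [] := List.eq_nil_iff_forall_not_mem.mpr fun x hx => by simpa using hL x hx
    subst this
    simp at hw hs he
    subst hw hs he
    simp [build, go]
  | (c, d, t) :: r, h0, w, s, e, sq, ⟨L, hL, hw, hs, he, hsq⟩ => by
    obtain ⟨y, ys, hy, hyr, hyc, hyd, hyt⟩ : ∃ y ys, build ((c, d, t) :: r) = y :: ys ∧
        ys = build r ∧ y.c = c ∧ y.d = d ∧ y.t = t := by
      rcases hb : build r with _ | ⟨z, zs⟩
      · exact ⟨⟨c, d, t, d, c.natAbs * t, d, t⟩, [], by simp [build, hb], rfl, rfl, rfl, rfl⟩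
      · exact ⟨⟨c, d, t, max d z.md, max (c.natAbs * t) z.me, Nat.gcd d z.g, Nat.gcd t z.ge⟩,
          z :: zs, by simp [build, hb], rfl, rfl, rfl, rfl⟩
    rw [hy, go]
    by_cases hw0 : w = 0
    · subst hw0
      have := sum_map_ne_zero_of_weight (fun x hx => h0 x (hL x hx)) hw
      subst this
      simp at hs he
      subst hs he
      simp
    have hbd := build_spec _ y ys hy
    have hc0 : c ≠ 0 := h0 (c, d, t) (List.mem_cons_self ..)
    have hs' : s = -(L.map fun x => x.1 * (x.2.1 : ℤ)).sum := by linarith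
    have hsum : ∀ f g : ℤ × ℕ × ℕ → ℕ, (∀ x ∈ L, f x ≤ g x) →
        (L.map f).sum ≤ (L.map g).sum := fun f g h => List.sum_le_sum h
    have h1 : s.natAbs ≤ w * y.md := by
      rw [hs', Int.natAbs_neg, ← hw, ← List.sum_map_mul_right]
      refine (natAbs_sum_le L _).trans (hsum _ _ fun x hx => ?_)
      rw [Int.natAbs_mul, Int.natAbs_natCast]
      exact Nat.mul_le_mul (Nat.le_self_pow two_ne_zero _) (hbd x (hL x hx)).1
    have h2 : e.natAbs ≤ w * y.me := by
      rw [← he, ← hw, ← List.sum_map_mul_right]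
      refine (natAbs_sum_le L _).trans (hsum _ _ fun x hx => ?_)
      rw [Int.natAbs_mul, Int.natAbs_pow, Int.natAbs_natCast, pow_succ, mul_assoc]
      exact Nat.mul_le_mul_left _ (hbd x (hL x hx)).2.1
    have h3 : y.g ∣ s.natAbs := by
      rw [← Int.natCast_dvd, hs', dvd_neg]
      refine List.dvd_sum fun z hz => ?_
      obtain ⟨x, hx, rfl⟩ := List.mem_map.mp hz
      exact dvd_mul_of_dvd_right (Int.natCast_dvd_natCast.mpr (hbd x (hL x hx)).2.2.1) _
    have h4 : y.ge ∣ e.natAbs := by
      rw [← Int.natCast_dvd, ← he]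
      refine List.dvd_sum fun z hz => ?_
      obtain ⟨x, hx, rfl⟩ := List.mem_map.mp hz
      exact dvd_mul_of_dvd_right (Int.natCast_dvd_natCast.mpr (hbd x (hL x hx)).2.2.2) _
    simp only [beq_iff_eq, hw0, if_false, Bool.and_eq_true, decide_eq_true_eq, List.any_eq_true,
      List.mem_range, hyc, hyd, hyt, hyr]
    refine ⟨⟨⟨⟨h1, h2⟩, h3⟩, h4⟩, ?_⟩
    -- split off the occurrences of the first candidate
    set L' := L.filter (fun x => decide (x ≠ (c, d, t))) with hL'
    set k := L.count (c, d, t) with hk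
    have hperm : L.Perm (List.replicate k (c, d, t) ++ L') := by
      rw [List.perm_iff_count]
      intro x
      rw [List.count_append, List.count_replicate, hL']
      by_cases hx : x = (c, d, t)
      · subst hx
        rw [List.count_eq_zero.mpr (show (c, d, t) ∉ L.filter _ by simp)]
        simp [hk]
      · rw [List.count_filter (by simpa using hx)]
        simp [Ne.symm hx]
    have hw' : k * c.natAbs ^ 2 + (L'.map fun x => x.1.natAbs ^ 2).sum = w := by
      rw [← hw, (hperm.map _).sum_eq]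
      simp
    have hsq' : k * d ^ 2 + (L'.map fun x => x.2.1 ^ 2).sum = (L.map fun x => x.2.1 ^ 2).sum := by
      rw [(hperm.map _).sum_eq]
      simp
    have hkw : k ≤ w := by
      have : 1 ≤ c.natAbs ^ 2 := Nat.one_le_pow _ _ (Int.natAbs_pos.mpr hc0)
      have := Nat.le_mul_of_pos_right k this
      omega
    refine ⟨k, by omega, ⟨by omega, by omega⟩, ?_⟩
    refine go_of_fits N r (fun x hx => h0 x (List.mem_cons_of_mem _ hx)) _ _ _ _
      ⟨L', fun x hx => ?_, by omega, ?_, ?_, by omega⟩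
    · obtain ⟨hx1, hx2⟩ := List.mem_filter.mp hx
      exact (List.mem_cons.mp (hL x hx1)).resolve_left (by simpa using hx2)
    · rw [(hperm.map _).sum_eq] at hs
      simp at hs
      linarith
    · rw [(hperm.map _).sum_eq] at he
      simp at he
      linarith

end Cfsg.Agent.LAE65.OneClass
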