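import Cfsg.Agent.LAE65.OneClass.Common
import Cfsg.Agent.LAE65.OneClass.Chars

/-!
# The case where every invariant `2`-subgroup has order at most four
-/

set_option autoImplicit false
set_option linter.unusedSectionVars false
set_option linter.style.haveILetI false

namespace Cfsg.Agent.LAE65.OneClass

open Subgroup Cfsg.Agent.FT62

universe u

variable {G : Type u} [Group G] [Finite G]

/-- A maximal invariant subgroup of order four. -/
structure IsFour (k : G) (V : Subgroup G) : Prop where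
  max : IsMax k V
  card : Nat.card V = 4

namespace Hyp

variable (H : Hyp G) {k : G}
include H

theorem part_q_eq_bot {V : Subgroup G} (hk : orderOf k = 3) (hV : IsFour k V) :
    part H.q V = ⊥ := by
  by_contra hne
  have h := H.card_eq_parts hV.max.inv.coprime
  rw [hV.card, (H.sylow_part hk hV.max hne).1] at h
  have h25 : 25 ≤ H.q ^ H.b :=
    (Nat.pow_le_pow_right (by norm_num) H.two_le).trans (pow_five_le H.five_le)
  have : 0 < Nat.card (part 2 V) := Nat.card_pos
  nlinarith

theorem four_center (hk : orderOf k = 3) {V : Subgroup G} (hV : IsFour k V) {z : G}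
    (hz : ∀ x ∈ V, Commute x z) : z ∈ V := by
  haveI : Fact (Nat.Prime 2) := ⟨Nat.prime_two⟩
  have he := (H.twos_eq_part hk hV.max (H.part_q_eq_bot hk hV)).1
  refine H.centralizer_part_le hk hV.max (p := 2) (by rw [he]; exact hV.max.ne) ?_
  rw [he, mem_centralizer_iff]
  exact fun x hx => hz x hx

theorem IsFour.of_mem (hk : orderOf k = 3) {V : Subgroup G} (hV : IsFour k V) {y : G}
    (hy : orderOf y = 3) (hyN : y ∈ normalizer (V : Set G)) : IsFour y V := by
  obtain ⟨m, hm, he⟩ := H.exists_conj_of_mem_normalizer hk hV.max hy hyN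
  have hmV : cg m⁻¹ V = V := cg_eq_self_iff.mpr (inv_mem (le_normalizer hm))
  refine ⟨⟨⟨fun n hn => (mem_normalizer_iff.mp hyN n).mp hn, hV.max.inv.coprime⟩, hV.max.ne,
    fun Q hQ hle => ?_⟩, hV.card⟩
  have hQ' : Inv k (cg m⁻¹ Q) := by
    have h := hQ.cg m⁻¹
    rcases he with e | e <;> rw [e] at h
    · rwa [show m⁻¹ * (m * k * m⁻¹) * m⁻¹⁻¹ = k by group] at h
    · rw [show m⁻¹ * (m * k⁻¹ * m⁻¹) * m⁻¹⁻¹ = k⁻¹ by group] at h
      exact h.of_inv_elem
  have h' := hV.max.max _ hQ' (hmV ▸ cg_mono hle)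
  rw [← cg_cg_inv m Q, h']
  exact cg_eq_self_iff.mpr (le_normalizer hm)

theorem IsFour.conj (hk : orderOf k = 3) {V : Subgroup G} (hV : IsFour k V) (h : G) :
    IsFour (h * k * h⁻¹) (cg h V) := by
  refine ⟨⟨hV.max.inv.cg h, fun e => hV.max.ne (cg_eq_bot e), fun Q hQ hle => ?_⟩,
    by rw [card_cg]; exact hV.card⟩
  have hQ' := hQ.cg h⁻¹
  rw [show h⁻¹ * (h * k * h⁻¹) * h⁻¹⁻¹ = k by group] at hQ'
  have h' := hV.max.max _ hQ' (by rw [← cg_inv_cg h V]; exact cg_mono hle)
  rw [← h', cg_cg_inv]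

/-- All subgroups of order four that are maximal invariant for some element: at most half as
many as the group has elements. -/
theorem card_all_fours_le :
    2 * Nat.card {V : Subgroup G // ∃ y, orderOf y = 3 ∧ IsFour y V} ≤ Nat.card G := by
  classical
  haveI : Fact (Nat.Prime 2) := ⟨Nat.prime_two⟩
  set Φ := {V : Subgroup G // ∃ y, orderOf y = 3 ∧ IsFour y V}
  have hP : ∀ V : Φ, ∃ P : Sylow 2 G, (V : Subgroup G) ≤ P := fun V => by
    obtain ⟨y, hy, hV⟩ := V.2
    exact (IsPGroup.of_card (n := 2) (by rw [hV.card]; norm_num) :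
      IsPGroup 2 (V : Subgroup G)).exists_le_sylow
  choose P hP using hP
  let z : Sylow 2 G → G := fun S =>
    if h : ∃ z ∈ (S : Subgroup G), z ≠ 1 ∧ ∀ x ∈ (S : Subgroup G), Commute x z then h.choose else 1
  have hz : ∀ V : Φ, z (P V) ∈ (V : Subgroup G) ∧ z (P V) ≠ 1 ∧
      z (P V) ∈ (P V : Subgroup G) := by
    intro V
    obtain ⟨y, hy, hV⟩ := V.2
    have hex : ∃ z ∈ (P V : Subgroup G), z ≠ 1 ∧ ∀ x ∈ (P V : Subgroup G), Commute x z := by
      haveI : Nontrivial (P V : Subgroup G) :=
        (nontrivial_iff_ne_bot _).mpr fun e => hV.max.ne (le_bot_iff.mp (e ▸ hP V))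
      haveI := (P V).isPGroup'.center_nontrivial
      obtain ⟨w, hw⟩ := exists_ne (1 : center (P V : Subgroup G))
      refine ⟨((w : (P V : Subgroup G)) : G), (w : (P V : Subgroup G)).2,
        fun e => hw (Subtype.ext (Subtype.ext e)), fun x hx => ?_⟩
      exact congrArg Subtype.val (mem_center_iff.mp w.2 ⟨x, hx⟩)
    simp only [z, dif_pos hex]
    obtain ⟨h1, h2, h3⟩ := hex.choose_spec
    exact ⟨H.four_center hy hV fun x hx => h3 x (hP V hx), h2, h1⟩
  have hv : ∀ V : Φ, ∃ v ∈ (V : Subgroup G), v ≠ 1 ∧ v ≠ z (P V) ∧ v * z (P V) ≠ 1 ∧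
      ∀ x ∈ (V : Subgroup G), x = 1 ∨ x = z (P V) ∨ x = v ∨ x = v * z (P V) := by
    intro V
    obtain ⟨y, hy, hV⟩ := V.2
    obtain ⟨hzV, hz1, -⟩ := hz V
    set s : Set G := {1, z (P V)}
    obtain ⟨v, hvV, hvs⟩ : ∃ v ∈ ((V : Subgroup G) : Set G), v ∉ s := by
      refine Set.exists_mem_notMem_of_ncard_lt_ncard ?_ (Set.toFinite s)
      rw [← Nat.card_coe_set_eq ((V : Subgroup G) : Set G)]
      exact (Set.ncard_insert_le _ _).trans_lt (by
        rw [Set.ncard_singleton]; exact (show 1 + 1 < 4 by norm_num).trans_le hV.card.ge)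
    simp only [s, Set.mem_insert_iff, Set.mem_singleton_iff, not_or] at hvs
    have hsq := H.four_sq hy hV.max.inv hV.card hvV
    have hvz : v * z (P V) ≠ 1 := fun e => hvs.2 (by
      rw [← mul_one v, ← e, ← mul_assoc, hsq, one_mul])
    refine ⟨v, hvV, hvs.1, hvs.2, hvz, fun x hx => ?_⟩
    have hsub : ({1, z (P V), v, v * z (P V)} : Finset G) = el (V : Subgroup G) ∪ {1} := by
      refine Finset.eq_of_subset_of_card_le ?_ ?_
      · intro w hw
        simp only [Finset.mem_insert, Finset.mem_singleton] at hw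
        rw [Finset.mem_union, mem_el, Finset.mem_singleton]
        rcases hw with rfl | rfl | rfl | rfl
        · exact Or.inr rfl
        · exact Or.inl ⟨hzV, hz1⟩
        · exact Or.inl ⟨hvV, hvs.1⟩
        · exact Or.inl ⟨mul_mem hvV hzV, hvz⟩
      · have h4 : ({1, z (P V), v, v * z (P V)} : Finset G).card = 4 := by
          have e1 : v ≠ v * z (P V) := fun e => hz1 (by simpa using e.symm)
          have e2 : z (P V) ≠ v * z (P V) := fun e => hvs.1 (by simpa using e.symm)
          rw [Finset.card_insert_of_notMem (by simp [Ne.symm hz1, Ne.symm hvs.1, Ne.symm hvz]),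
            Finset.card_insert_of_notMem (by simp [Ne.symm hvs.2, e2]),
            Finset.card_insert_of_notMem (by simp [e1]), Finset.card_singleton]
        refine (Finset.card_union_le _ _).trans ?_
        rw [card_el, hV.card, h4, Finset.card_singleton]
    have hx' : x ∈ el (V : Subgroup G) ∪ {1} := by
      rw [Finset.mem_union, mem_el, Finset.mem_singleton]
      by_cases h : x = 1
      · exact Or.inr h
      · exact Or.inl ⟨hx, h⟩
    rw [← hsub] at hx'
    simpa using hx'
  choose v hv using hv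
  let f : Φ × Bool → Σ S : Sylow 2 G, (S : Subgroup G) := fun p =>
    ⟨P p.1, ⟨if p.2 then v p.1 else v p.1 * z (P p.1), by
      split
      · exact hP p.1 (hv p.1).1
      · exact mul_mem (hP p.1 (hv p.1).1) (hz p.1).2.2⟩⟩
  have hf : Function.Injective f := by
    rintro ⟨V, b⟩ ⟨W, c⟩ h
    have h1 : P V = P W := congrArg Sigma.fst h
    have h2 : (if b then v V else v V * z (P V)) = (if c then v W else v W * z (P W)) :=
      congrArg (fun s : Σ S : Sylow 2 G, (S : Subgroup G) => (s.2 : G)) h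
    have hVW : V = W := by
      apply Subtype.ext
      obtain ⟨hvV, -, -, -, hV4⟩ := hv V
      obtain ⟨hvW, -, -, -, hW4⟩ := hv W
      have hzV := (hz V).1
      have hzW : z (P V) ∈ (W : Subgroup G) := h1 ▸ (hz W).1
      rw [← h1] at h2
      have hvW' : v V ∈ (W : Subgroup G) := by
        have hm : (if b then v V else v V * z (P V)) ∈ (W : Subgroup G) := by
          rw [h2]
          split
          exacts [hvW, mul_mem hvW hzW]
        cases b <;> simp only [Bool.false_eq_true, if_false, if_true] at hm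
        · simpa using mul_mem hm (inv_mem hzW)
        · exact hm
      obtain ⟨y, -, hV'⟩ := V.2
      obtain ⟨y', -, hW'⟩ := W.2
      refine Subgroup.eq_of_le_of_card_ge (fun x hx => ?_) (by rw [hV'.card, hW'.card])
      rcases hV4 x hx with rfl | rfl | rfl | rfl
      exacts [one_mem _, hzW, hvW', mul_mem hvW' hzW]
    subst hVW
    have hz1 := (hz V).2.1
    cases b <;> cases c <;> simp_all
  have hle := Nat.card_le_card_of_injective f hf
  rw [Nat.card_prod, Nat.card_eq_fintype_card (α := Bool), Fintype.card_bool, mul_comm] at hle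
  refine hle.trans ?_
  haveI := Fintype.ofFinite (Sylow 2 G)
  obtain ⟨S₀⟩ := (inferInstance : Nonempty (Sylow 2 G))
  rw [Nat.card_sigma, Finset.sum_const_nat (m := Nat.card (S₀ : Subgroup G))
    (fun S _ => by rw [S.card_eq_multiplicity, S₀.card_eq_multiplicity]),
    Finset.card_univ, ← Nat.card_eq_fintype_card, S₀.card_eq_index_normalizer,
    ← (S₀ : Subgroup G).index_mul_card]
  exact Nat.mul_le_mul_right _ (Nat.le_of_dvd (Nat.pos_of_ne_zero FiniteIndex.index_ne_zero)
    (index_dvd_of_le le_normalizer))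

theorem card_fours_le (hk : orderOf k = 3) :
    Nat.card {V : Subgroup G // IsFour k V} ≤ 36 := by
  classical
  set T := 2 ^ H.a * H.q ^ H.b with hT
  set Φ := {V : Subgroup G // ∃ y, orderOf y = 3 ∧ IsFour y V}
  let I := {p : Subgroup G × G // orderOf p.2 = 3 ∧ IsFour p.2 p.1}
  have h1 : Nat.card I = Nat.card Φ * 8 := by
    let e : I ≃ Σ V : Φ, {y : G // orderOf y = 3 ∧ IsFour y (V : Subgroup G)} :=
      { toFun := fun p => ⟨⟨p.1.1, p.1.2, p.2.1, p.2.2⟩, p.1.2, p.2⟩
        invFun := fun p => ⟨(p.1.1, p.2.1), p.2.2⟩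
        left_inv := fun p => rfl
        right_inv := fun p => rfl }
    haveI := Fintype.ofFinite Φ
    rw [Nat.card_congr e, Nat.card_sigma, Finset.sum_const_nat (m := 8), Finset.card_univ,
      ← Nat.card_eq_fintype_card]
    rintro ⟨V, y₀, hy₀, hV⟩ -
    have := H.card_three_normalizer hy₀ hV.max
    rw [hV.card] at this
    refine Eq.trans (Nat.card_congr (Equiv.subtypeEquivRight fun y => ?_)) this
    exact and_congr_right fun hy => ⟨fun h => h.max.inv.mem_normalizer,
      fun h => IsFour.of_mem H hy₀ hV hy h⟩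
  have h2 : Nat.card I = T * Nat.card {V : Subgroup G // IsFour k V} := by
    let Y := {y : G // orderOf y = 3}
    let e : I ≃ Σ y : Y, {V : Subgroup G // IsFour (y : G) V} :=
      { toFun := fun p => ⟨⟨p.1.2, p.2.1⟩, p.1.1, p.2.2⟩
        invFun := fun p => ⟨(p.2.1, p.1.1), p.1.2, p.2.2⟩
        left_inv := fun p => rfl
        right_inv := fun p => rfl }
    haveI := Fintype.ofFinite Y
    rw [Nat.card_congr e, Nat.card_sigma,
      Finset.sum_const_nat (m := Nat.card {V : Subgroup G // IsFour k V}), Finset.card_univ,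
      ← Nat.card_eq_fintype_card, H.card_class hk]
    rintro ⟨y, hy⟩ -
    obtain ⟨h, rfl⟩ := isConj_iff.mp (H.conj k y hk hy)
    refine (Nat.card_congr (Equiv.subtypeEquiv
      { toFun := fun L => cg h L
        invFun := fun L => cg h⁻¹ L
        left_inv := cg_inv_cg h
        right_inv := cg_cg_inv h } fun L => ⟨fun hL => IsFour.conj H hk hL h, fun hL => ?_⟩)).symm
    have h' := IsFour.conj H hy hL h⁻¹
    rw [show h⁻¹ * (h * k * h⁻¹) * h⁻¹⁻¹ = k by group] at h'
    simpa [cg_inv_cg] using h'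
  have h3 := H.card_all_fours_le
  rw [H.card, ← hT] at h3
  replace h3 : 2 * Nat.card Φ ≤ 9 * T := h3
  have hT0 : 0 < T := by have := H.prime.pos; positivity
  have h := h2.symm.trans h1
  by_contra hc
  push Not at hc
  have := Nat.mul_le_mul_left T hc
  omega

/-- The small case. -/
theorem false_small (hk : orderOf k = 3)
    (hs : ∀ P, Inv k P → IsPGroup 2 P → Nat.card P ≤ 4) : False := by
  classical
  haveI : Fact (Nat.Prime 2) := ⟨Nat.prime_two⟩
  have hti : ∀ K K', IsMax k K → IsMax k K' → K ≠ K' → K ⊓ K' = ⊥ := by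
    intro K K' hK hK' hne
    by_contra hD
    obtain ⟨U, -, -, -, -, D, L1, L2, hA⟩ :=
      H.exists_a5_of_inter hk _ K K' le_rfl hK hK' hne hD
    have h1 := hs L1 hA.inv1 hA.two1
    have h2 := hA.card1
    have h3 := hA.big
    omega
  have htwos : ∀ V, V ∈ H.twos k ↔ IsFour k V := by
    intro V
    rw [mem_twos]
    refine ⟨fun ⟨hV, hq⟩ => ⟨hV, ?_⟩, fun hV => ⟨hV.max, H.part_q_eq_bot hk hV⟩⟩
    obtain ⟨he, h2⟩ := H.twos_eq_part hk hV hq
    have hle := hs V hV.inv h2
    have hmod := H.card_mod_three hk hV.inv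
    have hne : Nat.card V ≠ 1 := fun e => hV.ne (Subgroup.eq_bot_of_card_eq _ e)
    omega
  have hcount : (H.twos k).card ≤ 36 := by
    refine le_of_eq_of_le ?_ (H.card_fours_le hk)
    rw [← Nat.card_eq_finsetCard]
    exact Nat.card_congr (Equiv.subtypeEquivRight htwos)
  letI := Fintype.ofFinite G
  obtain ⟨P⟩ := H.exists_pat hk
  rw [H.card_U hk fun K K' hK hK' _ => hti K K' hK hK', Finset.card_biUnion (fun K hK K' hK' hne =>
      disjoint_el (hti K K' ((htwos K).mp hK).max ((htwos K').mp hK').max hne)),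
    Finset.sum_const_nat (m := 3) (fun K hK => by rw [card_el, ((htwos K).mp hK).card])] at P
  by_cases hne : (H.qmaxes k).Nonempty
  · obtain ⟨K, hKq⟩ := hne
    obtain ⟨hK, hq⟩ := H.mem_qmaxes.mp hKq
    obtain ⟨i, hρ, hρ3⟩ := H.two_part_cases hk hK.inv
    have hρle : 2 ^ i ≤ 4 := hρ ▸ hs _ (H.part_inv hk hK.inv) (isPGroup_part 2 K)
    have hρ14 : 2 ^ i = 1 ∨ 2 ^ i = 4 := by omega
    obtain ⟨m, n, hm, hqc, hcard, h3, hn, hn1, heq⟩ := H.q_family hk hK hq
    rw [hρ] at hcard heq
    rw [H.sum_qmaxes hqc hcard, mul_comm _ 3, ← Nat.add_assoc] at P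
    have hdiv : m * 2 ^ H.a / (2 * 2 ^ i) = n := by
      rw [← heq, show 2 * n * 2 ^ i = n * (2 * 2 ^ i) by ring]
      exact Nat.mul_div_cancel _ (by positivity)
    exact no_small_q H.prime H.five_le H.two_le (i := (H.twos k).card) (by omega) hm hρ14 h3
      (by rw [hdiv]; exact hn) (by rw [hdiv]; exact hn1) P
  · rw [Finset.not_nonempty_iff_eq_empty.mp hne, Finset.sum_empty, add_zero, mul_comm _ 3] at P
    exact no_small_none H.prime H.five_le H.two_le (i := (H.twos k).card) (by omega) P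

end Hyp

end Cfsg.Agent.LAE65.OneClass
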