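import Cfsg.Agent.LAE65.OneClass.Base
import Cfsg.Agent.LAE65.OneClass.A5
import Cfsg.Agent.FT62.Main

/-!
# Normalisers of invariant subgroups

They are either nilpotent-by-(cyclic or symmetric of order at most six), or an elementary abelian
`2`-group by `A₅`.
-/

set_option autoImplicit false
set_option linter.unusedSectionVars false
set_option linter.style.haveILetI false

namespace Cfsg.Agent.LAE65.OneClass

open Subgroup Cfsg.Agent.FT62

universe u

variable {G : Type u} [Group G]

theorem Inv.mem' [Finite G] {k : G} {P : Subgroup G} (h : Inv k P) {n : G} (hn : n ∈ P) :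
    k⁻¹ * n * k ∈ P := by
  have hinj : Function.Injective fun m : P => (⟨k * m * k⁻¹, h.mem m m.2⟩ : P) := fun x y e =>
    Subtype.ext (mul_left_cancel (mul_right_cancel (congrArg Subtype.val e)))
  obtain ⟨m, hm⟩ := Finite.injective_iff_surjective.mp hinj ⟨n, hn⟩
  have e : k * (m : G) * k⁻¹ = n := congrArg Subtype.val hm
  rw [← e, show k⁻¹ * (k * (m : G) * k⁻¹) * k = m by group]
  exact m.2

theorem Inv.mem_normalizer [Finite G] {k : G} {P : Subgroup G} (h : Inv k P) :
    k ∈ normalizer (P : Set G) := by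
  rw [mem_normalizer_iff]
  exact fun n => ⟨h.mem n, fun hn => by simpa [mul_assoc] using h.mem' hn⟩

theorem Inv.mono {k : G} {P Q : Subgroup G} [Finite G] (h : Inv k P) (hQ : Q ≤ P)
    (hk : ∀ n ∈ Q, k * n * k⁻¹ ∈ Q) : Inv k Q :=
  ⟨hk, fun h3 => h.coprime (h3.trans (card_dvd_of_le hQ))⟩

/-- `N(U)` is nilpotent by a group of order at most six; `N` is its nilpotent part. -/
structure IsCore (k : G) (U N : Subgroup G) : Prop where
  inv : Inv k N
  le : N ≤ normalizer (U : Set G)
  normal : normalizer (U : Set G) ≤ normalizer (N : Set G)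
  index : N.relIndex (normalizer (U : Set G)) ∣ 6
  cover : ∀ P, Inv k P → P ≤ normalizer (U : Set G) → P ≤ N

/-- `N(U)` is an elementary abelian `2`-group `D` by `A₅`; `K1` and `K2` are the two invariant
preimages of four-groups. -/
structure IsA5Local (k : G) (U D K1 K2 : Subgroup G) : Prop where
  le_D : U ≤ D
  D_le : D ≤ normalizer (U : Set G)
  normal : normalizer (U : Set G) ≤ normalizer (D : Set G)
  comm : ∀ x ∈ D, ∀ y ∈ D, x * y = y * x
  sq : ∀ x ∈ D, x * x = 1
  inv : Inv k D
  inv1 : Inv k K1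
  inv2 : Inv k K2
  le1 : D ≤ K1
  le2 : D ≤ K2
  K1_le : K1 ≤ normalizer (U : Set G)
  K2_le : K2 ≤ normalizer (U : Set G)
  two1 : IsPGroup 2 K1
  two2 : IsPGroup 2 K2
  card1 : Nat.card K1 = 4 * Nat.card D
  card2 : Nat.card K2 = 4 * Nat.card D
  inf : ∀ x ∈ K1, x ∈ K2 → x ∈ D
  cover : ∀ P, Inv k P → P ≤ normalizer (U : Set G) → P ≤ K1 ∨ P ≤ K2
  cent : ∀ g ∈ normalizer (U : Set G), (∀ d ∈ D, g * d = d * g) → g ∈ D
  fix : ∀ d ∈ D, (∀ g ∈ K1, g * d = d * g) → (∀ g ∈ K2, g * d = d * g) → d = 1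
  big : 16 ≤ Nat.card D
  dvd : 60 ∣ Nat.card G

namespace Hyp

variable [Finite G] (H : Hyp G) {k : G}
include H

/-- Only powers of `k` centralise `k` in the normaliser of a nontrivial invariant subgroup. -/
theorem mem_zpowers_of_commute (hk : orderOf k = 3) {U : Subgroup G} (hU : Inv k U) (hne : U ≠ ⊥) {g : G}
    (hg : g ∈ normalizer (U : Set G)) (hgk : Commute g k) : g ∈ zpowers k := by
  by_contra hgz
  set Z : Subgroup G := (center U).map U.subtype with hZ
  have hZU : Z ≤ U := map_subtype_le _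
  have hnorm : ∀ t ∈ normalizer (U : Set G), ∀ z ∈ Z, t * z * t⁻¹ ∈ Z := by
    rintro t ht _ ⟨⟨z, hzU⟩, hz, rfl⟩
    refine ⟨⟨t * z * t⁻¹, (mem_normalizer_iff.mp ht z).mp hzU⟩, mem_center_iff.mpr ?_, rfl⟩
    rintro ⟨w, hw⟩
    have hw' : t⁻¹ * w * t ∈ U := by
      have := (mem_normalizer_iff.mp (inv_mem ht) w).mp hw
      rwa [inv_inv] at this
    have := congrArg Subtype.val (mem_center_iff.mp hz ⟨_, hw'⟩)
    apply Subtype.ext
    show w * (t * z * t⁻¹) = t * z * t⁻¹ * w
    calc w * (t * z * t⁻¹) = t * ((t⁻¹ * w * t) * z) * t⁻¹ := by group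
      _ = t * (z * (t⁻¹ * w * t)) * t⁻¹ := by rw [show t⁻¹ * w * t * z = z * (t⁻¹ * w * t) from this]
      _ = _ := by group
  have hZne : Z ≠ ⊥ := by
    haveI := (H.fpf hk hU).isNilpotent
    haveI : Nontrivial U := (nontrivial_iff_ne_bot U).mpr hne
    rw [hZ, Ne, map_eq_bot_iff_of_injective _ U.subtype_injective]
    exact Group.IsNilpotent.center_ne_bot U
  have hZ3 : ¬ 3 ∣ Nat.card Z := fun h => hU.coprime (h.trans (card_dvd_of_le hZU))
  have hgnot : ∀ i j : ℕ, g ^ i * k ^ j = 1 → g ^ i = 1 := by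
    intro i j e
    rcases (show i % 3 = 0 ∨ i % 3 = 1 ∨ i % 3 = 2 by omega) with h | h | h
    all_goals
      have hg3 := H.cube k g hk hgk
      have hi : g ^ i = g ^ (i % 3) := pow_eq_pow_mod i hg3
      rw [hi, h] at e ⊢
    · exact pow_zero g
    · rw [pow_one] at e
      exact absurd (by rw [eq_inv_of_mul_eq_one_left e]; exact inv_mem (pow_mem (mem_zpowers k) j)) hgz
    · refine absurd ?_ hgz
      have : g = g ^ 2 * g ^ 2 := by rw [← pow_add, pow_succ, hg3, one_mul]
      rw [this, eq_inv_of_mul_eq_one_left e]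
      exact mul_mem (inv_mem (pow_mem (mem_zpowers k) j)) (inv_mem (pow_mem (mem_zpowers k) j))
  -- the norm of every noncentral element of the group generated by `g` and `k`
  have hk' := hU.mem_normalizer
  have hnormrel : ∀ t : G, t ∈ normalizer (U : Set G) → Commute t k → t ^ 3 = 1 → t ≠ 1 →
      ∀ z ∈ Z, z * (t * z * t⁻¹) * (t⁻¹ * z * t) = 1 := by
    intro t ht htk ht3 ht1 z hz
    have hto := orderOf_eq_three ht3 ht1
    exact (H.fpf hto (P := Z) ⟨hnorm t ht, hZ3⟩).norm_eq_one hz
  have hk3 : k ^ 3 = 1 := hk ▸ pow_orderOf_eq_one k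
  have hg3 : g ^ 3 = 1 := H.cube k g hk hgk
  have hk1 : k ≠ 1 := fun e => by rw [e, orderOf_one] at hk; norm_num at hk
  have hg1 : g ≠ 1 := fun e => hgz (e ▸ one_mem _)
  apply hZne
  rw [eq_bot_iff]
  intro z hz
  rw [mem_bot]
  have hcommZ : ∀ x ∈ Z, ∀ y ∈ Z, x * y = y * x := by
    rintro _ ⟨x, hx, rfl⟩ _ ⟨y, -, rfl⟩
    exact congrArg Subtype.val (mem_center_iff.mp hx y).symm
  letI : CommGroup Z := { (inferInstance : Group Z) with
    mul_comm := fun x y => Subtype.ext (hcommZ x x.2 y y.2) }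
  classical
  let cj : G → Z := fun t =>
    if ht : t ∈ normalizer (U : Set G) then ⟨t * z * t⁻¹, hnorm t ht z hz⟩ else 1
  have hcj : ∀ t, t ∈ normalizer (U : Set G) → (cj t : G) = t * z * t⁻¹ := fun t ht => by
    simp [cj, ht]
  have rel : ∀ s t : G, s ∈ normalizer (U : Set G) → t ∈ normalizer (U : Set G) → Commute t k →
      t ^ 3 = 1 → t ≠ 1 → cj s * cj (t * s) * cj (t * t * s) = 1 := by
    intro s t hs ht htk ht3 ht1
    apply Subtype.ext
    rw [Subgroup.coe_mul, Subgroup.coe_mul, hcj s hs, hcj _ (mul_mem ht hs),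
      hcj _ (mul_mem (mul_mem ht ht) hs)]
    have h := hnormrel t ht htk ht3 ht1 _ (hnorm s hs z hz)
    have e : t⁻¹ = t * t := inv_eq_of_mul_eq_one_right (by rw [← mul_assoc, ← pow_three', ht3])
    rw [show t⁻¹ * (s * z * s⁻¹) * t = t * t * (s * z * s⁻¹) * (t * t)⁻¹ by
      rw [← e, inv_inv]] at h
    rw [OneMemClass.coe_one, ← h]
    group
  have ckg : Commute g k := hgk
  have e1 := rel 1 k (one_mem _) hk' (Commute.refl k) hk3 hk1
  have e2 := rel 1 g (one_mem _) hg hgk hg3 hg1
  have e3 := rel 1 (g * k) (one_mem _) (mul_mem hg hk') (hgk.mul_left (Commute.refl k))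
    (by rw [ckg.mul_pow, hg3, hk3, one_mul]) (fun e => hg1 (by simpa using hgnot 1 1 (by simpa using e)))
  have e4 := rel 1 (g * (k * k)) (one_mem _) (mul_mem hg (mul_mem hk' hk'))
    (hgk.mul_left ((Commute.refl k).mul_left (Commute.refl k)))
    (by rw [(ckg.mul_right ckg).mul_pow, hg3, (Commute.refl k).mul_pow, hk3, one_mul, one_mul])
    (fun e => hg1 (by simpa using hgnot 1 2 (by simpa [pow_two] using e)))
  have e5 := rel g k hg hk' (Commute.refl k) hk3 hk1
  have e6 := rel (g * g) k (mul_mem hg hg) hk' (Commute.refl k) hk3 hk1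
  simp only [mul_one] at e1 e2 e3 e4
  rw [pow_three'] at hk3 hg3
  have s1 : g * k * (g * k) = k * k * (g * g) := by
    calc g * k * (g * k) = g * (k * g) * k := by group
      _ = g * g * (k * k) := by rw [← ckg.eq]; group
      _ = k * k * (g * g) := ((ckg.mul_left ckg).mul_right (ckg.mul_left ckg)).eq
  have s2 : g * (k * k) * (g * (k * k)) = k * (g * g) := by
    calc g * (k * k) * (g * (k * k)) = g * ((k * k) * g) * (k * k) := by group
      _ = g * g * ((k * k * k) * k) := by rw [← (ckg.mul_right ckg).eq]; group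
      _ = k * (g * g) := by rw [hk3, one_mul]; exact (ckg.mul_left ckg).eq
  rw [s1] at e3
  rw [s2] at e4
  rw [show g * k = k * g from ckg.eq] at e3
  rw [show g * (k * k) = k * k * g from (ckg.mul_right ckg).eq] at e4
  have hz3 : cj 1 * cj 1 * cj 1 = 1 := by
    generalize cj 1 = A00 at e1 e2 e3 e4 ⊢
    generalize cj k = A10 at e1
    generalize cj (k * k) = A20 at e1
    generalize cj g = A01 at e2 e5
    generalize cj (g * g) = A02 at e2 e6
    generalize cj (k * g) = A11 at e3 e5
    generalize cj (k * k * g) = A21 at e4 e5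
    generalize cj (k * (g * g)) = A12 at e4 e6
    generalize cj (k * k * (g * g)) = A22 at e3 e6
    calc A00 * A00 * A00 = A00 * A00 * A00 * ((A01 * A11 * A21) * (A02 * A12 * A22)) := by
          rw [e5, e6, one_mul, mul_one]
      _ = (A00 * A01 * A02) * (A00 * A11 * A22) * (A00 * A21 * A12) := by ac_rfl
      _ = 1 := by rw [e2, e3, e4, one_mul, one_mul]
  have h3' := congrArg Subtype.val hz3
  rw [Subgroup.coe_mul, Subgroup.coe_mul, hcj 1 (one_mem _), one_mul, inv_one, mul_one,
    OneMemClass.coe_one] at h3'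
  exact not_three_mem hU.coprime (hZU hz) (by rw [pow_three']; exact h3')

/-- The type of the normaliser of a nontrivial invariant subgroup. -/
theorem types (hk : orderOf k = 3) {U : Subgroup G} (hU : Inv k U) (hne : U ≠ ⊥) :
    (∃ N, IsCore k U N) ∨ H.q = 5 ∧ ∃ D K1 K2, IsA5Local k U D K1 K2 := by
  set M := normalizer (U : Set G) with hM
  have hkM : k ∈ M := hU.mem_normalizer
  set x : M := ⟨k, hkM⟩ with hxdef
  have hs : SelfCent x := by
    refine ⟨by rw [Subgroup.orderOf_mk, hk], fun g hg => ?_⟩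
    obtain ⟨i, hi⟩ := mem_zpowers_iff.mp (H.mem_zpowers_of_commute hk hU hne g.2 (congrArg Subtype.val hg.eq))
    exact mem_zpowers_iff.mpr ⟨i, Subtype.ext (by rw [Subgroup.coe_zpow]; exact hi)⟩
  haveI : (U.subgroupOf M).Normal := normal_subgroupOf_of_le_normalizer le_rfl
  have hxU : x ∉ U.subgroupOf M := H.notMem hk hU
  have hU3 : ∀ P : Subgroup M, x ∉ P → (∀ n ∈ P, x * n * x⁻¹ ∈ P) → Inv k (P.map M.subtype) := by
    intro P hxP hP
    refine ⟨?_, ?_⟩
    · rintro _ ⟨n, hn, rfl⟩
      exact ⟨x * n * x⁻¹, hP n hn, rfl⟩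
    · rw [card_map_of_injective M.subtype_injective]
      exact hs.not_dvd hP hxP
  rcases FT62.concl hs with hA | hB | hC
  · obtain ⟨N, hN, hxN, hX⟩ := hA
    refine Or.inl ⟨N.map M.subtype,
      ⟨hU3 N hxN (fun n hn => hN.conj_mem n hn x), map_subtype_le N, ?_, ?_, fun P hP hPM => ?_⟩⟩
    · intro g hg
      rw [mem_normalizer_iff]
      intro n
      constructor
      · rintro ⟨m, hm, rfl⟩
        exact ⟨⟨g, hg⟩ * m * (⟨g, hg⟩ : M)⁻¹, hN.conj_mem m hm _, rfl⟩
      · rintro ⟨m, hm, e⟩
        refine ⟨(⟨g, hg⟩ : M)⁻¹ * m * ⟨g, hg⟩, by simpa using hN.conj_mem m hm (⟨g, hg⟩ : M)⁻¹, ?_⟩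
        show g⁻¹ * (m : G) * g = n
        rw [show (m : G) = g * n * g⁻¹ from e]; group
    · rw [relIndex, subgroupOf, comap_map_eq_self_of_injective M.subtype_injective, index]
      exact (hs.quotient N hxN).card_dvd_six hX
    · have := hs.le_of_normal_zpowers hxN hX (P := P.subgroupOf M)
        (fun n hn => hP.mem _ hn) (H.notMem hk hP)
      intro p hp
      exact ⟨⟨p, hPM hp⟩, this hp, rfl⟩
  · obtain ⟨N, hN, hxN, hNc, hN2, ⟨e0⟩⟩ := hB
    haveI := Fact.mk Nat.prime_three
    obtain ⟨c, hc⟩ := exists_conj_cyc (e0 (QuotientGroup.mk x)) (by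
      rw [← map_pow, ← QuotientGroup.mk_pow]
      rw [show x ^ 3 = 1 by rw [← hs.ord, pow_orderOf_eq_one], QuotientGroup.mk_one,
        map_one]) (fun e => hxN ((QuotientGroup.eq_one_iff _).mp (e0.injective
          (e.trans e0.map_one.symm))))
    let π : M →* A5 := (e0.trans (MulAut.conj c)).toMonoidHom.comp (QuotientGroup.mk' N)
    have hπ : Function.Surjective π :=
      (e0.trans (MulAut.conj c)).surjective.comp (QuotientGroup.mk'_surjective N)
    have hker : ∀ n, π n = 1 ↔ n ∈ N := fun n => by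
      rw [← QuotientGroup.eq_one_iff (N := N) n]
      exact (e0.trans (MulAut.conj c)).map_eq_one_iff
    have hπx : π x = cyc := hc
    have h60 : Nat.card M = 60 * Nat.card N := by
      rw [N.card_eq_card_quotient_mul_card_subgroup, Nat.card_congr e0.toEquiv, card_A5]
    have h60G : 60 ∣ Nat.card G := (Dvd.intro _ h60.symm).trans (card_subgroup_dvd_card M)
    have hq5 : H.q = 5 := by
      have h5 : 5 ∣ 9 * (2 ^ H.a * H.q ^ H.b) := H.card ▸ (Dvd.dvd.trans (by norm_num) h60G)
      rcases (Nat.Prime.dvd_mul Nat.prime_five).mp h5 with h | h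
      · norm_num at h
      rcases (Nat.Prime.dvd_mul Nat.prime_five).mp h with h | h
      · exact absurd (Nat.prime_five.dvd_of_dvd_pow h) (by norm_num)
      · exact ((Nat.prime_dvd_prime_iff_eq Nat.prime_five H.prime).mp
          (Nat.prime_five.dvd_of_dvd_pow h)).symm
    refine Or.inr ⟨hq5, ?_⟩
    have h3 : ∀ (P : Subgroup G), Inv k P → ∀ p : M, (p : G) ∈ P → π p ≠ cyc ∧ π p ≠ cyc⁻¹ := by
      intro P hP p hp
      have key : ∀ z : A5, π p = z → orderOf z = 3 → False := by
        intro z hz hz3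
        refine hP.coprime ?_
        rw [← hz3, ← hz]
        refine (orderOf_map_dvd π p).trans ?_
        rw [← orderOf_coe]
        exact Subgroup.orderOf_dvd_natCard P hp
      have hord : orderOf cyc = 3 := orderOf_eq_prime (by decide +kernel) (by decide +kernel)
      exact ⟨fun e => key _ e hord, fun e => key _ e (by rw [orderOf_inv]; exact hord)⟩
    have hUN : ∀ d : M, (d : G) ∈ U → d ∈ N := by
      have hn : ((U.subgroupOf M).map π).Normal := Subgroup.Normal.map inferInstance π hπ
      haveI : IsSimpleGroup A5 := alternatingGroup.isSimpleGroup_five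
      rcases hn.eq_bot_or_eq_top with e | e
      · intro d hd
        rw [← hker, ← Subgroup.mem_bot, ← e]
        exact Subgroup.mem_map_of_mem π hd
      · exfalso
        obtain ⟨d, hd, hde⟩ := (e.symm ▸ mem_top cyc : cyc ∈ (U.subgroupOf M).map π)
        exact (h3 U hU d hd).1 hde
    -- preimages of four-groups
    have hlift : ∀ F : Subgroup A5, (∀ a ∈ F, cyc * a * cyc⁻¹ ∈ F) → cyc ∉ F →
        (∀ a ∈ F, a * a = 1) → F.index = 15 →
        Inv k ((F.comap π).map M.subtype) ∧ IsPGroup 2 ((F.comap π).map M.subtype) ∧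
          Nat.card ((F.comap π).map M.subtype) = 4 * Nat.card (N.map M.subtype) := by
      intro F hF hcF hsq hidx
      refine ⟨hU3 _ (fun hx => hcF (by rw [← hπx]; exact hx)) (fun n hn => ?_), ?_, ?_⟩
      · show π _ ∈ F
        rw [map_mul, map_mul, map_inv, hπx]
        exact hF _ hn
      · rintro ⟨_, n, hn, rfl⟩
        refine ⟨2, Subtype.ext ?_⟩
        have h1 : (n * n) ^ 2 = 1 :=
          hN2 _ ((hker _).mp (by rw [map_mul]; exact hsq _ hn))
        have h2 := congrArg Subtype.val h1
        simpa [pow_two, pow_succ, mul_assoc] using h2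
      · rw [card_map_of_injective M.subtype_injective, card_map_of_injective M.subtype_injective]
        have h := (F.comap π).card_mul_index
        rw [index_comap_of_surjective F hπ, hidx, h60] at h
        omega
    have h4sq : ∀ a ∈ four4, a * a = 1 := fun a ha => ha.1
    have h3sq : ∀ a ∈ four3, a * a = 1 := fun a ha => (mem_four3.mp ha).1
    obtain ⟨hK1, hK1p, hK1c⟩ := hlift four4 (fun a => cyc_conj_four4) cyc_notMem.1 h4sq four4_index
    obtain ⟨hK2, hK2p, hK2c⟩ := hlift four3 (fun a => cyc_conj_four3) cyc_notMem.2 h3sq four3_index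
    have hNle : ∀ F : Subgroup A5, N.map M.subtype ≤ (F.comap π).map M.subtype := fun F =>
      map_mono fun n hn => by
        show π n ∈ F
        rw [(hker n).mpr hn]; exact one_mem F
    have hNinv : Inv k (N.map M.subtype) := hU3 N hxN (fun n hn => hN.conj_mem n hn x)
    refine ⟨N.map M.subtype, (four4.comap π).map M.subtype, (four3.comap π).map M.subtype,
      ⟨fun u hu => ⟨⟨u, le_normalizer hu⟩, hUN _ hu, rfl⟩, map_subtype_le _, ?_, ?_, ?_, hNinv,
        hK1, hK2, hNle _, hNle _, map_subtype_le _, map_subtype_le _, hK1p, hK2p, hK1c, hK2c,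
        ?_, ?_, ?_, ?_, ?_, h60G⟩⟩
    · intro g hg
      rw [mem_normalizer_iff]
      intro n
      constructor
      · rintro ⟨m, hm, rfl⟩
        exact ⟨⟨g, hg⟩ * m * (⟨g, hg⟩ : M)⁻¹, hN.conj_mem m hm _, rfl⟩
      · rintro ⟨m, hm, e⟩
        refine ⟨(⟨g, hg⟩ : M)⁻¹ * m * ⟨g, hg⟩, by simpa using hN.conj_mem m hm (⟨g, hg⟩ : M)⁻¹, ?_⟩
        show g⁻¹ * (m : G) * g = n
        rw [show (m : G) = g * n * g⁻¹ from e]; group
    · rintro _ ⟨a, ha, rfl⟩ _ ⟨b, hb, rfl⟩
      exact congrArg Subtype.val (hNc a ha b hb)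
    · rintro _ ⟨a, ha, rfl⟩
      have := congrArg Subtype.val (hN2 a ha)
      rwa [pow_two] at this
    · rintro _ ⟨a, ha, rfl⟩ ⟨b, hb, e⟩
      refine ⟨a, (hker a).mp (four_inf ha ?_), rfl⟩
      rw [show a = b from Subtype.ext e.symm]
      exact hb
    · intro P hP hPM
      have hcov : ∀ p : M, (p : G) ∈ P → π p ∈ four4 ∨ π p ∈ four3 := by
        intro p hp
        have hf := H.fpf hk hP
        refine four_cover ?_ ?_ (h3 P hP p hp).1 (h3 P hP p hp).2
        · rw [← hπx, ← map_inv, ← map_mul, ← map_mul, ← map_mul, ← map_mul]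
          exact congrArg π (Subtype.ext (hf.comm hp).eq)
        · rw [← hπx, ← map_inv, ← map_mul, ← map_mul, ← map_mul, ← map_mul, ← map_mul, ← map_mul,
            show (1 : A5) = π 1 from (map_one π).symm]
          exact congrArg π (Subtype.ext (hf.norm_eq_one hp))
      by_contra hcon
      simp only [not_or] at hcon
      obtain ⟨p, hp, hp'⟩ := SetLike.not_le_iff_exists.mp hcon.1
      obtain ⟨q, hq, hq'⟩ := SetLike.not_le_iff_exists.mp hcon.2
      have hp4 : π ⟨p, hPM hp⟩ ∉ four4 := fun h => hp' ⟨_, h, rfl⟩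
      have hq3 : π ⟨q, hPM hq⟩ ∉ four3 := fun h => hq' ⟨_, h, rfl⟩
      have hp3 := (hcov ⟨p, hPM hp⟩ hp).resolve_left hp4
      have hq4 := (hcov ⟨q, hPM hq⟩ hq).resolve_right hq3
      rcases hcov (⟨p, hPM hp⟩ * ⟨q, hPM hq⟩) (mul_mem hp hq) with h | h <;> rw [map_mul] at h
      · exact hp4 ((mul_mem_cancel_right hq4).mp h)
      · exact hq3 ((mul_mem_cancel_left hp3).mp h)
    · intro g hg hgc
      set C : Subgroup M := centralizer (N : Set M) with hC
      haveI : C.Normal := Subgroup.normal_centralizer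
      have hgC : (⟨g, hg⟩ : M) ∈ C := mem_centralizer_iff.mpr fun n hn =>
        Subtype.ext (hgc n ⟨n, hn, rfl⟩).symm
      have hn : (C.map π).Normal := Subgroup.Normal.map inferInstance π hπ
      haveI : IsSimpleGroup A5 := alternatingGroup.isSimpleGroup_five
      rcases hn.eq_bot_or_eq_top with e | e
      · refine ⟨⟨g, hg⟩, (hker _).mp ?_, rfl⟩
        rw [← Subgroup.mem_bot, ← e]
        exact Subgroup.mem_map_of_mem π hgC
      · exfalso
        obtain ⟨d, hd, hde⟩ := (e.symm ▸ mem_top cyc : cyc ∈ C.map π)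
        have hdx : d⁻¹ * x ∈ N := by rw [← hker, map_mul, map_inv, hde, hπx, inv_mul_cancel]
        obtain ⟨u, hu, hu1⟩ := (bot_or_exists_ne_one U).resolve_left hne
        apply hu1
        refine not_three_mem hU.coprime hu (H.cube k u hk ?_)
        have huN : (⟨u, le_normalizer hu⟩ : M) ∈ N := hUN _ hu
        have h1 : Commute (⟨u, le_normalizer hu⟩ : M) d := mem_centralizer_iff.mp hd _ huN
        have h2 : Commute (⟨u, le_normalizer hu⟩ : M) (d⁻¹ * x) := hNc _ huN _ hdx
        have h4 := h1.mul_right h2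
        rw [mul_inv_cancel_left] at h4
        exact congrArg Subtype.val h4.eq
    · rintro _ ⟨d, hd, rfl⟩ hd1 hd2
      set F : Subgroup M := centralizer ({d} : Set M) with hF
      have hc : cyc ∈ F.map π := by
        refine cyc_mem (fun a ha => ?_) (fun a ha => ?_) <;> obtain ⟨m, rfl⟩ := hπ a
        · exact ⟨m, mem_centralizer_singleton_iff.mpr (Subtype.ext (hd1 m ⟨m, ha, rfl⟩)), rfl⟩
        · exact ⟨m, mem_centralizer_singleton_iff.mpr (Subtype.ext (hd2 m ⟨m, ha, rfl⟩)), rfl⟩
      obtain ⟨g, hg, hge⟩ := hc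
      have hgx : g⁻¹ * x ∈ N := by rw [← hker, map_mul, map_inv, hge, hπx, inv_mul_cancel]
      have h1 : Commute d g := (mem_centralizer_singleton_iff.mp hg).symm
      have h2 : Commute d (g⁻¹ * x) := hNc _ hd _ hgx
      have h4 := h1.mul_right h2
      rw [mul_inv_cancel_left] at h4
      exact not_three_mem hNinv.coprime ⟨d, hd, rfl⟩ (H.cube k _ hk (congrArg Subtype.val h4.eq))
    · by_contra hlt
      push Not at hlt
      rw [card_map_of_injective M.subtype_injective] at hlt
      haveI : Fact (Nat.Prime 2) := ⟨Nat.prime_two⟩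
      haveI : Fact (Nat.Prime 5) := ⟨Nat.prime_five⟩
      have hP2 : IsPGroup 2 N := fun n => ⟨1, Subtype.ext (by simpa using hN2 n n.2)⟩
      obtain ⟨a, ha⟩ := hP2.exists_card_eq
      have ha4 : a < 4 := by
        by_contra h
        push Not at h
        have := Nat.pow_le_pow_right (show 0 < 2 by norm_num) h
        omega
      -- an element of order five cannot move anything
      obtain ⟨y, hy⟩ := exists_prime_orderOf_dvd_card' (G := M) 5 (h60 ▸ Dvd.dvd.mul_right (by norm_num) _)
      have hyN : y ∉ N := fun h => by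
        have := N.orderOf_dvd_natCard h
        rw [hy, ha] at this
        have := Nat.prime_five.dvd_of_dvd_pow this
        norm_num at this
      let φ : N →* N :=
        { toFun := fun n => ⟨y * n * y⁻¹, hN.conj_mem n n.2 y⟩
          map_one' := Subtype.ext (by simp)
          map_mul' := fun n m => Subtype.ext (by simp [mul_assoc]) }
      letI : MulAction (zpowers y) N :=
        { smul := fun t n => ⟨(t : M) * n * (t : M)⁻¹, hN.conj_mem n n.2 t⟩
          one_smul := fun n => Subtype.ext (by show (1 : M) * (n : M) * (1 : M)⁻¹ = n; group)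
          mul_smul := fun s t n => Subtype.ext (by
            show ((s : M) * t) * (n : M) * ((s : M) * t)⁻¹ = s * (t * n * (t : M)⁻¹) * (s : M)⁻¹
            group) }
      have hmod := (IsPGroup.of_card (p := 5) (n := 1) (G := zpowers y)
        (by rw [Nat.card_zpowers, hy, pow_one])).card_modEq_card_fixedPoints N
      set Fx : Subgroup N := (φ.eqLocus (MonoidHom.id N)) with hFx
      have hfix : Nat.card (MulAction.fixedPoints (zpowers y) N) = Nat.card Fx := by
        refine Nat.card_congr (Equiv.subtypeEquivRight fun n => ⟨fun h => ?_, fun h t => ?_⟩)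
        · exact h ⟨y, Subgroup.mem_zpowers y⟩
        · obtain ⟨i, hi⟩ := mem_zpowers_iff.mp t.2
          have hc : Commute y (n : M) := by
            have := congrArg Subtype.val (show φ n = n from h)
            exact mul_inv_eq_iff_eq_mul.mp this
          refine Subtype.ext ?_
          show (t : M) * (n : M) * (t : M)⁻¹ = n
          rw [← hi, (hc.zpow_left i).eq, mul_inv_cancel_right]
      obtain ⟨f, hf⟩ := (hP2.to_subgroup Fx).exists_card_eq
      have hfa : f ≤ a := by
        have := Fx.card_subgroup_dvd_card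
        rw [hf, ha] at this
        exact (Nat.pow_dvd_pow_iff_le_right (by norm_num)).mp this
      have hfa' : f = a := by
        rw [hfix, hf, ha, Nat.ModEq] at hmod
        interval_cases a <;> interval_cases f <;> simp_all
      subst hfa'
      have htop : Fx = ⊤ := eq_top_of_card_eq _ (by rw [hf, ha])
      -- then `y` centralises `N`
      haveI : (centralizer (N : Set M)).Normal := Subgroup.normal_centralizer
      have hyC : y ∈ centralizer (N : Set M) := mem_centralizer_iff.mpr fun n hn => by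
        have : φ ⟨n, hn⟩ = ⟨n, hn⟩ := (htop ▸ mem_top _ : (⟨n, hn⟩ : N) ∈ Fx)
        exact (mul_inv_eq_iff_eq_mul.mp (congrArg Subtype.val this)).symm
      have hn : ((centralizer (N : Set M)).map π).Normal := Subgroup.Normal.map inferInstance π hπ
      haveI : IsSimpleGroup A5 := alternatingGroup.isSimpleGroup_five
      rcases hn.eq_bot_or_eq_top with e | e
      · exact hyN ((hker y).mp (Subgroup.mem_bot.mp (e ▸ mem_map_of_mem π hyC)))
      · obtain ⟨d, hd, hde⟩ := (e.symm ▸ mem_top cyc : cyc ∈ (centralizer (N : Set M)).map π)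
        have hdx : d⁻¹ * x ∈ N := by rw [← hker, map_mul, map_inv, hde, hπx, inv_mul_cancel]
        obtain ⟨u, hu, hu1⟩ := (bot_or_exists_ne_one U).resolve_left hne
        apply hu1
        refine not_three_mem hU.coprime hu (H.cube k u hk ?_)
        have huN : (⟨u, le_normalizer hu⟩ : M) ∈ N := hUN _ hu
        have h1 : Commute (⟨u, le_normalizer hu⟩ : M) d := mem_centralizer_iff.mp hd _ huN
        have h2 : Commute (⟨u, le_normalizer hu⟩ : M) (d⁻¹ * x) := hNc _ huN _ hdx
        have h4 := h1.mul_right h2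
        rw [mul_inv_cancel_left] at h4
        exact congrArg Subtype.val h4.eq
  · exfalso
    obtain ⟨e⟩ := hC
    have hn : ((U.subgroupOf M).map e.toMonoidHom).Normal :=
      Subgroup.Normal.map inferInstance _ e.surjective
    haveI : IsSimpleGroup L7 := FT62.isSimpleGroup_L7
    rcases hn.eq_bot_or_eq_top with h | h
    · rw [Subgroup.map_eq_bot_iff_of_injective _ e.injective, subgroupOf_eq_bot, disjoint_iff,
        inf_eq_left.mpr le_normalizer] at h
      exact hne h
    · obtain ⟨d, hd, hde⟩ := (h ▸ mem_top _ : e x ∈ (U.subgroupOf M).map e.toMonoidHom)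
      exact hxU (e.injective hde ▸ hd)

end Hyp

end Cfsg.Agent.LAE65.OneClass
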